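/-
Character theory core, part 1: trace functions of representations versus `Cfsg.IsCharacter`.

* `isCharacter_character`, `isIrrCharacter_character`: any finite-dimensional representation will do
* `isIrreducible_congr`, `transport`, `exists_rep_of_isCharacter`
* closure: `isCharacter_zero`, `isCharacter_one`, `IsCharacter.add`, `.sum`, `.nsmul`, `.mul`, `.inv`,
  `.comp_hom`, `.restrict`, `isIrrCharacter_of_hom` (linear characters)
* `IsCharacter.isClassFunction`, `IsCharacter.apply_one`, `IsIrrCharacter.exists_degree`
* `isCharacter_induction`: every character is a sum of irreducible ones (Maschke)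
-/
import Cfsg.Agent.EqLemmas

set_option autoImplicit false

namespace Cfsg.Agent.Char

open Cfsg LinearMap Module

variable {G : Type*} [Group G]

section transport

variable {V W : Type*} [AddCommGroup V] [Module ℂ V] [AddCommGroup W] [Module ℂ W]

/-- The representation on `W` obtained by transport along a linear equivalence. -/
noncomputable def transport (ρ : Representation ℂ G V) (e : V ≃ₗ[ℂ] W) : Representation ℂ G W where
  toFun g := e.conj (ρ g)
  map_one' := by ext w; simp
  map_mul' g h := by ext w; simp

@[simp] theorem transport_apply (ρ : Representation ℂ G V) (e : V ≃ₗ[ℂ] W) (g : G) (w : W) :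
    transport ρ e g w = e (ρ g (e.symm w)) := rfl

/-- The tautological equivalence between a representation and its transport. -/
noncomputable def transportEquiv (ρ : Representation ℂ G V) (e : V ≃ₗ[ℂ] W) :
    ρ.Equiv (transport ρ e) :=
  Representation.Equiv.mk e (fun g => by ext v; simp)

theorem character_transport (ρ : Representation ℂ G V) (e : V ≃ₗ[ℂ] W) :
    (transport ρ e).character = ρ.character :=
  (Representation.char_iso (transportEquiv ρ e)).symm

theorem isIrreducible_congr {ρ : Representation ℂ G V} {σ : Representation ℂ G W}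
    (φ : ρ.Equiv σ) (h : ρ.IsIrreducible) : σ.IsIrreducible := by
  refine (OrderIso.isSimpleOrder_iff (β := Subrepresentation σ) ?_).1 h
  exact
  { toFun := fun p => ⟨p.toSubmodule.map φ.toLinearEquiv.toLinearMap, by
      rintro g _ ⟨v, hv, rfl⟩
      exact ⟨ρ g v, p.apply_mem_toSubmodule g hv, φ.toIntertwiningMap.isIntertwining ρ σ g v⟩⟩
    invFun := fun p => ⟨p.toSubmodule.comap φ.toLinearEquiv.toLinearMap, by
      intro g v hv
      have := φ.toIntertwiningMap.isIntertwining ρ σ g v
      show φ.toIntertwiningMap (ρ g v) ∈ p.toSubmodule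
      rw [this]
      exact p.apply_mem_toSubmodule g hv⟩
    left_inv := fun p => Subrepresentation.toSubmodule_injective
      (Submodule.comap_map_eq_of_injective φ.toLinearEquiv.injective _)
    right_inv := fun p => Subrepresentation.toSubmodule_injective
      (Submodule.map_comap_eq_of_surjective φ.toLinearEquiv.surjective _)
    map_rel_iff' := fun {p q} => Submodule.map_le_map_iff_of_injective φ.toLinearEquiv.injective _ _ }

theorem nontrivial_of_isIrreducible (ρ : Representation ℂ G V) [h : ρ.IsIrreducible] :
    Nontrivial V := by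
  by_contra hV
  rw [not_nontrivial_iff_subsingleton] at hV
  have : (⊥ : Subrepresentation ρ) = ⊤ :=
    Subrepresentation.toSubmodule_injective (Subsingleton.elim _ _)
  exact bot_ne_top this

end transport

section toCharacter

variable {V : Type*} [AddCommGroup V] [Module ℂ V] [FiniteDimensional ℂ V]

/-- The trace function of any finite-dimensional representation is a character. -/
theorem isCharacter_character (ρ : Representation ℂ G V) : IsCharacter G ρ.character :=
  ⟨finrank ℂ V, transport ρ (Module.finBasis ℂ V).equivFun, character_transport ρ _⟩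

/-- The trace function of any finite-dimensional irreducible representation is irreducible. -/
theorem isIrrCharacter_character (ρ : Representation ℂ G V) [h : ρ.IsIrreducible] :
    IsIrrCharacter G ρ.character :=
  ⟨finrank ℂ V, transport ρ (Module.finBasis ℂ V).equivFun,
    isIrreducible_congr (transportEquiv ρ _) h, character_transport ρ _⟩

end toCharacter

theorem IsIrrCharacter.isCharacter {χ : G → ℂ} (h : IsIrrCharacter G χ) : IsCharacter G χ :=
  let ⟨n, ρ, _, hρ⟩ := h; ⟨n, ρ, hρ⟩

theorem isClassFunction_character {V : Type*} [AddCommGroup V] [Module ℂ V]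
    (ρ : Representation ℂ G V) : IsClassFunction G ρ.character :=
  fun g h => ρ.char_conj g h

theorem IsCharacter.isClassFunction {χ : G → ℂ} (h : IsCharacter G χ) : IsClassFunction G χ := by
  obtain ⟨n, ρ, rfl⟩ := h; exact isClassFunction_character ρ

theorem IsIrrCharacter.isClassFunction {χ : G → ℂ} (h : IsIrrCharacter G χ) :
    IsClassFunction G χ := IsCharacter.isClassFunction (IsIrrCharacter.isCharacter h)

theorem IsCharacter.exists_degree {χ : G → ℂ} (h : IsCharacter G χ) : ∃ n : ℕ, χ 1 = n := by
  obtain ⟨n, ρ, rfl⟩ := h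
  exact ⟨_, Representation.char_one ρ⟩

theorem IsIrrCharacter.exists_degree {χ : G → ℂ} (h : IsIrrCharacter G χ) :
    ∃ n : ℕ, 0 < n ∧ χ 1 = n := by
  obtain ⟨n, ρ, hi, rfl⟩ := h
  have := nontrivial_of_isIrreducible ρ
  exact ⟨_, finrank_pos, Representation.char_one ρ⟩

theorem IsIrrCharacter.apply_one_ne_zero {χ : G → ℂ} (h : IsIrrCharacter G χ) : χ 1 ≠ 0 := by
  obtain ⟨n, hn, he⟩ := IsIrrCharacter.exists_degree h
  rw [he]; exact_mod_cast hn.ne'

theorem IsIrrCharacter.ne_zero {χ : G → ℂ} (h : IsIrrCharacter G χ) : χ ≠ 0 :=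
  fun h0 => IsIrrCharacter.apply_one_ne_zero h (by rw [h0]; rfl)

section closure

theorem isCharacter_zero : IsCharacter G (0 : G → ℂ) := by
  refine ⟨0, 1, ?_⟩
  ext g; simp [Representation.character]

theorem isCharacter_one : IsCharacter G (1 : G → ℂ) := by
  convert isCharacter_character (Representation.trivial ℂ G ℂ) using 1
  ext g; simp [Representation.character]

theorem character_prod {V W : Type*} [AddCommGroup V] [Module ℂ V] [FiniteDimensional ℂ V]
    [AddCommGroup W] [Module ℂ W] [FiniteDimensional ℂ W]
    (ρ : Representation ℂ G V) (σ : Representation ℂ G W) :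
    (ρ.prod σ).character = ρ.character + σ.character := by
  ext g; exact trace_prodMap' (ρ g) (σ g)

theorem IsCharacter.add {χ ψ : G → ℂ} (hχ : IsCharacter G χ) (hψ : IsCharacter G ψ) :
    IsCharacter G (χ + ψ) := by
  obtain ⟨n, ρ, rfl⟩ := hχ
  obtain ⟨m, σ, rfl⟩ := hψ
  rw [← character_prod]; exact isCharacter_character _

theorem IsCharacter.sum {ι : Type*} (s : Finset ι) {f : ι → G → ℂ}
    (h : ∀ i ∈ s, IsCharacter G (f i)) : IsCharacter G (∑ i ∈ s, f i) := by
  classical
  induction s using Finset.induction_on with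
  | empty => simpa using isCharacter_zero
  | insert a s ha ih =>
    rw [Finset.sum_insert ha]
    exact IsCharacter.add (h a (Finset.mem_insert_self a s)) (ih fun i hi => h i (Finset.mem_insert_of_mem hi))

theorem IsCharacter.nsmul {χ : G → ℂ} (hχ : IsCharacter G χ) (n : ℕ) :
    IsCharacter G (n • χ) := by
  induction n with
  | zero => simpa using isCharacter_zero
  | succ n ih => rw [succ_nsmul]; exact IsCharacter.add ih hχ

theorem IsCharacter.natCast_smul {χ : G → ℂ} (hχ : IsCharacter G χ) (n : ℕ) :
    IsCharacter G ((n : ℂ) • χ) := by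
  rw [Nat.cast_smul_eq_nsmul]; exact IsCharacter.nsmul hχ n

theorem IsCharacter.mul {χ ψ : G → ℂ} (hχ : IsCharacter G χ) (hψ : IsCharacter G ψ) :
    IsCharacter G (χ * ψ) := by
  obtain ⟨n, ρ, rfl⟩ := hχ
  obtain ⟨m, σ, rfl⟩ := hψ
  rw [← Representation.char_tensor]; exact isCharacter_character _

theorem IsCharacter.pow {χ : G → ℂ} (hχ : IsCharacter G χ) (n : ℕ) : IsCharacter G (χ ^ n) := by
  induction n with
  | zero => simpa using isCharacter_one
  | succ n ih => rw [pow_succ]; exact IsCharacter.mul ih hχ

/-- The dual character `g ↦ χ g⁻¹`. -/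
theorem IsCharacter.inv {χ : G → ℂ} (hχ : IsCharacter G χ) :
    IsCharacter G (fun g => χ g⁻¹) := by
  obtain ⟨n, ρ, rfl⟩ := hχ
  convert isCharacter_character ρ.dual using 1
  ext g; exact (ρ.char_dual g).symm

theorem IsCharacter.comp_hom {H : Type*} [Group H] {χ : G → ℂ} (hχ : IsCharacter G χ)
    (f : H →* G) : IsCharacter H (fun h => χ (f h)) := by
  obtain ⟨n, ρ, rfl⟩ := hχ
  exact isCharacter_character (ρ.comp f)

theorem IsCharacter.restrict {χ : G → ℂ} (hχ : IsCharacter G χ) (H : Subgroup G) :
    IsCharacter H (fun h : H => χ h) :=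
  IsCharacter.comp_hom hχ H.subtype

theorem IsCharacter.comp_equiv {H : Type*} [Group H] {χ : G → ℂ} (hχ : IsCharacter G χ)
    (e : H ≃* G) : IsCharacter H (fun h => χ (e h)) :=
  IsCharacter.comp_hom hχ e.toMonoidHom

theorem IsIrrCharacter.comp_surjective {H : Type*} [Group H] {χ : G → ℂ}
    (hχ : IsIrrCharacter G χ) (f : H →* G) (hf : Function.Surjective f) :
    IsIrrCharacter H (fun h => χ (f h)) := by
  obtain ⟨n, ρ, hi, rfl⟩ := hχ
  refine ⟨n, ρ.comp f, ?_, rfl⟩
  refine (OrderIso.isSimpleOrder_iff (β := Subrepresentation (ρ.comp f)) ?_).1 hi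
  exact
  { toFun := fun p => ⟨p.toSubmodule, fun h _ hv => p.apply_mem_toSubmodule (f h) hv⟩
    invFun := fun p => ⟨p.toSubmodule, fun g _ hv => by
      obtain ⟨h, rfl⟩ := hf g; exact p.apply_mem_toSubmodule h hv⟩
    left_inv := fun p => rfl
    right_inv := fun p => rfl
    map_rel_iff' := Iff.rfl }

theorem IsIrrCharacter.comp_equiv {H : Type*} [Group H] {χ : G → ℂ} (hχ : IsIrrCharacter G χ)
    (e : H ≃* G) : IsIrrCharacter H (fun h => χ (e h)) :=
  IsIrrCharacter.comp_surjective hχ e.toMonoidHom e.surjective

theorem isIrreducible_of_finrank_eq_one {V : Type*} [AddCommGroup V] [Module ℂ V]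
    (ρ : Representation ℂ G V) (h : finrank ℂ V = 1) : ρ.IsIrreducible := by
  have hs : IsSimpleOrder (Submodule ℂ V) :=
    (isSimpleModule_iff ..).1 (isSimpleModule_iff_finrank_eq_one.2 h)
  have hV : Nontrivial V := Module.nontrivial_of_finrank_eq_succ h
  refine @IsSimpleOrder.mk _ _ _ ⟨⟨⊥, ⊤, fun he => ?_⟩⟩ fun p => ?_
  · exact bot_ne_top (congrArg Subrepresentation.toSubmodule he)
  · exact (hs.eq_bot_or_eq_top p.toSubmodule).imp
      (fun e => Subrepresentation.toSubmodule_injective e)
      (fun e => Subrepresentation.toSubmodule_injective e)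

/-- A one-dimensional representation given by a homomorphism to `ℂ`. -/
theorem isIrrCharacter_of_hom (l : G →* ℂ) : IsIrrCharacter G l := by
  have := isIrreducible_of_finrank_eq_one
    ((Algebra.lsmul ℂ ℂ ℂ).toRingHom.toMonoidHom.comp l : Representation ℂ G ℂ)
    (Module.finrank_self ℂ)
  convert isIrrCharacter_character
    ((Algebra.lsmul ℂ ℂ ℂ).toRingHom.toMonoidHom.comp l : Representation ℂ G ℂ) using 1
  ext g
  have : (Algebra.lsmul ℂ ℂ ℂ (l g) : ℂ →ₗ[ℂ] ℂ) = l g • LinearMap.id := by ext; simp
  simp [Representation.character, this]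

theorem isCharacter_of_hom (l : G →* ℂ) : IsCharacter G l :=
  IsIrrCharacter.isCharacter (isIrrCharacter_of_hom l)

theorem isIrrCharacter_one : IsIrrCharacter G (1 : G → ℂ) := by
  exact isIrrCharacter_of_hom (1 : G →* ℂ)

end closure

section maschke

variable [Finite G]

instance neZero_card : NeZero (Nat.card G : ℂ) :=
  ⟨Nat.cast_ne_zero.2 Nat.card_pos.ne'⟩

omit [Finite G] in
/-- A representation split by a complement pair of subrepresentations. -/
theorem character_eq_add_of_isCompl {V : Type*} [AddCommGroup V] [Module ℂ V]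
    [FiniteDimensional ℂ V] (ρ : Representation ℂ G V) {p q : Subrepresentation ρ}
    (h : IsCompl p.toSubmodule q.toSubmodule) :
    ρ.character = p.toRepresentation.character + q.toRepresentation.character := by
  rw [← character_prod]
  refine (Representation.char_iso
    (Representation.Equiv.mk (Submodule.prodEquivOfIsCompl _ _ h) fun g => ?_)).symm
  ext x <;> simp [Subrepresentation.toRepresentation]

theorem exists_isCompl (V : Type*) [AddCommGroup V] [Module ℂ V]
    (ρ : Representation ℂ G V) (p : Subrepresentation ρ) :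
    ∃ q : Subrepresentation ρ, IsCompl p.toSubmodule q.toSubmodule := by
  obtain ⟨q, hq⟩ := ComplementedLattice.exists_isCompl p
  refine ⟨q, ?_, ?_⟩
  · rw [disjoint_iff, ← Subrepresentation.toSubmodule_inf, disjoint_iff.1 hq.1]; rfl
  · rw [codisjoint_iff, ← Subrepresentation.toSubmodule_sup, codisjoint_iff.1 hq.2]; rfl

omit [Finite G] in
theorem exists_irreducible_subrepresentation {V : Type*} [AddCommGroup V] [Module ℂ V]
    [FiniteDimensional ℂ V] [Nontrivial V] (ρ : Representation ℂ G V) :
    ∃ p : Subrepresentation ρ, p.toRepresentation.IsIrreducible := by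
  classical
  have hex : ∃ n, ∃ p : Subrepresentation ρ, p.toSubmodule ≠ ⊥ ∧ finrank ℂ p.toSubmodule = n :=
    ⟨_, ⊤, (top_ne_bot : (⊤ : Submodule ℂ V) ≠ ⊥), rfl⟩
  obtain ⟨p, hp, hn⟩ := Nat.find_spec hex
  have hnt : Nontrivial p.toSubmodule := Submodule.nontrivial_iff_ne_bot.2 hp
  refine ⟨p, @IsSimpleOrder.mk _ _ _ ⟨⟨⊥, ⊤, fun he => ?_⟩⟩ fun q => ?_⟩
  · exact bot_ne_top (congrArg Subrepresentation.toSubmodule he)
  · by_cases hq : q.toSubmodule = ⊥
    · exact Or.inl (Subrepresentation.toSubmodule_injective hq)
    right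
    let r : Subrepresentation ρ := ⟨q.toSubmodule.map p.toSubmodule.subtype, by
      rintro g _ ⟨v, hv, rfl⟩
      exact ⟨p.toRepresentation g v, q.apply_mem_toSubmodule g hv, rfl⟩⟩
    have e : finrank ℂ r.toSubmodule = finrank ℂ q.toSubmodule :=
      (LinearEquiv.finrank_eq (Submodule.equivMapOfInjective _
        p.toSubmodule.injective_subtype q.toSubmodule)).symm
    have hr : r.toSubmodule ≠ ⊥ := by
      intro h0; apply hq
      rw [← Submodule.finrank_eq_zero, ← e, h0, finrank_bot]
    refine Subrepresentation.toSubmodule_injective (Submodule.eq_top_of_finrank_eq ?_)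
    have h1 := Nat.find_min' hex ⟨r, hr, rfl⟩
    have h2 := Submodule.finrank_le q.toSubmodule
    omega

/-- Maschke: every character is a sum of irreducible characters. -/
theorem isCharacter_induction {P : (G → ℂ) → Prop} (zero : P 0)
    (add : ∀ χ ψ, IsIrrCharacter G χ → IsCharacter G ψ → P ψ → P (χ + ψ))
    {χ : G → ℂ} (hχ : IsCharacter G χ) : P χ := by
  obtain ⟨n, ρ, rfl⟩ := hχ
  induction n using Nat.strong_induction_on with
  | _ n ih =>
    rcases Nat.eq_zero_or_pos n with rfl | hn
    · convert zero using 1
      ext g; simp [Representation.character, Subsingleton.elim (ρ g) 0]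
    · have : Nonempty (Fin n) := ⟨⟨0, hn⟩⟩
      obtain ⟨p, hp⟩ := exists_irreducible_subrepresentation ρ
      obtain ⟨q, hq⟩ := exists_isCompl _ ρ p
      rw [character_eq_add_of_isCompl ρ hq]
      refine add _ _ (isIrrCharacter_character p.toRepresentation)
        (isCharacter_character q.toRepresentation) ?_
      have h1 := Submodule.finrank_add_eq_of_isCompl hq
      have := nontrivial_of_isIrreducible p.toRepresentation
      have h2 : 0 < finrank ℂ p.toSubmodule := finrank_pos
      rw [Module.finrank_fin_fun] at h1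
      rw [← character_transport q.toRepresentation (Module.finBasis ℂ q.toSubmodule).equivFun]
      exact ih _ (by omega) _

end maschke

end Cfsg.Agent.Char
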