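/-
Character theory core, part 2: single elements.

* `exists_eigenbasis`, `character_pow`: eigenvalues are `orderOf g`-th roots of unity
* `IsCharacter.apply_inv` : `χ g⁻¹ = conj (χ g)`; `IsCharacter.conj`, `IsIrrCharacter`-facts in `Orthogonality`
* `isIntegral_character`, `IsCharacter.isIntegral`
* `norm_character_le`, `IsCharacter.norm_le`, `norm_character_eq_iff`, `character_eq_finrank_iff`
-/
import Cfsg.Agent.Lib.Char.Basic

set_option autoImplicit false

namespace Cfsg.Agent.Char

open Cfsg LinearMap Module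
open scoped ComplexConjugate

variable {G : Type*} [Group G] [Finite G]
variable {V : Type*} [AddCommGroup V] [Module ℂ V] [FiniteDimensional ℂ V]

/-- An element of finite order acts diagonalisably, with roots of unity as eigenvalues. -/
theorem exists_eigenbasis (ρ : Representation ℂ G V) (g : G) :
    ∃ (b : Basis (Fin (finrank ℂ V)) ℂ V) (μ : Fin (finrank ℂ V) → ℂ),
      (∀ i, ρ g (b i) = μ i • b i) ∧ ∀ i, μ i ^ orderOf g = 1 := by
  have hn : orderOf g ≠ 0 := (orderOf_pos g).ne'
  have hss : Module.End.IsSemisimple (ρ g : Module.End ℂ V) := by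
    refine Module.End.isSemisimple_of_squarefree_aeval_eq_zero
      (p := (Polynomial.X ^ orderOf g - Polynomial.C 1 : Polynomial ℂ))
      (Polynomial.separable_X_pow_sub_C 1 (Nat.cast_ne_zero.2 hn) one_ne_zero).squarefree ?_
    rw [map_sub, map_pow, Polynomial.aeval_X, ← map_pow, pow_orderOf_eq_one, map_one, Polynomial.aeval_C]
    simp
  let s : Set V := {v | v ≠ 0 ∧ ∃ c : ℂ, ρ g v = c • v}
  have hs : ⊤ ≤ Submodule.span ℂ s := by
    rw [← hss.iSup_eigenspace_eq_top]
    refine iSup_le fun c v hv => ?_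
    by_cases h : v = 0
    · simp [h]
    · exact Submodule.subset_span ⟨h, c, Module.End.mem_eigenspace_iff.1 hv⟩
  let b₀ := Basis.ofSpan hs
  have := Module.Finite.finite_basis b₀
  let e := (Finite.equivFin _).trans (finCongr (Module.finrank_eq_nat_card_basis b₀).symm)
  have hmem : ∀ i, b₀.reindex e i ∈ s := fun i => Basis.ofSpan_subset hs ⟨e.symm i, by simp [b₀]⟩
  choose hne μ hμ using hmem
  refine ⟨b₀.reindex e, μ, hμ, fun i => ?_⟩
  have hp : ∀ m : ℕ, (ρ (g ^ m)) (b₀.reindex e i) = μ i ^ m • b₀.reindex e i := by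
    intro m
    induction m with
    | zero => simp
    | succ m ih =>
      rw [pow_succ, map_mul, Module.End.mul_apply, hμ i, map_smul, ih, smul_smul, pow_succ']
  have h1 := hp (orderOf g)
  rw [pow_orderOf_eq_one, map_one, Module.End.one_apply] at h1
  refine smul_left_injective ℂ (hne i) ?_
  simpa using h1.symm

omit [Finite G] [FiniteDimensional ℂ V] in
/-- Trace of a power, read off an eigenbasis. -/
theorem character_pow {ι : Type*} [Fintype ι] (ρ : Representation ℂ G V) (g : G)
    (b : Basis ι ℂ V) (μ : ι → ℂ) (hμ : ∀ i, ρ g (b i) = μ i • b i) (m : ℕ) :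
    ρ.character (g ^ m) = ∑ i, μ i ^ m := by
  classical
  have hp : ∀ m : ℕ, ∀ i, (ρ (g ^ m)) (b i) = μ i ^ m • b i := by
    intro m i
    induction m with
    | zero => simp
    | succ m ih =>
      rw [pow_succ, map_mul, Module.End.mul_apply, hμ i, map_smul, ih, smul_smul, pow_succ']
  rw [Representation.character, trace_eq_matrix_trace ℂ b, Matrix.trace]
  refine Finset.sum_congr rfl fun i _ => ?_
  rw [Matrix.diag, LinearMap.toMatrix_apply, hp]
  simp

omit [Finite G] [FiniteDimensional ℂ V] in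
theorem character_eq_sum_eigenvalues {ι : Type*} [Fintype ι] (ρ : Representation ℂ G V) (g : G)
    (b : Basis ι ℂ V) (μ : ι → ℂ) (hμ : ∀ i, ρ g (b i) = μ i • b i) :
    ρ.character g = ∑ i, μ i := by
  simpa using character_pow ρ g b μ hμ 1

theorem character_inv (ρ : Representation ℂ G V) (g : G) :
    ρ.character g⁻¹ = conj (ρ.character g) := by
  obtain ⟨b, μ, hμ, hroot⟩ := exists_eigenbasis ρ g
  have hg : g⁻¹ = g ^ (orderOf g - 1) := by
    rw [inv_eq_iff_mul_eq_one, ← pow_succ', Nat.sub_add_cancel (orderOf_pos g), pow_orderOf_eq_one]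
  rw [hg, character_pow ρ g b μ hμ, character_eq_sum_eigenvalues ρ g b μ hμ, map_sum]
  refine Finset.sum_congr rfl fun i => fun _ => ?_
  rw [← Complex.inv_eq_conj (Complex.norm_eq_one_of_pow_eq_one (hroot i) (orderOf_pos g).ne')]
  refine eq_inv_of_mul_eq_one_left ?_
  rw [← pow_succ, Nat.sub_add_cancel (orderOf_pos g), hroot i]

theorem IsCharacter.apply_inv {χ : G → ℂ} (hχ : IsCharacter G χ) (g : G) :
    χ g⁻¹ = conj (χ g) := by
  obtain ⟨n, ρ, rfl⟩ := hχ
  exact character_inv ρ g

theorem IsCharacter.conj {χ : G → ℂ} (hχ : IsCharacter G χ) :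
    IsCharacter G (fun g => conj (χ g)) := by
  simpa only [IsCharacter.apply_inv hχ] using IsCharacter.inv hχ

theorem IsCharacter.conj_apply_one {χ : G → ℂ} (hχ : IsCharacter G χ) :
    (starRingEnd ℂ) (χ 1) = χ 1 := by
  rw [← IsCharacter.apply_inv hχ, inv_one]

theorem isIntegral_character (ρ : Representation ℂ G V) (g : G) :
    IsIntegral ℤ (ρ.character g) := by
  obtain ⟨b, μ, hμ, hroot⟩ := exists_eigenbasis ρ g
  rw [character_eq_sum_eigenvalues ρ g b μ hμ]
  exact IsIntegral.sum _ fun i _ =>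
    IsIntegral.of_pow (orderOf_pos g) (by rw [hroot i]; exact isIntegral_one)

theorem IsCharacter.isIntegral {χ : G → ℂ} (hχ : IsCharacter G χ) (g : G) :
    IsIntegral ℤ (χ g) := by
  obtain ⟨n, ρ, rfl⟩ := hχ
  exact isIntegral_character ρ g

theorem norm_character_le (ρ : Representation ℂ G V) (g : G) :
    ‖ρ.character g‖ ≤ (finrank ℂ V : ℝ) := by
  obtain ⟨b, μ, hμ, hroot⟩ := exists_eigenbasis ρ g
  rw [character_eq_sum_eigenvalues ρ g b μ hμ]
  refine (norm_sum_le _ _).trans ?_
  simp [fun i => Complex.norm_eq_one_of_pow_eq_one (hroot i) (orderOf_pos g).ne']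

theorem IsCharacter.norm_le {χ : G → ℂ} (hχ : IsCharacter G χ) (g : G) :
    ‖χ g‖ ≤ (χ 1).re := by
  obtain ⟨n, ρ, rfl⟩ := hχ
  simpa using norm_character_le ρ g

/-- Equality in the triangle inequality for unimodular numbers. -/
theorem eq_of_sum_eq_card_mul {ι : Type*} [Fintype ι] {μ : ι → ℂ} (hμ : ∀ i, ‖μ i‖ = 1)
    {ω : ℂ} (hω : ‖ω‖ = 1) (h : ∑ i, μ i = (Fintype.card ι : ℂ) * ω) (i : ι) : μ i = ω := by
  have hc : conj ω * ω = 1 := by rw [Complex.conj_mul', hω]; simp
  have key : ∀ j ∈ (Finset.univ : Finset ι), (conj ω * μ j).re = 1 := by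
    refine (Finset.sum_eq_sum_iff_of_le fun j _ => ?_).1 ?_
    · refine (Complex.re_le_norm _).trans_eq ?_
      simp [hω, hμ j]
    · rw [← Complex.re_sum, ← Finset.mul_sum, h, ← mul_assoc, mul_comm (conj ω), mul_assoc, hc]
      simp
  have hn : ‖conj ω * μ i‖ = 1 := by simp [hω, hμ i]
  have h1 : conj ω * μ i = 1 := by
    refine Complex.ext (key i (Finset.mem_univ i)) ?_
    have := Complex.sq_norm (conj ω * μ i)
    rw [hn, Complex.normSq_apply, key i (Finset.mem_univ i)] at this
    simpa using show (conj ω * μ i).im ^ 2 = 0 by nlinarith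
  calc μ i = (conj ω * ω) * μ i := by rw [hc, one_mul]
    _ = ω * (conj ω * μ i) := by ring
    _ = ω := by rw [h1, mul_one]

theorem norm_character_eq_iff (ρ : Representation ℂ G V) (g : G) :
    ‖ρ.character g‖ = (finrank ℂ V : ℝ) ↔ ∃ ω : ℂ, ρ g = ω • LinearMap.id := by
  obtain ⟨b, μ, hμ, hroot⟩ := exists_eigenbasis ρ g
  have hn := fun i => Complex.norm_eq_one_of_pow_eq_one (hroot i) (orderOf_pos g).ne'
  have hsum := character_eq_sum_eigenvalues ρ g b μ hμ
  rcases Nat.eq_zero_or_pos (finrank ℂ V) with h0 | hpos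
  · have : Subsingleton V := Module.finrank_zero_iff.1 h0
    refine iff_of_true ?_ ⟨1, Subsingleton.elim _ _⟩
    have : IsEmpty (Fin (finrank ℂ V)) := by rw [h0]; infer_instance
    rw [hsum, Finset.univ_eq_empty, Finset.sum_empty, norm_zero, h0, Nat.cast_zero]
  constructor
  · intro h
    refine ⟨ρ.character g / (finrank ℂ V : ℂ), b.ext fun i => ?_⟩
    rw [hμ i]
    simp only [LinearMap.smul_apply, LinearMap.id_apply]
    congr 1
    refine eq_of_sum_eq_card_mul hn ?_ ?_ i
    · rw [norm_div, h, Complex.norm_natCast, div_self (by positivity)]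
    · rw [← hsum, Fintype.card_fin, mul_div_cancel₀ _ (Nat.cast_ne_zero.2 hpos.ne')]
  · rintro ⟨ω, hω⟩
    have hi : ∀ i, μ i = ω := fun i => by
      have := hμ i
      rw [hω] at this
      exact (smul_left_injective ℂ (b.ne_zero i) this).symm
    rw [hsum, Finset.sum_congr rfl fun i _ => hi i]
    simp [← hi ⟨0, hpos⟩, hn]

theorem character_eq_finrank_iff (ρ : Representation ℂ G V) (g : G) :
    ρ.character g = (finrank ℂ V : ℂ) ↔ ρ g = LinearMap.id := by
  obtain ⟨b, μ, hμ, hroot⟩ := exists_eigenbasis ρ g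
  have hn := fun i => Complex.norm_eq_one_of_pow_eq_one (hroot i) (orderOf_pos g).ne'
  constructor
  · intro h
    refine b.ext fun i => ?_
    rw [hμ i, eq_of_sum_eq_card_mul (ω := 1) hn norm_one ?_ i]
    · simp
    · rw [← character_eq_sum_eigenvalues ρ g b μ hμ, h]; simp
  · intro h
    rw [Representation.character, h, trace_id]

end Cfsg.Agent.Char
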