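/-
Character theory core, part 3: the inner product `classInner` and the first orthogonality relation.

* algebra: `classInner_add_left/right`, `_sub_`, `_smul_`, `_sum_`, `_zero_`, `classInner_conj_symm`,
  `card_mul_classInner`, `classInner_self_eq`
* `classInner_character_eq_finrank`, `classInner_irr`, `classInner_irr_self`, `classInner_irr_of_ne`
* `IsCharacter.classInner_nat`, `isIrrCharacter_iff_norm_one`, `IsIrrCharacter.conj`, `.mul_linear`
* `irrCharacter_finite` (instance), `linearIndependent_irr`, `classInner_sum_smul`
* `IsCharacter.decompose`: a character is a ℕ-combination of irreducibles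
* `equiv_of_character_eq`
-/
import Cfsg.Agent.Lib.Char.Eigen

set_option autoImplicit false

namespace Cfsg.Agent.Char

open Cfsg LinearMap Module
open scoped ComplexConjugate

variable {G : Type*} [Group G]

section algebra

variable [Fintype G]

theorem card_mul_classInner (φ ψ : G → ℂ) :
    (Nat.card G : ℂ) * classInner φ ψ = ∑ g, φ g * conj (ψ g) := by
  rw [classInner, ← mul_assoc, mul_inv_cancel₀ (Nat.cast_ne_zero.2 Nat.card_pos.ne'), one_mul]

theorem classInner_add_left (φ₁ φ₂ ψ : G → ℂ) :
    classInner (φ₁ + φ₂) ψ = classInner φ₁ ψ + classInner φ₂ ψ := by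
  simp [classInner, add_mul, Finset.sum_add_distrib, mul_add]

theorem classInner_add_right (φ ψ₁ ψ₂ : G → ℂ) :
    classInner φ (ψ₁ + ψ₂) = classInner φ ψ₁ + classInner φ ψ₂ := by
  simp [classInner, mul_add, Finset.sum_add_distrib]

theorem classInner_sub_left (φ₁ φ₂ ψ : G → ℂ) :
    classInner (φ₁ - φ₂) ψ = classInner φ₁ ψ - classInner φ₂ ψ := by
  simp [classInner, sub_mul, Finset.sum_sub_distrib, mul_sub]

theorem classInner_sub_right (φ ψ₁ ψ₂ : G → ℂ) :
    classInner φ (ψ₁ - ψ₂) = classInner φ ψ₁ - classInner φ ψ₂ := by
  simp [classInner, mul_sub, Finset.sum_sub_distrib]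

theorem classInner_neg_left (φ ψ : G → ℂ) : classInner (-φ) ψ = -classInner φ ψ := by
  simp [classInner]

theorem classInner_neg_right (φ ψ : G → ℂ) : classInner φ (-ψ) = -classInner φ ψ := by
  simp [classInner]

@[simp] theorem classInner_zero_left (ψ : G → ℂ) : classInner 0 ψ = 0 := by simp [classInner]

@[simp] theorem classInner_zero_right (φ : G → ℂ) : classInner φ 0 = 0 := by simp [classInner]

theorem classInner_smul_left (c : ℂ) (φ ψ : G → ℂ) :
    classInner (c • φ) ψ = c * classInner φ ψ := by
  simp only [classInner, Pi.smul_apply, smul_eq_mul, Finset.mul_sum]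
  exact Finset.sum_congr rfl fun _ _ => by ring

theorem classInner_smul_right (c : ℂ) (φ ψ : G → ℂ) :
    classInner φ (c • ψ) = conj c * classInner φ ψ := by
  simp only [classInner, Pi.smul_apply, smul_eq_mul, map_mul, Finset.mul_sum]
  exact Finset.sum_congr rfl fun _ _ => by ring

theorem classInner_sum_left {ι : Type*} (s : Finset ι) (f : ι → G → ℂ) (ψ : G → ℂ) :
    classInner (∑ i ∈ s, f i) ψ = ∑ i ∈ s, classInner (f i) ψ := by
  classical
  induction s using Finset.induction_on with
  | empty => simp
  | insert a s ha ih => rw [Finset.sum_insert ha, Finset.sum_insert ha, classInner_add_left, ih]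

theorem classInner_sum_right {ι : Type*} (s : Finset ι) (φ : G → ℂ) (f : ι → G → ℂ) :
    classInner φ (∑ i ∈ s, f i) = ∑ i ∈ s, classInner φ (f i) := by
  classical
  induction s using Finset.induction_on with
  | empty => simp
  | insert a s ha ih => rw [Finset.sum_insert ha, Finset.sum_insert ha, classInner_add_right, ih]

theorem classInner_conj_symm (φ ψ : G → ℂ) : conj (classInner φ ψ) = classInner ψ φ := by
  simp [classInner, mul_comm, map_sum]

theorem classInner_self_eq (φ : G → ℂ) :
    classInner φ φ = (((Nat.card G : ℝ)⁻¹ * ∑ g, ‖φ g‖ ^ 2 : ℝ) : ℂ) := by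
  simp [classInner, Complex.mul_conj']

theorem classInner_self_eq_zero {φ : G → ℂ} : classInner φ φ = 0 ↔ φ = 0 := by
  refine ⟨fun h => ?_, by rintro rfl; simp⟩
  rw [classInner_self_eq, Complex.ofReal_eq_zero, mul_eq_zero] at h
  rcases h with h | h
  · simp at h
  · funext g
    simpa using (Finset.sum_eq_zero_iff_of_nonneg fun g _ => sq_nonneg ‖φ g‖).1 h g
      (Finset.mem_univ g)

theorem classInner_self_re_nonneg (φ : G → ℂ) : 0 ≤ (classInner φ φ).re := by
  rw [classInner_self_eq, Complex.ofReal_re]; positivity

end algebra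

section orth

variable [Fintype G]

noncomputable instance invertible_card : Invertible (Nat.card G : ℂ) :=
  invertibleOfNonzero (Nat.cast_ne_zero.2 Nat.card_pos.ne')

variable {V W : Type*} [AddCommGroup V] [Module ℂ V] [FiniteDimensional ℂ V]
  [AddCommGroup W] [Module ℂ W] [FiniteDimensional ℂ W]

/-- The inner product of two characters is the dimension of the space of intertwining maps. -/
theorem classInner_character_eq_finrank (ρ : Representation ℂ G V) (σ : Representation ℂ G W) :
    classInner σ.character ρ.character = (finrank ℂ (Representation.IntertwiningMap ρ σ) : ℂ) := by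
  rw [← Representation.card_inv_mul_sum_char_mul_char_eq_finrank ρ σ, classInner]
  simp_rw [character_inv]

theorem IsCharacter.classInner_nat {χ ψ : G → ℂ} (hχ : IsCharacter G χ) (hψ : IsCharacter G ψ) :
    ∃ m : ℕ, classInner χ ψ = m := by
  obtain ⟨n, σ, rfl⟩ := hχ
  obtain ⟨m, ρ, rfl⟩ := hψ
  exact ⟨_, classInner_character_eq_finrank ρ σ⟩

theorem classInner_irr_self {χ : G → ℂ} (hχ : IsIrrCharacter G χ) : classInner χ χ = 1 := by
  obtain ⟨n, ρ, hi, rfl⟩ := hχ
  rw [classInner_character_eq_finrank]; simp

theorem classInner_irr_of_ne {χ ψ : G → ℂ} (hχ : IsIrrCharacter G χ) (hψ : IsIrrCharacter G ψ)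
    (h : χ ≠ ψ) : classInner χ ψ = 0 := by
  obtain ⟨n, σ, hi, rfl⟩ := hχ
  obtain ⟨m, ρ, hi', rfl⟩ := hψ
  have : IsEmpty (ρ.Equiv σ) := ⟨fun e => h (Representation.char_iso e).symm⟩
  rw [classInner_character_eq_finrank, finrank_zero_of_subsingleton, Nat.cast_zero]

open Classical in
theorem classInner_irr {χ ψ : G → ℂ} (hχ : IsIrrCharacter G χ) (hψ : IsIrrCharacter G ψ) :
    classInner χ ψ = if χ = ψ then 1 else 0 := by
  split_ifs with h
  · rw [h]; exact classInner_irr_self hψ
  · exact classInner_irr_of_ne hχ hψ h

/-- Irreducibility criterion: norm one. -/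
theorem isIrrCharacter_iff_norm_one {χ : G → ℂ} (hχ : IsCharacter G χ) :
    IsIrrCharacter G χ ↔ classInner χ χ = 1 := by
  refine ⟨classInner_irr_self, fun h => ?_⟩
  revert h
  refine isCharacter_induction (P := fun χ => classInner χ χ = 1 → IsIrrCharacter G χ) ?_ ?_ hχ
  · simp
  · intro φ ψ hφ hψ _ h
    obtain ⟨a, ha⟩ := IsCharacter.classInner_nat (IsIrrCharacter.isCharacter hφ) hψ
    obtain ⟨b, hb⟩ := IsCharacter.classInner_nat hψ (IsIrrCharacter.isCharacter hφ)
    obtain ⟨c, hc⟩ := IsCharacter.classInner_nat hψ hψ
    rw [classInner_add_left, classInner_add_right, classInner_add_right, classInner_irr_self hφ,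
      ha, hb, hc] at h
    have h' : (1 + a + (b + c) : ℕ) = 1 := by exact_mod_cast h
    have hc0 : classInner ψ ψ = 0 := by rw [hc, show c = 0 by omega, Nat.cast_zero]
    rw [classInner_self_eq_zero.1 hc0, add_zero]
    exact hφ

theorem classInner_comp_equiv {H : Type*} [Group H] [Fintype H] (e : H ≃* G) (φ ψ : G → ℂ) :
    classInner (fun h => φ (e h)) (fun h => ψ (e h)) = classInner φ ψ := by
  rw [classInner, classInner, Nat.card_congr e.toEquiv]
  exact congrArg _ (Equiv.sum_comp e.toEquiv (fun g => φ g * conj (ψ g)))

/-- The complex conjugate of an irreducible character is irreducible. -/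
theorem IsIrrCharacter.conj {χ : G → ℂ} (hχ : IsIrrCharacter G χ) :
    IsIrrCharacter G (fun g => conj (χ g)) := by
  rw [isIrrCharacter_iff_norm_one (IsCharacter.conj (IsIrrCharacter.isCharacter hχ)),
    ← classInner_irr_self hχ, classInner, classInner]
  simp [mul_comm]

/-- Multiplying an irreducible character by a linear one gives an irreducible character. -/
theorem IsIrrCharacter.mul_linear {χ : G → ℂ} (hχ : IsIrrCharacter G χ) (l : G →* ℂ) :
    IsIrrCharacter G (fun g => χ g * l g) := by
  have hl : ∀ g, l g * (starRingEnd ℂ) (l g) = 1 := fun g => by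
    rw [← IsCharacter.apply_inv (isCharacter_of_hom l), ← map_mul, mul_inv_cancel, map_one]
  have hc : IsCharacter G (fun g => χ g * l g) :=
    IsCharacter.mul (IsIrrCharacter.isCharacter hχ) (isCharacter_of_hom l)
  rw [isIrrCharacter_iff_norm_one hc, ← classInner_irr_self hχ, classInner, classInner]
  congr 1
  refine Finset.sum_congr rfl fun g _ => ?_
  rw [map_mul, mul_mul_mul_comm, hl g, mul_one]

theorem linearIndependent_irr : LinearIndependent ℂ (fun χ : IrrCharacter G => (χ : G → ℂ)) := by
  rw [linearIndependent_iff']
  intro s c h i hi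
  have h2 := congrArg (fun f => classInner f (i : G → ℂ)) h
  simp only [classInner_sum_left, classInner_smul_left, classInner_zero_left] at h2
  rw [Finset.sum_eq_single i] at h2
  · rwa [classInner_irr_self i.2, mul_one] at h2
  · intro j _ hj
    rw [classInner_irr_of_ne j.2 i.2 (fun e => hj (Subtype.ext e)), mul_zero]
  · exact fun h' => absurd hi h'

theorem classInner_sum_smul (c : IrrCharacter G → ℂ) (s : Finset (IrrCharacter G))
    (ψ : IrrCharacter G) (hψ : ψ ∈ s) :
    classInner (∑ χ ∈ s, c χ • (χ : G → ℂ)) (ψ : G → ℂ) = c ψ := by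
  rw [classInner_sum_left, Finset.sum_eq_single ψ]
  · rw [classInner_smul_left, classInner_irr_self ψ.2, mul_one]
  · intro j _ hj
    rw [classInner_smul_left, classInner_irr_of_ne j.2 ψ.2 (fun e => hj (Subtype.ext e)), mul_zero]
  · exact fun h => absurd hψ h

end orth

instance irrCharacter_finite [Finite G] : Finite (IrrCharacter G) := by
  have := Fintype.ofFinite G
  exact (linearIndependent_irr (G := G)).finite

/-- A character is the sum of the irreducible characters with natural multiplicities. -/
theorem IsCharacter.decompose [Fintype G] [Fintype (IrrCharacter G)] {χ : G → ℂ}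
    (hχ : IsCharacter G χ) : ∃ m : IrrCharacter G → ℕ,
      χ = ∑ φ : IrrCharacter G, (m φ : ℂ) • (φ : G → ℂ) ∧
      ∀ φ : IrrCharacter G, classInner χ (φ : G → ℂ) = m φ := by
  classical
  suffices ∃ m : IrrCharacter G → ℕ, χ = ∑ φ : IrrCharacter G, (m φ : ℂ) • (φ : G → ℂ) by
    obtain ⟨m, rfl⟩ := this
    exact ⟨m, rfl, fun φ => classInner_sum_smul _ _ φ (Finset.mem_univ φ)⟩
  refine isCharacter_induction
    (P := fun χ => ∃ m : IrrCharacter G → ℕ, χ = ∑ φ : IrrCharacter G, (m φ : ℂ) • (φ : G → ℂ))
    ⟨0, by simp⟩ ?_ hχ
  rintro φ ψ hφ _ ⟨m, rfl⟩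
  refine ⟨fun x => (if x = ⟨φ, hφ⟩ then 1 else 0) + m x, ?_⟩
  simp only [Nat.cast_add, add_smul, Finset.sum_add_distrib, add_left_inj]
  rw [Finset.sum_eq_single ⟨φ, hφ⟩ (fun x _ hx => by simp [hx]) (fun h => absurd (Finset.mem_univ _) h)]
  simp

section equiv

variable [Finite G]

/-- Representations with equal characters are equivalent. -/
theorem equiv_of_character_eq {V W : Type*} [AddCommGroup V] [Module ℂ V] [FiniteDimensional ℂ V]
    [AddCommGroup W] [Module ℂ W] [FiniteDimensional ℂ W]
    (ρ : Representation ℂ G V) (σ : Representation ℂ G W) (h : ρ.character = σ.character) :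
    Nonempty (ρ.Equiv σ) := by
  have := Fintype.ofFinite G
  suffices key : ∀ (m n : ℕ) (ρ : Representation ℂ G (Fin m → ℂ))
      (σ : Representation ℂ G (Fin n → ℂ)), ρ.character = σ.character → Nonempty (ρ.Equiv σ) by
    obtain ⟨e⟩ := key _ _ (transport ρ (Module.finBasis ℂ V).equivFun)
      (transport σ (Module.finBasis ℂ W).equivFun)
      (by rw [character_transport, character_transport, h])
    exact ⟨((transportEquiv ρ _).trans e).trans (transportEquiv σ _).symm⟩
  intro m
  induction m using Nat.strong_induction_on with
  | _ m ih =>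
    intro n ρ σ h
    have hmn : m = n := by
      have := congrFun h 1
      rw [Representation.char_one, Representation.char_one, Module.finrank_fin_fun,
        Module.finrank_fin_fun] at this
      exact_mod_cast this
    subst hmn
    rcases Nat.eq_zero_or_pos m with rfl | hm
    · exact ⟨Representation.Equiv.mk (LinearEquiv.refl ℂ _) fun g => Subsingleton.elim _ _⟩
    have : Nonempty (Fin m) := ⟨⟨0, hm⟩⟩
    obtain ⟨p, hp⟩ := exists_irreducible_subrepresentation ρ
    obtain ⟨p', hp'⟩ := exists_isCompl _ ρ p
    -- the irreducible constituent maps injectively into `σ`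
    have hne : finrank ℂ (Representation.IntertwiningMap p.toRepresentation σ) ≠ 0 := by
      intro h0
      have e1 := classInner_character_eq_finrank p.toRepresentation σ
      rw [← h, character_eq_add_of_isCompl ρ hp', classInner_add_left,
        classInner_irr_self (isIrrCharacter_character p.toRepresentation),
        classInner_character_eq_finrank p.toRepresentation p'.toRepresentation, h0] at e1
      have : (1 + finrank ℂ (Representation.IntertwiningMap p.toRepresentation p'.toRepresentation)
          : ℕ) = 0 := by exact_mod_cast e1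
      omega
    have : Nontrivial (Representation.IntertwiningMap p.toRepresentation σ) := by
      by_contra hc
      rw [not_nontrivial_iff_subsingleton] at hc
      exact hne finrank_zero_of_subsingleton
    obtain ⟨f, hf⟩ := exists_ne (0 : Representation.IntertwiningMap p.toRepresentation σ)
    have hinj := (Representation.IsIrreducible.injective_or_eq_zero f).resolve_right hf
    obtain ⟨q', hq'⟩ := exists_isCompl _ σ f.range
    let e : p.toSubmodule ≃ₗ[ℂ] f.range.toSubmodule := LinearEquiv.ofInjective f.toLinearMap hinj
    let E : p.toRepresentation.Equiv f.range.toRepresentation :=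
      Representation.Equiv.mk e fun g => LinearMap.ext fun v =>
        Subtype.ext (f.isIntertwining p.toRepresentation σ g v)
    have hchar : p'.toRepresentation.character = q'.toRepresentation.character := by
      have := character_eq_add_of_isCompl ρ hp'
      rw [h, character_eq_add_of_isCompl σ hq', Representation.char_iso E] at this
      exact (add_left_cancel this).symm
    have h1 := Submodule.finrank_add_eq_of_isCompl hp'
    rw [Module.finrank_fin_fun] at h1
    have := nontrivial_of_isIrreducible p.toRepresentation
    have h2 : 0 < finrank ℂ p.toSubmodule := finrank_pos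
    obtain ⟨F⟩ := ih (finrank ℂ p'.toSubmodule) (by omega) _
      (transport p'.toRepresentation (Module.finBasis ℂ _).equivFun)
      (transport q'.toRepresentation (Module.finBasis ℂ _).equivFun)
      (by rw [character_transport, character_transport, hchar])
    let F' := ((transportEquiv p'.toRepresentation _).trans F).trans
      (transportEquiv q'.toRepresentation _).symm
    refine ⟨Representation.Equiv.mk ((Submodule.prodEquivOfIsCompl _ _ hp').symm.trans
      ((e.prodCongr F'.toLinearEquiv).trans (Submodule.prodEquivOfIsCompl _ _ hq'))) fun g => ?_⟩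
    refine LinearMap.ext fun v => ?_
    obtain ⟨⟨x, y⟩, rfl⟩ := (Submodule.prodEquivOfIsCompl _ _ hp').surjective v
    have hxy : ρ g (Submodule.prodEquivOfIsCompl _ _ hp' (x, y)) =
        Submodule.prodEquivOfIsCompl _ _ hp' (p.toRepresentation g x, p'.toRepresentation g y) := by
      simp [Subrepresentation.toRepresentation]
    have e1 : e (p.toRepresentation g x) = f.range.toRepresentation g (e x) :=
      E.toIntertwiningMap.isIntertwining _ _ g x
    have e2 : F'.toLinearEquiv (p'.toRepresentation g y) =
        q'.toRepresentation g (F'.toLinearEquiv y) :=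
      F'.toIntertwiningMap.isIntertwining _ _ g y
    simp only [LinearMap.coe_comp, LinearEquiv.coe_coe, Function.comp_apply, hxy,
      LinearEquiv.trans_apply, LinearEquiv.symm_apply_apply, LinearEquiv.prodCongr_apply]
    rw [e1, e2, Submodule.coe_prodEquivOfIsCompl', Submodule.coe_prodEquivOfIsCompl', map_add]
    rfl

end equiv

end Cfsg.Agent.Char
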