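/-
Character theory core, part 4: completeness and the second orthogonality relation.

* `eq_zero_of_forall_classInner_irr`, `classFunction_expansion` (finsum), `classFunction_eq_sum` (Finset)
* `leftRegular_character`, `regular_eq_finsum`, `sum_sq_degrees`
* `card_irr_eq_card_conjClasses`, `column_orth`, `isConj_iff_irr`
* `isCharacter_of_classFunction`, `irr_ext`, `exists_irr_of_card`
-/
import Cfsg.Agent.Lib.Char.Inner

set_option autoImplicit false

namespace Cfsg.Agent.Char

open Cfsg LinearMap Module
open scoped ComplexConjugate

variable {G : Type*} [Group G]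

section op

variable [Fintype G] {V : Type*} [AddCommGroup V] [Module ℂ V]

/-- `∑ f g • ρ g`, the action of the group algebra element with coefficients `f`. -/
noncomputable def groupSumOp (ρ : Representation ℂ G V) (f : G → ℂ) : V →ₗ[ℂ] V := ∑ g, f g • ρ g

theorem groupSumOp_apply (ρ : Representation ℂ G V) (f : G → ℂ) (v : V) :
    groupSumOp ρ f v = ∑ g, f g • ρ g v := by
  simp [groupSumOp, LinearMap.sum_apply]

theorem groupSumOp_comm (ρ : Representation ℂ G V) {f : G → ℂ} (hf : IsClassFunction G f)
    (h : G) : groupSumOp ρ f ∘ₗ ρ h = ρ h ∘ₗ groupSumOp ρ f := by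
  ext v
  simp only [LinearMap.coe_comp, Function.comp_apply, groupSumOp_apply, map_sum, map_smul]
  refine Fintype.sum_equiv (MulAut.conj h⁻¹).toEquiv _ _ fun g => ?_
  rw [← Module.End.mul_apply, ← map_mul]
  simp only [MulEquiv.toEquiv_eq_coe, MulEquiv.coe_toEquiv, MulAut.conj_apply, inv_inv]
  rw [← Module.End.mul_apply, ← map_mul, mul_assoc, mul_inv_cancel_left]
  congr 1
  simpa [mul_assoc] using (hf g h⁻¹).symm

/-- On an irreducible representation a class sum acts as a scalar, read off by the trace. -/
theorem groupSumOp_eq_smul [FiniteDimensional ℂ V] (ρ : Representation ℂ G V) [ρ.IsIrreducible]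
    {f : G → ℂ} (hf : IsClassFunction G f) :
    groupSumOp ρ f = ((∑ g, f g * ρ.character g) / (finrank ℂ V : ℂ)) • LinearMap.id := by
  obtain ⟨c, hc⟩ :=
    (Representation.IsIrreducible.algebraMap_intertwiningMap_bijective_of_isAlgClosed
      (ρ := ρ)).2 ⟨groupSumOp ρ f, groupSumOp_comm ρ hf⟩
  have hc' : groupSumOp ρ f = c • LinearMap.id := by
    have := congrArg Representation.IntertwiningMap.toLinearMap hc
    simp only [Algebra.algebraMap_eq_smul_one] at this
    exact this.symm
  have := nontrivial_of_isIrreducible ρ
  have hd : (finrank ℂ V : ℂ) ≠ 0 := Nat.cast_ne_zero.2 (finrank_pos (R := ℂ) (M := V)).ne'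
  have ht : ∑ g, f g * ρ.character g = c * (finrank ℂ V : ℂ) := by
    have := congrArg (trace ℂ V) hc'
    simpa [groupSumOp, Representation.character, map_sum, trace_id] using this
  rw [hc', ht, mul_div_cancel_right₀ _ hd]

/-- A class function orthogonal to every irreducible character acts as zero everywhere. -/
theorem groupSumOp_eq_zero {f : G → ℂ} (hf : IsClassFunction G f)
    (horth : ∀ χ : IrrCharacter G, classInner f (χ : G → ℂ) = 0) [FiniteDimensional ℂ V]
    (ρ : Representation ℂ G V) : groupSumOp ρ f = 0 := by
  suffices key : ∀ (n : ℕ) (σ : Representation ℂ G (Fin n → ℂ)), groupSumOp σ f = 0 by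
    let e := (Module.finBasis ℂ V).equivFun
    refine LinearMap.ext fun v => e.injective ?_
    have := LinearMap.congr_fun (key _ (transport ρ e)) (e v)
    simpa [groupSumOp_apply] using this
  intro n
  induction n using Nat.strong_induction_on with
  | _ n ih =>
    intro σ
    rcases Nat.eq_zero_or_pos n with rfl | hn
    · exact Subsingleton.elim _ _
    have : Nonempty (Fin n) := ⟨⟨0, hn⟩⟩
    obtain ⟨p, hp⟩ := exists_irreducible_subrepresentation σ
    obtain ⟨q, hq⟩ := exists_isCompl _ σ p
    have h1 := Submodule.finrank_add_eq_of_isCompl hq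
    rw [Module.finrank_fin_fun] at h1
    have := nontrivial_of_isIrreducible p.toRepresentation
    have h2 : 0 < finrank ℂ p.toSubmodule := finrank_pos
    have hzp : groupSumOp p.toRepresentation f = 0 := by
      rw [groupSumOp_eq_smul _ hf]
      have hs := horth ⟨_, IsIrrCharacter.conj (isIrrCharacter_character p.toRepresentation)⟩
      have := card_mul_classInner f
        (fun g => (starRingEnd ℂ) (p.toRepresentation.character g))
      simp only [Complex.conj_conj] at this
      rw [← this, hs]
      simp
    have hzq : groupSumOp q.toRepresentation f = 0 := by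
      let e := (Module.finBasis ℂ q.toSubmodule).equivFun
      refine LinearMap.ext fun v => e.injective ?_
      have := LinearMap.congr_fun (ih _ (by omega) (transport q.toRepresentation e)) (e v)
      simpa [groupSumOp_apply] using this
    refine LinearMap.ext fun v => ?_
    obtain ⟨⟨x, y⟩, rfl⟩ := (Submodule.prodEquivOfIsCompl _ _ hq).surjective v
    have h3 := congrArg Subtype.val (LinearMap.congr_fun hzp x)
    have h4 := congrArg Subtype.val (LinearMap.congr_fun hzq y)
    simp [groupSumOp_apply, Subrepresentation.toRepresentation] at h3 h4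
    simp [groupSumOp_apply, Submodule.coe_prodEquivOfIsCompl', Finset.sum_add_distrib, h3, h4]

end op

/-- The right regular representation on functions. -/
noncomputable def rightRegularFun (G : Type*) [Group G] : Representation ℂ G (G → ℂ) where
  toFun g := LinearMap.funLeft ℂ ℂ (· * g)
  map_one' := by ext φ x; simp [LinearMap.funLeft_apply]
  map_mul' g h := by ext φ x; simp [LinearMap.funLeft_apply, mul_assoc]

/-- Completeness: a class function orthogonal to all irreducible characters vanishes. -/
theorem eq_zero_of_forall_classInner_irr [Fintype G] {f : G → ℂ} (hf : IsClassFunction G f)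
    (horth : ∀ χ : IrrCharacter G, classInner f (χ : G → ℂ) = 0) : f = 0 := by
  classical
  funext x
  have := congrFun (LinearMap.congr_fun (groupSumOp_eq_zero hf horth (rightRegularFun G))
    (Pi.single 1 1)) x⁻¹
  simpa [groupSumOp_apply, rightRegularFun, LinearMap.funLeft_apply, Finset.sum_apply,
    Pi.single_apply, inv_mul_eq_one, eq_comm] using this

section classFunction

variable [Fintype G]

omit [Fintype G] in
theorem isClassFunction_sum {ι : Type*} (s : Finset ι) {f : ι → G → ℂ}
    (h : ∀ i ∈ s, IsClassFunction G (f i)) : IsClassFunction G (∑ i ∈ s, f i) := by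
  intro g x
  simp only [Finset.sum_apply]
  exact Finset.sum_congr rfl fun i hi => h i hi g x

omit [Fintype G] in
theorem isClassFunction_smul {f : G → ℂ} (h : IsClassFunction G f) (c : ℂ) :
    IsClassFunction G (c • f) := fun g x => by simp [h g x]

omit [Fintype G] in
theorem isClassFunction_sub {f f' : G → ℂ} (h : IsClassFunction G f) (h' : IsClassFunction G f') :
    IsClassFunction G (f - f') := fun g x => by simp [h g x, h' g x]

omit [Fintype G] in
theorem isClassFunction_add {f f' : G → ℂ} (h : IsClassFunction G f) (h' : IsClassFunction G f') :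
    IsClassFunction G (f + f') := fun g x => by simp [h g x, h' g x]

theorem classFunction_eq_sum [Fintype (IrrCharacter G)] {f : G → ℂ} (hf : IsClassFunction G f) :
    f = ∑ χ : IrrCharacter G, classInner f (χ : G → ℂ) • (χ : G → ℂ) := by
  rw [← sub_eq_zero]
  refine eq_zero_of_forall_classInner_irr
    (isClassFunction_sub hf (isClassFunction_sum _ fun χ _ =>
      isClassFunction_smul (IsIrrCharacter.isClassFunction χ.2) _)) fun ψ => ?_
  rw [classInner_sub_left, classInner_sum_smul _ _ ψ (Finset.mem_univ ψ), sub_self]

theorem classFunction_expansion {f : G → ℂ} (hf : IsClassFunction G f) :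
    f = ∑ᶠ χ : IrrCharacter G, classInner f (χ : G → ℂ) • (χ : G → ℂ) := by
  have := Fintype.ofFinite (IrrCharacter G)
  rw [finsum_eq_sum_of_fintype]
  exact classFunction_eq_sum hf

/-- Class functions with the same inner products against irreducible characters are equal. -/
theorem classFunction_ext {f f' : G → ℂ} (hf : IsClassFunction G f) (hf' : IsClassFunction G f')
    (h : ∀ χ : IrrCharacter G, classInner f (χ : G → ℂ) = classInner f' (χ : G → ℂ)) : f = f' :=
  sub_eq_zero.1 (eq_zero_of_forall_classInner_irr (isClassFunction_sub hf hf')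
    fun χ => by rw [classInner_sub_left, h, sub_self])

theorem classInner_eq_sum [Fintype (IrrCharacter G)] {f : G → ℂ} (hf : IsClassFunction G f)
    (f' : G → ℂ) : classInner f f' =
      ∑ χ : IrrCharacter G, classInner f (χ : G → ℂ) * conj (classInner f' (χ : G → ℂ)) := by
  conv_lhs => rw [classFunction_eq_sum hf]
  rw [classInner_sum_left]
  simp [classInner_smul_left, classInner_conj_symm]

/-- A class function with natural inner products against irreducible characters is a character. -/
theorem isCharacter_of_classFunction {f : G → ℂ} (hf : IsClassFunction G f)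
    (h : ∀ χ : IrrCharacter G, ∃ m : ℕ, classInner f (χ : G → ℂ) = m) : IsCharacter G f := by
  have := Fintype.ofFinite (IrrCharacter G)
  rw [classFunction_eq_sum hf]
  refine IsCharacter.sum _ fun χ _ => ?_
  obtain ⟨m, hm⟩ := h χ
  rw [hm]
  exact IsCharacter.natCast_smul (IsIrrCharacter.isCharacter χ.2) m

end classFunction

section regular

variable [Fintype G]

theorem leftRegular_character [DecidableEq G] (g : G) :
    (Representation.leftRegular ℂ G).character g = if g = 1 then (Nat.card G : ℂ) else 0 := by
  have hmod : Module.Finite ℂ (MonoidAlgebra ℂ G) :=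
    Module.Finite.of_basis (MonoidAlgebra.basis ..)
  rw [Representation.character,
    LinearMap.trace_eq_matrix_trace ℂ (MonoidAlgebra.basis ..), Matrix.trace]
  have key : ∀ x : G, (LinearMap.toMatrix (MonoidAlgebra.basis G ℂ) (MonoidAlgebra.basis G ℂ)
      (Representation.leftRegular ℂ G g)).diag x = if g = 1 then 1 else 0 := by
    intro x
    rw [Matrix.diag, LinearMap.toMatrix_apply, MonoidAlgebra.basis_apply, Representation.leftRegular,
      Representation.ofMulAction_single, ← MonoidAlgebra.basis_apply, Module.Basis.repr_self,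
      Finsupp.single_apply]
    simp
  refine (Finset.sum_congr rfl fun x _ => key x).trans ?_
  split_ifs <;> simp [Nat.card_eq_fintype_card]

omit [Fintype G] in
theorem isClassFunction_leftRegular :
    IsClassFunction G (Representation.leftRegular ℂ G).character :=
  isClassFunction_character _

theorem regular_eq_sum [Fintype (IrrCharacter G)] :
    (Representation.leftRegular ℂ G).character =
      ∑ χ : IrrCharacter G, (χ : G → ℂ) 1 • (χ : G → ℂ) := by
  classical
  refine (classFunction_eq_sum isClassFunction_leftRegular).trans ?_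
  refine Finset.sum_congr rfl fun χ _ => ?_
  congr 1
  rw [classInner, Finset.sum_eq_single (1 : G)]
  · rw [leftRegular_character, if_pos rfl, ← mul_assoc,
      inv_mul_cancel₀ (Nat.cast_ne_zero.2 Nat.card_pos.ne'), one_mul,
      IsCharacter.conj_apply_one (IsIrrCharacter.isCharacter χ.2)]
  · intro g _ hg
    rw [leftRegular_character, if_neg hg, zero_mul]
  · exact fun h => absurd (Finset.mem_univ _) h

theorem sum_degree_mul_apply [DecidableEq G] [Fintype (IrrCharacter G)] (g : G) :
    ∑ χ : IrrCharacter G, (χ : G → ℂ) 1 * (χ : G → ℂ) g =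
      if g = 1 then (Nat.card G : ℂ) else 0 := by
  rw [← leftRegular_character, regular_eq_sum]
  simp [Finset.sum_apply]

end regular

/-- The sum of the squares of the degrees is the order of the group. -/
theorem sum_sq_degrees [Finite G] [Fintype (IrrCharacter G)] :
    ∑ χ : IrrCharacter G, (χ : G → ℂ) 1 ^ 2 = (Nat.card G : ℂ) := by
  classical
  have := Fintype.ofFinite G
  simpa [pow_two] using sum_degree_mul_apply (G := G) 1

section classes

variable [Finite G]

omit [Finite G] in
theorem card_conjugates_mul_card_centralizer (h : G) :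
    Nat.card {x : G | IsConj h x} * Nat.card (Subgroup.centralizer ({h} : Set G)) = Nat.card G := by
  rw [Subgroup.nat_card_centralizer_nat_card_stabilizer]
  have e : ({x : G | IsConj h x} : Set G) = MulAction.orbit (ConjAct G) h := by
    ext x
    rw [ConjAct.mem_orbit_conjAct, Set.mem_ofPred_eq]
    exact isConj_comm
  rw [e]
  have h1 : Nat.card (MulAction.orbit (ConjAct G) h) =
      (MulAction.stabilizer (ConjAct G) h).index := by
    rw [MulAction.index_stabilizer, Nat.card_coe_set_eq]
  rw [h1, Subgroup.index_mul_card]
  rfl

theorem column_orth [Fintype (IrrCharacter G)] (g h : G) [Decidable (IsConj g h)] :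
    ∑ χ : IrrCharacter G, (χ : G → ℂ) g * conj ((χ : G → ℂ) h) =
      if IsConj g h then (Nat.card (Subgroup.centralizer ({g} : Set G)) : ℂ) else 0 := by
  classical
  have := Fintype.ofFinite G
  let δ : G → ℂ := fun x => if IsConj h x then 1 else 0
  have hδ : IsClassFunction G δ := fun x y => by
    have hxy : IsConj x (y * x * y⁻¹) := isConj_iff.2 ⟨y, rfl⟩
    have : IsConj h (y * x * y⁻¹) ↔ IsConj h x :=
      ⟨fun k => k.trans hxy.symm, fun k => k.trans hxy⟩
    simp only [δ, this]
  have hin : ∀ χ : IrrCharacter G, classInner δ (χ : G → ℂ) =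
      (Nat.card (Subgroup.centralizer ({h} : Set G)) : ℂ)⁻¹ * conj ((χ : G → ℂ) h) := by
    intro χ
    have hs : ∀ x, δ x * conj ((χ : G → ℂ) x) = δ x * conj ((χ : G → ℂ) h) := by
      intro x
      by_cases hx : IsConj h x
      · obtain ⟨c, rfl⟩ := isConj_iff.1 hx
        rw [IsIrrCharacter.isClassFunction χ.2]
      · simp only [δ, if_neg hx, zero_mul]
    rw [classInner, Finset.sum_congr rfl fun x _ => hs x, ← Finset.sum_mul, ← mul_assoc]
    congr 1
    have hk := card_conjugates_mul_card_centralizer h
    have hsum : ∑ x, δ x = (Nat.card {x : G | IsConj h x} : ℂ) := by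
      simp [δ, Finset.sum_boole, Nat.card_eq_fintype_card, Fintype.card_subtype]
    rw [hsum, ← hk, Nat.cast_mul]
    have h1 : 0 < Nat.card {x : G | IsConj h x} := by
      have : Nonempty {x : G | IsConj h x} := ⟨⟨h, IsConj.refl h⟩⟩
      exact Nat.card_pos
    rw [mul_inv, mul_right_comm, inv_mul_cancel₀ (Nat.cast_ne_zero.2 h1.ne'), one_mul]
  have hx := congrFun (classFunction_eq_sum hδ) g
  simp only [Finset.sum_apply, Pi.smul_apply, smul_eq_mul, hin] at hx
  have hcz : (Nat.card (Subgroup.centralizer ({h} : Set G)) : ℂ) ≠ 0 :=
    Nat.cast_ne_zero.2 Nat.card_pos.ne'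
  have hx' : ∑ χ : IrrCharacter G, (χ : G → ℂ) g * conj ((χ : G → ℂ) h) =
      (Nat.card (Subgroup.centralizer ({h} : Set G)) : ℂ) * δ g := by
    rw [hx, Finset.mul_sum]
    refine Finset.sum_congr rfl fun χ _ => ?_
    field_simp
  rw [hx']
  split_ifs with hc
  · have hcz' : Nat.card (Subgroup.centralizer ({g} : Set G)) =
        Nat.card (Subgroup.centralizer ({h} : Set G)) := by
      have h1 := card_conjugates_mul_card_centralizer g
      have h2 := card_conjugates_mul_card_centralizer h
      have e : ({x : G | IsConj g x} : Set G) = {x : G | IsConj h x} :=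
        Set.ext fun x => ⟨fun k => hc.symm.trans k, fun k => hc.trans k⟩
      rw [e] at h1
      have : Nonempty {x : G | IsConj h x} := ⟨⟨h, IsConj.refl h⟩⟩
      exact Nat.eq_of_mul_eq_mul_left Nat.card_pos (h1.trans h2.symm)
    rw [show δ g = 1 from if_pos hc.symm, mul_one, hcz']
  · have : ¬ IsConj h g := fun k => hc k.symm
    rw [show δ g = 0 from if_neg this, mul_zero]

theorem isConj_iff_irr (g h : G) :
    IsConj g h ↔ ∀ χ : IrrCharacter G, (χ : G → ℂ) g = (χ : G → ℂ) h := by
  classical
  have := Fintype.ofFinite (IrrCharacter G)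
  constructor
  · intro hc χ
    obtain ⟨c, rfl⟩ := isConj_iff.1 hc
    rw [IsIrrCharacter.isClassFunction χ.2]
  · intro hall
    by_contra hc
    have h1 := column_orth g h
    rw [if_neg hc] at h1
    have h2 := column_orth h h
    have e : ∑ χ : IrrCharacter G, (χ : G → ℂ) g * conj ((χ : G → ℂ) h) =
        ∑ χ : IrrCharacter G, (χ : G → ℂ) h * conj ((χ : G → ℂ) h) :=
      Finset.sum_congr rfl fun χ _ => by rw [hall χ]
    rw [if_pos (IsConj.refl h), ← e, h1] at h2
    exact (Nat.cast_ne_zero.2 (Nat.card_pos (α := Subgroup.centralizer ({h} : Set G))).ne') h2.symm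

/-- Class functions as functions on conjugacy classes. -/
theorem card_irr_eq_card_conjClasses : Nat.card (IrrCharacter G) = Nat.card (ConjClasses G) := by
  have := Fintype.ofFinite G
  have := Fintype.ofFinite (IrrCharacter G)
  have := Fintype.ofFinite (ConjClasses G)
  let L : (IrrCharacter G → ℂ) →ₗ[ℂ] (ConjClasses G → ℂ) :=
  { toFun := fun c k => Quotient.liftOn k (fun g => ∑ χ : IrrCharacter G, c χ * (χ : G → ℂ) g)
      (fun a b hab => by
        obtain ⟨x, rfl⟩ := isConj_iff.1 hab
        exact Finset.sum_congr rfl fun χ _ => by rw [IsIrrCharacter.isClassFunction χ.2])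
    map_add' := fun c c' => funext fun k => Quotient.inductionOn k fun g => by
      show (∑ χ : IrrCharacter G, (c + c') χ * (χ : G → ℂ) g) =
        (∑ χ : IrrCharacter G, c χ * (χ : G → ℂ) g) + ∑ χ : IrrCharacter G, c' χ * (χ : G → ℂ) g
      simp [add_mul, Finset.sum_add_distrib]
    map_smul' := fun a c => funext fun k => Quotient.inductionOn k fun g => by
      show (∑ χ : IrrCharacter G, (a • c) χ * (χ : G → ℂ) g) =
        a * ∑ χ : IrrCharacter G, c χ * (χ : G → ℂ) g
      simp [Finset.mul_sum, mul_assoc] }
  have hLa : ∀ c g, L c (ConjClasses.mk g) = ∑ χ : IrrCharacter G, c χ * (χ : G → ℂ) g :=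
    fun c g => rfl
  have hb : Function.Bijective L := by
    constructor
    · rw [injective_iff_map_eq_zero]
      intro c hc
      funext χ
      refine Fintype.linearIndependent_iff.1 linearIndependent_irr c ?_ χ
      funext g
      simpa [← hLa, Finset.sum_apply] using congrFun hc (ConjClasses.mk g)
    · intro f
      have hf : IsClassFunction G (fun g => f (ConjClasses.mk g)) := fun g h =>
        congrArg f (ConjClasses.mk_eq_mk_iff_isConj.2 (isConj_iff.2 ⟨h, rfl⟩)).symm
      refine ⟨fun χ => classInner (fun g => f (ConjClasses.mk g)) (χ : G → ℂ), funext fun k => ?_⟩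
      induction k using Quotient.inductionOn with
      | _ g =>
        refine (hLa _ g).trans ?_
        show _ = f (ConjClasses.mk g)
        simpa [Finset.sum_apply] using (congrFun (classFunction_eq_sum hf) g).symm
  have := (LinearEquiv.ofBijective L hb).finrank_eq
  rwa [Module.finrank_pi, Module.finrank_pi, ← Nat.card_eq_fintype_card,
    ← Nat.card_eq_fintype_card] at this

end classes

end Cfsg.Agent.Char
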