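/-
Character theory core, part 5: integrality.

* `isIntegral_groupSum_div_degree`: for a class function `f` with integral values and irreducible `ρ`,
  `(∑ f g * χ g) / χ 1` is an algebraic integer
* `isIntegral_classSize_mul_div`: `|g^G| χ g / χ 1` is an algebraic integer
* `degree_dvd_card`, `IsIrrCharacter.degree_dvd_card`, `nat_dvd_of_isIntegral_div`
-/
import Cfsg.Agent.Lib.Char.Orth

set_option autoImplicit false

namespace Cfsg.Agent.Char

open Cfsg LinearMap Module
open scoped ComplexConjugate

variable {G : Type*} [Group G]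

/-- A rational algebraic integer quotient of naturals is a natural divisibility. -/
theorem nat_dvd_of_isIntegral_div {m n : ℕ} (hn : n ≠ 0)
    (h : IsIntegral ℤ ((m : ℂ) / (n : ℂ))) : n ∣ m := by
  have hq : IsIntegral ℤ ((m : ℚ) / (n : ℚ)) := by
    rw [← isIntegral_algebraMap_iff (B := ℂ) (algebraMap ℚ ℂ).injective]
    simpa using h
  obtain ⟨z, hz⟩ := IsIntegrallyClosed.isIntegral_iff.1 hq
  refine Int.natCast_dvd_natCast.1 ⟨z, ?_⟩
  have : ((m : ℚ)) = (n : ℚ) * (z : ℚ) := by
    rw [show ((z : ℤ) : ℚ) = (m : ℚ) / n from hz, mul_div_cancel₀ _ (Nat.cast_ne_zero.2 hn)]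
  exact_mod_cast this

section central

variable [Fintype G] {V : Type*} [AddCommGroup V] [Module ℂ V] [FiniteDimensional ℂ V]

/-- The scalar by which an integral class sum acts on an irreducible representation is integral. -/
theorem isIntegral_groupSum_div_degree (ρ : Representation ℂ G V) [ρ.IsIrreducible]
    {f : G → ℂ} (hf : IsClassFunction G f) (hi : ∀ g, IsIntegral ℤ (f g)) :
    IsIntegral ℤ ((∑ g, f g * ρ.character g) / (finrank ℂ V : ℂ)) := by
  set c := (∑ g, f g * ρ.character g) / (finrank ℂ V : ℂ)
  have := nontrivial_of_isIrreducible ρ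
  let R := integralClosure ℤ ℂ
  let S : Subalgebra R (Module.End ℂ V) := Algebra.adjoin R (Set.range ρ)
  have hspan : S.toSubmodule = Submodule.span R (Set.range ρ) := by
    rw [Algebra.adjoin_eq_span]
    congr 1
    rw [← MonoidHom.coe_mrange, Submonoid.closure_eq]
  have hS : S.toSubmodule.FG := by
    rw [hspan]; exact Submodule.fg_span (Set.finite_range _)
  have hmem : groupSumOp ρ f ∈ S := by
    refine Subalgebra.sum_mem _ fun g _ => ?_
    have hg : ρ g ∈ S := Algebra.subset_adjoin ⟨g, rfl⟩
    exact S.smul_mem hg (⟨f g, hi g⟩ : R)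
  have hint : IsIntegral R (algebraMap ℂ (Module.End ℂ V) c) := by
    have e := groupSumOp_eq_smul ρ hf
    have : algebraMap ℂ (Module.End ℂ V) c = groupSumOp ρ f := by
      rw [e]; exact Algebra.algebraMap_eq_smul_one c
    rw [this]
    exact IsIntegral.of_mem_of_fg S hS _ hmem
  have hc : IsIntegral R c :=
    (isIntegral_algebraMap_iff (algebraMap ℂ (Module.End ℂ V)).injective).1 hint
  exact isIntegral_trans c hc

theorem isIntegral_classSize_mul_div (ρ : Representation ℂ G V) [ρ.IsIrreducible] (g : G) :
    IsIntegral ℤ (((Subgroup.centralizer ({g} : Set G)).index : ℂ) * ρ.character g /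
      (finrank ℂ V : ℂ)) := by
  classical
  let f : G → ℂ := fun x => if IsConj g x then 1 else 0
  have hf : IsClassFunction G f := fun x y => by
    have hxy : IsConj x (y * x * y⁻¹) := isConj_iff.2 ⟨y, rfl⟩
    have : IsConj g (y * x * y⁻¹) ↔ IsConj g x :=
      ⟨fun k => k.trans hxy.symm, fun k => k.trans hxy⟩
    simp only [f, this]
  have hi : ∀ x, IsIntegral ℤ (f x) := fun x => by
    simp only [f]; split_ifs
    · exact isIntegral_one
    · exact isIntegral_zero
  have h := isIntegral_groupSum_div_degree ρ hf hi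
  have hv : ∀ x, f x * ρ.character x = f x * ρ.character g := by
    intro x
    by_cases hx : IsConj g x
    · obtain ⟨c, rfl⟩ := isConj_iff.1 hx
      rw [Representation.char_conj]
    · simp only [f, if_neg hx, zero_mul]
  have hsum : ∑ x, f x = (Nat.card {x : G | IsConj g x} : ℂ) := by
    simp [f, Finset.sum_boole, Nat.card_eq_fintype_card, Fintype.card_subtype]
  have hidx : (Subgroup.centralizer ({g} : Set G)).index = Nat.card {x : G | IsConj g x} :=
    Nat.eq_of_mul_eq_mul_right Nat.card_pos
      ((Subgroup.index_mul_card _).trans (card_conjugates_mul_card_centralizer g).symm)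
  rwa [Finset.sum_congr rfl fun x _ => hv x, ← Finset.sum_mul, hsum, ← hidx] at h

end central

section degree

variable [Finite G]

/-- The degree of an irreducible representation divides the group order. -/
theorem degree_dvd_card {V : Type*} [AddCommGroup V] [Module ℂ V] [FiniteDimensional ℂ V]
    (ρ : Representation ℂ G V) [ρ.IsIrreducible] : finrank ℂ V ∣ Nat.card G := by
  have := Fintype.ofFinite G
  have := nontrivial_of_isIrreducible ρ
  have hc := isCharacter_character ρ
  refine nat_dvd_of_isIntegral_div (finrank_pos (R := ℂ) (M := V)).ne' ?_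
  have h := isIntegral_groupSum_div_degree ρ (f := fun g => conj (ρ.character g))
    (IsCharacter.isClassFunction (IsCharacter.conj hc))
    (fun g => IsCharacter.isIntegral (IsCharacter.conj hc) g)
  have h1 : ∑ g, conj (ρ.character g) * ρ.character g = (Nat.card G : ℂ) := by
    have := card_mul_classInner ρ.character ρ.character
    rw [classInner_irr_self (isIrrCharacter_character ρ), mul_one] at this
    rw [this]
    exact Finset.sum_congr rfl fun g _ => mul_comm _ _
  rwa [h1] at h

theorem IsIrrCharacter.degree_dvd_card {χ : G → ℂ} (hχ : IsIrrCharacter G χ) :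
    ∃ n : ℕ, 0 < n ∧ χ 1 = n ∧ n ∣ Nat.card G := by
  obtain ⟨n, ρ, hi, rfl⟩ := hχ
  have := nontrivial_of_isIrreducible ρ
  exact ⟨_, finrank_pos, Representation.char_one ρ, Cfsg.Agent.Char.degree_dvd_card ρ⟩

theorem IsIrrCharacter.isIntegral_classSize_mul_div {χ : G → ℂ} (hχ : IsIrrCharacter G χ) (g : G) :
    IsIntegral ℤ (((Subgroup.centralizer ({g} : Set G)).index : ℂ) * χ g / χ 1) := by
  obtain ⟨n, ρ, hi, rfl⟩ := hχ
  have := Fintype.ofFinite G
  rw [Representation.char_one]
  exact Cfsg.Agent.Char.isIntegral_classSize_mul_div ρ g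

end degree

end Cfsg.Agent.Char
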