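/-
Character theory core, part 7: linear characters, abelian groups, direct products.

* `exists_hom_of_degree_one`, `linearCharEquiv`, `card_linear_irr`, `apply_one_eq_one_of_comm`,
  `comm_of_forall_degree_one`
* `card_conjClasses_of_comm`
* `IsIrrCharacter.prodMul`, `isIrrCharacter_prod_iff`
-/
import Cfsg.Agent.Lib.Char.Orth

set_option autoImplicit false

namespace Cfsg.Agent.Char

open Cfsg Module
open scoped ComplexConjugate

variable {G : Type*} [Group G]

/-- A character of degree one is a homomorphism to `ℂ`. -/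
theorem exists_hom_of_degree_one {χ : G → ℂ} (hχ : IsCharacter G χ) (h1 : χ 1 = 1) :
    ∃ l : G →* ℂ, ⇑l = χ := by
  obtain ⟨n, ρ, rfl⟩ := hχ
  rw [Representation.char_one, Module.finrank_fin_fun] at h1
  obtain rfl : n = 1 := by exact_mod_cast h1
  have hs : ∀ g, ρ g = ρ.character g • LinearMap.id := by
    intro g
    have hne : (LinearMap.id : (Fin 1 → ℂ) →ₗ[ℂ] (Fin 1 → ℂ)) ≠ 0 := by
      intro e; simpa using congrFun (LinearMap.congr_fun e 1) 0
    obtain ⟨c, hc⟩ := (finrank_eq_one_iff_of_nonzero' LinearMap.id hne).1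
      (by rw [Module.finrank_linearMap ℂ ℂ, Module.finrank_fin_fun]) (ρ g)
    have hc' : ρ g = c • LinearMap.id := hc.symm
    have : ρ.character g = c := by
      rw [Representation.character, hc', map_smul, LinearMap.trace_id, Module.finrank_fin_fun]
      simp
    rw [this, hc']
  refine ⟨⟨⟨ρ.character, by simp⟩, fun g h => ?_⟩, rfl⟩
  have e : ρ (g * h) = ρ g * ρ h := map_mul ρ g h
  rw [hs g, hs h] at e
  show ρ.character (g * h) = ρ.character g * ρ.character h
  conv_lhs => rw [Representation.character, e]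
  simp [Representation.character, Module.End.mul_eq_comp, mul_comm]

/-- Linear characters correspond to homomorphisms to `ℂˣ`. -/
noncomputable def linearCharEquiv (G : Type*) [Group G] :
    (G →* ℂˣ) ≃ {χ : IrrCharacter G // (χ : G → ℂ) 1 = 1} :=
  Equiv.ofBijective
    (fun l => ⟨⟨fun g => ((l g : ℂˣ) : ℂ), isIrrCharacter_of_hom ((Units.coeHom ℂ).comp l)⟩,
      by simp⟩)
    ⟨fun l l' h => MonoidHom.ext fun g => Units.ext
      (congrFun (congrArg (fun x : {χ : IrrCharacter G // (χ : G → ℂ) 1 = 1} => (x.1 : G → ℂ)) h) g),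
    by
      rintro ⟨⟨χ, hχ⟩, h1⟩
      obtain ⟨l, hl⟩ := exists_hom_of_degree_one (IsIrrCharacter.isCharacter hχ) h1
      exact ⟨l.toHomUnits, Subtype.ext (Subtype.ext (funext fun g => congrFun hl g))⟩⟩

theorem card_linear_irr [Finite G] :
    Nat.card {χ : IrrCharacter G // (χ : G → ℂ) 1 = 1} = (commutator G).index := by
  have : NeZero (Monoid.exponent (Abelianization G)) := ⟨Monoid.exponent_ne_zero_of_finite⟩
  have : NeZero ((Monoid.exponent (Abelianization G) : ℕ) : ℂ) := ⟨Nat.cast_ne_zero.2 (NeZero.ne _)⟩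
  rw [← Nat.card_congr (linearCharEquiv G), Nat.card_congr Abelianization.lift,
    CommGroup.card_monoidHom_of_hasEnoughRootsOfUnity, Subgroup.index_eq_card]
  rfl

theorem card_conjClasses_of_comm (h : ∀ a b : G, a * b = b * a) :
    Nat.card (ConjClasses G) = Nat.card G := by
  refine Nat.card_congr (Equiv.ofBijective ConjClasses.mk ⟨fun a b e => ?_, ?_⟩).symm
  · obtain ⟨c, rfl⟩ := isConj_iff.1 (ConjClasses.mk_eq_mk_iff_isConj.1 e)
    rw [h c a, mul_inv_cancel_right]
  · exact ConjClasses.mk_surjective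

theorem apply_one_eq_one_of_comm [Finite G] (h : ∀ a b : G, a * b = b * a)
    (χ : IrrCharacter G) : (χ : G → ℂ) 1 = 1 := by
  have : IsMulCommutative G := ⟨⟨h⟩⟩
  obtain ⟨n, ρ, hi, he⟩ := χ.2
  rw [← he, Representation.char_one,
    Representation.IsIrreducible.finrank_eq_one_of_isMulCommutative ρ, Nat.cast_one]

theorem comm_of_forall_degree_one [Finite G] (h : ∀ χ : IrrCharacter G, (χ : G → ℂ) 1 = 1)
    (a b : G) : a * b = b * a := by
  have hc : IsConj b (a * b * a⁻¹) := isConj_iff.2 ⟨a, rfl⟩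
  have hall : ∀ χ : IrrCharacter G, (χ : G → ℂ) (a * b * a⁻¹ * b⁻¹) = (χ : G → ℂ) 1 := by
    intro χ
    obtain ⟨l, hl⟩ := exists_hom_of_degree_one (IsIrrCharacter.isCharacter χ.2) (h χ)
    rw [← hl, map_mul, ← congrFun hl.symm (a * b * a⁻¹)] 
    have e := IsIrrCharacter.isClassFunction χ.2 b a
    rw [e, ← hl, ← map_mul, mul_inv_cancel]
  have h1 : IsConj (a * b * a⁻¹ * b⁻¹) 1 := (isConj_iff_irr _ _).2 hall
  rw [isConj_one_left] at h1
  exact mul_inv_eq_iff_eq_mul.1 (mul_inv_eq_one.1 h1)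

section prod

variable {H : Type*} [Group H]

theorem IsCharacter.prodMul {φ : G → ℂ} {ψ : H → ℂ} (hφ : IsCharacter G φ)
    (hψ : IsCharacter H ψ) : IsCharacter (G × H) (fun x => φ x.1 * ψ x.2) :=
  IsCharacter.mul (IsCharacter.comp_hom hφ (MonoidHom.fst G H))
    (IsCharacter.comp_hom hψ (MonoidHom.snd G H))

theorem classInner_prodMul [Fintype G] [Fintype H] (φ φ' : G → ℂ) (ψ ψ' : H → ℂ) :
    classInner (G := G × H) (fun x => φ x.1 * ψ x.2) (fun x => φ' x.1 * ψ' x.2) =
      classInner φ φ' * classInner ψ ψ' := by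
  simp only [classInner, Nat.card_prod, Nat.cast_mul, mul_inv, map_mul, Fintype.sum_prod_type]
  rw [mul_mul_mul_comm _ (∑ g, _), Finset.sum_mul_sum]
  congr 1
  exact Finset.sum_congr rfl fun g _ => Finset.sum_congr rfl fun h _ => by ring

theorem IsIrrCharacter.prodMul [Finite G] [Finite H] {φ : G → ℂ} {ψ : H → ℂ}
    (hφ : IsIrrCharacter G φ) (hψ : IsIrrCharacter H ψ) :
    IsIrrCharacter (G × H) (fun x => φ x.1 * ψ x.2) := by
  have := Fintype.ofFinite G
  have := Fintype.ofFinite H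
  rw [isIrrCharacter_iff_norm_one
      (IsCharacter.prodMul (IsIrrCharacter.isCharacter hφ) (IsIrrCharacter.isCharacter hψ)),
    classInner_prodMul, classInner_irr_self hφ, classInner_irr_self hψ, one_mul]

theorem isIrrCharacter_prod_iff [Finite G] [Finite H] (θ : G × H → ℂ) :
    IsIrrCharacter (G × H) θ ↔ ∃ (φ : G → ℂ) (ψ : H → ℂ),
      IsIrrCharacter G φ ∧ IsIrrCharacter H ψ ∧ θ = fun x => φ x.1 * ψ x.2 := by
  classical
  refine ⟨fun hθ => ?_, fun ⟨φ, ψ, hφ, hψ, e⟩ => e ▸ IsIrrCharacter.prodMul hφ hψ⟩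
  by_contra hno
  push Not at hno
  have := Fintype.ofFinite G
  have := Fintype.ofFinite H
  have := Fintype.ofFinite (IrrCharacter G)
  have := Fintype.ofFinite (IrrCharacter H)
  have := Fintype.ofFinite (IrrCharacter (G × H))
  let F : IrrCharacter G × IrrCharacter H → IrrCharacter (G × H) := fun p =>
    ⟨_, IsIrrCharacter.prodMul p.1.2 p.2.2⟩
  have hF : Function.Injective F := by
    intro p q e
    have e' : (fun x : G × H => (p.1 : G → ℂ) x.1 * (p.2 : H → ℂ) x.2) =
        fun x => (q.1 : G → ℂ) x.1 * (q.2 : H → ℂ) x.2 := congrArg Subtype.val e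
    have h := classInner_prodMul (p.1 : G → ℂ) (q.1 : G → ℂ) (p.2 : H → ℂ) (q.2 : H → ℂ)
    have h' := classInner_irr_self (F q).2
    rw [e', show classInner (G := G × H) (fun x => (q.1 : G → ℂ) x.1 * (q.2 : H → ℂ) x.2)
      (fun x => (q.1 : G → ℂ) x.1 * (q.2 : H → ℂ) x.2) = 1 from h', classInner_irr p.1.2 q.1.2,
      classInner_irr p.2.2 q.2.2] at h
    refine Prod.ext (Subtype.ext ?_) (Subtype.ext ?_) <;>
    · by_contra hne
      simp [hne] at h
  have hnot : (⟨θ, hθ⟩ : IrrCharacter (G × H)) ∉ Finset.univ.image F := by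
    rw [Finset.mem_image]
    rintro ⟨p, _, hp⟩
    exact hno _ _ p.1.2 p.2.2 (congrArg Subtype.val hp).symm
  have htot := sum_sq_degrees (G := G × H)
  rw [← Finset.sum_sdiff (Finset.subset_univ (Finset.univ.image F)),
    Finset.sum_image fun x _ y _ e => hF e] at htot
  have himg : ∑ p : IrrCharacter G × IrrCharacter H, (F p : G × H → ℂ) 1 ^ 2 =
      (Nat.card (G × H) : ℂ) := by
    rw [Nat.card_prod, Nat.cast_mul, ← sum_sq_degrees, ← sum_sq_degrees, Fintype.sum_prod_type,
      Finset.sum_mul_sum]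
    simp [F, mul_pow]
  rw [himg, add_eq_right] at htot
  have hdeg : ∀ χ : IrrCharacter (G × H), ∃ n : ℕ, 0 < n ∧ (χ : G × H → ℂ) 1 = n :=
    fun χ => IsIrrCharacter.exists_degree χ.2
  choose d hd hd' using hdeg
  have hz : ∑ χ ∈ Finset.univ \ Finset.univ.image F, d χ ^ 2 = 0 := by
    simp only [hd'] at htot
    exact_mod_cast htot
  have := (Finset.sum_eq_zero_iff.1 hz) _ (Finset.mem_sdiff.2 ⟨Finset.mem_univ _, hnot⟩)
  exact (pow_pos (hd ⟨θ, hθ⟩) 2).ne' this

end prod

end Cfsg.Agent.Char
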