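/-
Character theory core, part 6: induction of functions.

* `extendByZero_mem`, `extendByZero_not_mem`, `indFun_isClassFunction`, `indFun_add/_smul/_zero/_sum`
* `frobenius_reciprocity`, `frobenius_reciprocity'`, `IsCharacter.indFun`
* `indFun_one_apply`, `indFun_trans`, `indFun_eq_on_ti`, `indFun_ti_isometry`
-/
import Cfsg.Agent.Lib.Char.Orth

set_option autoImplicit false

namespace Cfsg.Agent.Char

open Cfsg
open scoped ComplexConjugate

variable {G : Type*} [Group G] (H : Subgroup G)

theorem extendByZero_mem (θ : H → ℂ) {g : G} (hg : g ∈ H) :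
    extendByZero H θ g = θ ⟨g, hg⟩ :=
  Subtype.val_injective.extend_apply θ 0 ⟨g, hg⟩

theorem extendByZero_coe (θ : H → ℂ) (h : H) : extendByZero H θ h = θ h :=
  Subtype.val_injective.extend_apply θ 0 h

theorem extendByZero_not_mem (θ : H → ℂ) {g : G} (hg : g ∉ H) : extendByZero H θ g = 0 :=
  Function.extend_apply' _ _ _ (by rintro ⟨h, rfl⟩; exact hg h.2)

open Classical in
theorem extendByZero_eq (θ : H → ℂ) (g : G) :
    extendByZero H θ g = if h : g ∈ H then θ ⟨g, h⟩ else 0 := by
  split_ifs with h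
  · exact extendByZero_mem H θ h
  · exact extendByZero_not_mem H θ h

theorem extendByZero_add (θ θ' : H → ℂ) :
    extendByZero H (θ + θ') = extendByZero H θ + extendByZero H θ' := by
  funext g
  by_cases h : g ∈ H
  · simp [extendByZero_mem _ _ h]
  · simp [extendByZero_not_mem _ _ h]

theorem extendByZero_smul (c : ℂ) (θ : H → ℂ) :
    extendByZero H (c • θ) = c • extendByZero H θ := by
  funext g
  by_cases h : g ∈ H
  · simp [extendByZero_mem _ _ h]
  · simp [extendByZero_not_mem _ _ h]

variable [Fintype G]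

theorem indFun_add (θ θ' : H → ℂ) : indFun H (θ + θ') = indFun H θ + indFun H θ' := by
  funext g
  simp [indFun, extendByZero_add, Finset.sum_add_distrib, mul_add]

theorem indFun_smul (c : ℂ) (θ : H → ℂ) : indFun H (c • θ) = c • indFun H θ := by
  funext g
  simp only [indFun, extendByZero_smul, Pi.smul_apply, smul_eq_mul, Finset.mul_sum]
  exact Finset.sum_congr rfl fun _ _ => by ring

theorem indFun_zero : indFun H (0 : H → ℂ) = 0 := by
  simpa using indFun_smul H 0 (0 : H → ℂ)

theorem indFun_neg (θ : H → ℂ) : indFun H (-θ) = -indFun H θ := by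
  simpa using indFun_smul H (-1) θ

theorem indFun_sub (θ θ' : H → ℂ) : indFun H (θ - θ') = indFun H θ - indFun H θ' := by
  rw [sub_eq_add_neg, indFun_add, indFun_neg, sub_eq_add_neg]

theorem indFun_sum {ι : Type*} (s : Finset ι) (f : ι → H → ℂ) :
    indFun H (∑ i ∈ s, f i) = ∑ i ∈ s, indFun H (f i) := by
  classical
  induction s using Finset.induction_on with
  | empty => simp [indFun_zero]
  | insert a s ha ih => rw [Finset.sum_insert ha, Finset.sum_insert ha, indFun_add, ih]

/-- Induced functions are class functions. -/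
theorem indFun_isClassFunction (θ : H → ℂ) : IsClassFunction G (indFun H θ) := by
  intro g y
  unfold indFun
  congr 1
  refine Fintype.sum_equiv (Equiv.mulLeft y⁻¹) _ _ fun x => congrArg _ ?_
  simp [mul_assoc]

theorem indFun_one_apply (θ : H → ℂ) : indFun H θ 1 = (H.index : ℂ) * θ 1 := by
  simp only [indFun, mul_one, inv_mul_cancel, extendByZero_mem H θ H.one_mem, Finset.sum_const,
    Finset.card_univ, nsmul_eq_mul]
  rw [← Nat.card_eq_fintype_card, ← H.index_mul_card, Nat.cast_mul]
  have : (Nat.card H : ℂ) ≠ 0 := Nat.cast_ne_zero.2 Nat.card_pos.ne'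
  field_simp
  rfl

theorem sum_extendByZero_mul [Fintype H] (θ : H → ℂ) (f : G → ℂ) :
    ∑ g : G, extendByZero H θ g * f g = ∑ h : H, θ h * f h := by
  classical
  rw [← Finset.sum_subset (Finset.subset_univ (Finset.univ.map ⟨_, Subtype.val_injective (p := (· ∈ H))⟩))]
  · simp [extendByZero_coe]
  · intro g _ hg
    rw [extendByZero_not_mem, zero_mul]
    intro h
    exact hg (by simpa using h)

/-- Frobenius reciprocity. -/
theorem frobenius_reciprocity [Fintype H] (θ : H → ℂ) {χ : G → ℂ} (hχ : IsClassFunction G χ) :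
    classInner (indFun H θ) χ = classInner θ (fun h : H => χ h) := by
  have key : ∀ x : G, ∑ g : G, extendByZero H θ (x⁻¹ * g * x) * conj (χ g) =
      ∑ h : H, θ h * conj (χ h) := by
    intro x
    rw [← sum_extendByZero_mul H θ fun g => conj (χ g)]
    refine Fintype.sum_equiv (MulAut.conj x⁻¹).toEquiv _ _ fun g => ?_
    have e := hχ g x⁻¹
    simp only [inv_inv] at e
    simp [e]
  have L : ∑ g : G, indFun H θ g * conj (χ g) =
      (Nat.card H : ℂ)⁻¹ * ∑ x : G, ∑ g : G, extendByZero H θ (x⁻¹ * g * x) * conj (χ g) := by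
    simp only [indFun, Finset.mul_sum, Finset.sum_mul, mul_assoc]
    exact Finset.sum_comm
  rw [classInner, classInner, L, Finset.sum_congr rfl fun x _ => key x, Finset.sum_const,
    Finset.card_univ, nsmul_eq_mul, ← Nat.card_eq_fintype_card]
  have : (Nat.card G : ℂ) ≠ 0 := Nat.cast_ne_zero.2 Nat.card_pos.ne'
  field_simp

/-- Frobenius reciprocity, second form. -/
theorem frobenius_reciprocity' [Fintype H] (θ : H → ℂ) {χ : G → ℂ} (hχ : IsClassFunction G χ) :
    classInner χ (indFun H θ) = classInner (fun h : H => χ h) θ := by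
  rw [← classInner_conj_symm, frobenius_reciprocity H θ hχ, classInner_conj_symm]

/-- The induced character of a character is a character. -/
theorem IsCharacter.indFun {θ : H → ℂ} (hθ : IsCharacter H θ) :
    IsCharacter G (Cfsg.indFun H θ) := by
  have := Fintype.ofFinite H
  refine isCharacter_of_classFunction (indFun_isClassFunction H θ) fun χ => ?_
  rw [frobenius_reciprocity H θ (IsIrrCharacter.isClassFunction χ.2)]
  exact IsCharacter.classInner_nat hθ (IsCharacter.restrict (IsIrrCharacter.isCharacter χ.2) H)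

/-- Transitivity of induction. -/
theorem indFun_trans (K : Subgroup G) [Fintype K] (hHK : H ≤ K) (θ : H → ℂ) :
    Cfsg.indFun K (Cfsg.indFun (H.subgroupOf K)
      (fun x => θ ⟨(x : K), Subgroup.mem_subgroupOf.mp x.2⟩)) = Cfsg.indFun H θ := by
  classical
  funext g
  have hcard : Nat.card (H.subgroupOf K) = Nat.card H :=
    Nat.card_congr (Subgroup.subgroupOfEquivOfLe hHK).toEquiv
  have hval : ∀ u : G, ∀ y : K,
      (if hu : u ∈ K then extendByZero (H.subgroupOf K)
        (fun x => θ ⟨(x : K), Subgroup.mem_subgroupOf.mp x.2⟩) (y⁻¹ * ⟨u, hu⟩ * y) else 0) =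
      extendByZero H θ ((y : G)⁻¹ * u * y) := by
    intro u y
    by_cases hm : (y : G)⁻¹ * u * y ∈ H
    · have hu : u ∈ K := by
        have := K.mul_mem (K.mul_mem y.2 (hHK hm)) (K.inv_mem y.2)
        simpa [mul_assoc] using this
      rw [dif_pos hu, extendByZero_mem _ _ hm,
        extendByZero_mem _ _ (Subgroup.mem_subgroupOf.2 (by simpa using hm))]
      rfl
    · rw [extendByZero_not_mem _ _ hm]
      split_ifs with hu
      · exact extendByZero_not_mem _ _ fun h => hm (by simpa [Subgroup.mem_subgroupOf] using h)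
      · rfl
  have hin : ∀ u : G, extendByZero K (Cfsg.indFun (H.subgroupOf K)
      (fun x => θ ⟨(x : K), Subgroup.mem_subgroupOf.mp x.2⟩)) u =
      (Nat.card H : ℂ)⁻¹ * ∑ y : K, extendByZero H θ ((y : G)⁻¹ * u * y) := by
    intro u
    rw [extendByZero_eq, ← Finset.sum_congr rfl fun y _ => hval u y]
    split_ifs with hu
    · rw [Cfsg.indFun, hcard]
    · simp
  have key : ∀ y : K, ∑ x : G, extendByZero H θ ((y : G)⁻¹ * (x⁻¹ * g * x) * y) =
      ∑ x : G, extendByZero H θ (x⁻¹ * g * x) := fun y =>
    Fintype.sum_equiv (Equiv.mulRight (y : G)) _ _ fun x => congrArg _ (by simp [mul_assoc])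
  conv_lhs => simp only [Cfsg.indFun]
  rw [Finset.sum_congr rfl fun x _ => hin (x⁻¹ * g * x), ← Finset.mul_sum, Finset.sum_comm,
    Finset.sum_congr rfl fun y _ => key y, Finset.sum_const, Finset.card_univ, nsmul_eq_mul,
    ← Nat.card_eq_fintype_card]
  have : (Nat.card K : ℂ) ≠ 0 := Nat.cast_ne_zero.2 Nat.card_pos.ne'
  simp only [Cfsg.indFun]
  field_simp

variable (T : Set G)

/-- On a TI subset the induced function agrees with the original one. -/
theorem indFun_eq_on_ti
    (hTI : ∀ g : G, g ∉ Subgroup.normalizer T → ∀ t ∈ T, g * t * g⁻¹ ∈ T → t = 1)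
    {ψ : Subgroup.normalizer T → ℂ} (hψ : IsClassFunction (Subgroup.normalizer T) ψ)
    (hψT : ∀ x : Subgroup.normalizer T, (x : G) ∉ T → ψ x = 0)
    (t : Subgroup.normalizer T) (htT : (t : G) ∈ T) (ht1 : t ≠ 1) :
    Cfsg.indFun (Subgroup.normalizer T) ψ t = ψ t := by
  classical
  have hout : ∀ x : G, x ∉ (Subgroup.normalizer T) → extendByZero (Subgroup.normalizer T) ψ (x⁻¹ * t * x) = 0 := by
    intro x hx
    rw [extendByZero_eq]
    split_ifs with hm
    · refine hψT _ fun hT => ht1 (Subtype.ext ?_)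
      exact hTI x⁻¹ (fun h => hx (by simpa using (Subgroup.normalizer T).inv_mem h)) t htT (by simpa using hT)
    · rfl
  have hin : ∀ x : (Subgroup.normalizer T), extendByZero (Subgroup.normalizer T) ψ ((x : G)⁻¹ * t * x) = ψ t := by
    intro x
    have e : (x : G)⁻¹ * t * x = ((x⁻¹ * t * x : (Subgroup.normalizer T)) : G) := by simp
    rw [e, extendByZero_coe]
    simpa using hψ t x⁻¹
  unfold Cfsg.indFun
  rw [← Finset.sum_filter_add_sum_filter_not Finset.univ (· ∈ (Subgroup.normalizer T)),
    Finset.sum_eq_zero (s := Finset.univ.filter fun x => ¬ x ∈ (Subgroup.normalizer T)) fun x hx =>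
      hout x (Finset.mem_filter.1 hx).2, add_zero]
  rw [Finset.sum_subtype (p := (· ∈ (Subgroup.normalizer T))) _ (fun x => by simp)
    (fun x => extendByZero (Subgroup.normalizer T) ψ (x⁻¹ * t * x))]
  rw [Finset.sum_congr rfl fun x _ => hin x, Finset.sum_const, Finset.card_univ, nsmul_eq_mul,
    ← Nat.card_eq_fintype_card]
  have : (Nat.card (Subgroup.normalizer T) : ℂ) ≠ 0 := Nat.cast_ne_zero.2 Nat.card_pos.ne'
  field_simp

/-- Induction is an isometry on functions supported on a TI subset and vanishing at `1`. -/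
theorem indFun_ti_isometry
    (hTI : ∀ g : G, g ∉ Subgroup.normalizer T → ∀ t ∈ T, g * t * g⁻¹ ∈ T → t = 1)
    [Fintype (Subgroup.normalizer T)]
    (ψ θ : Subgroup.normalizer T → ℂ) (hψ : IsClassFunction (Subgroup.normalizer T) ψ)
    (hψT : ∀ x : Subgroup.normalizer T, (x : G) ∉ T → ψ x = 0)
    (hθT : ∀ x : Subgroup.normalizer T, (x : G) ∉ T → θ x = 0) (hψ1 : ψ 1 = 0) :
    classInner (Cfsg.indFun (Subgroup.normalizer T) ψ) (Cfsg.indFun (Subgroup.normalizer T) θ) =
      classInner ψ θ := by
  rw [frobenius_reciprocity' _ _ (indFun_isClassFunction _ ψ), classInner, classInner]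
  congr 1
  refine Finset.sum_congr rfl fun x _ => ?_
  by_cases hx : (x : G) ∈ T
  · by_cases h1 : x = 1
    · subst h1
      rw [OneMemClass.coe_one, indFun_one_apply, hψ1, mul_zero]
    · rw [indFun_eq_on_ti T hTI hψ hψT x hx h1]
  · simp [hθT x hx]

end Cfsg.Agent.Char
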