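/-
Character theory core, part 9: permutation characters.

* `isCharacter_fixedPoints`, `classInner_fixedPoints_one` (number of orbits), `indFun_one_eq_fixedPoints`
-/
import Cfsg.Agent.Lib.Char.Induced

set_option autoImplicit false

namespace Cfsg.Agent.Char

open Cfsg Module

variable {G : Type*} [Group G]

/-- The permutation representation on `X → ℂ`. -/
noncomputable def permRep (G : Type*) [Group G] (X : Type*) [MulAction G X] :
    Representation ℂ G (X → ℂ) where
  toFun g := LinearMap.funLeft ℂ ℂ (g⁻¹ • ·)
  map_one' := by ext φ x; simp [LinearMap.funLeft_apply]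
  map_mul' g h := by ext φ x; simp [LinearMap.funLeft_apply, mul_smul]

theorem permRep_character (X : Type*) [MulAction G X] [Finite X] (g : G) :
    (permRep G X).character g = (Nat.card (MulAction.fixedBy X g) : ℂ) := by
  classical
  have := Fintype.ofFinite X
  rw [Representation.character, LinearMap.trace_eq_matrix_trace ℂ (Pi.basisFun ℂ X), Matrix.trace]
  simp [Matrix.diag, permRep, LinearMap.funLeft_apply, Pi.single_apply,
    Finset.sum_boole, Nat.card_eq_fintype_card, Fintype.card_subtype, eq_comm]
  congr 1
  ext x
  simp [eq_inv_smul_iff, eq_comm]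

/-- The number of fixed points is a character. -/
theorem isCharacter_fixedPoints (X : Type*) [MulAction G X] [Finite X] :
    IsCharacter G (fun g => (Nat.card (MulAction.fixedBy X g) : ℂ)) := by
  convert isCharacter_character (permRep G X) using 1
  exact funext fun g => (permRep_character X g).symm

/-- Burnside's lemma as an inner product. -/
theorem classInner_fixedPoints_one [Fintype G] (X : Type*) [MulAction G X] [Finite X] :
    classInner (fun g => (Nat.card (MulAction.fixedBy X g) : ℂ)) (1 : G → ℂ) =
      (Nat.card (MulAction.orbitRel.Quotient G X) : ℂ) := by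
  classical
  have := Fintype.ofFinite X
  have := Fintype.ofFinite (MulAction.orbitRel.Quotient G X)
  have key := MulAction.sum_card_fixedBy_eq_card_orbits_mul_card_group G X
  have key' : ∑ g : G, (Nat.card (MulAction.fixedBy X g) : ℂ) =
      (Nat.card (MulAction.orbitRel.Quotient G X) : ℂ) * (Nat.card G : ℂ) := by
    simp only [Nat.card_eq_fintype_card]
    exact_mod_cast key
  simp only [classInner, Pi.one_apply, map_one, mul_one]
  rw [key', mul_comm, mul_assoc, mul_inv_cancel₀ (Nat.cast_ne_zero.2 Nat.card_pos.ne'), mul_one]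

/-- The character induced from the principal one counts fixed cosets. -/
theorem indFun_one_eq_fixedPoints [Fintype G] (H : Subgroup G) (g : G) :
    indFun H (1 : H → ℂ) g = (Nat.card (MulAction.fixedBy (G ⧸ H) g) : ℂ) := by
  classical
  let S : Finset G := Finset.univ.filter fun x : G => x⁻¹ * g * x ∈ H
  have hsum : ∑ x : G, extendByZero H (1 : H → ℂ) (x⁻¹ * g * x) = (S.card : ℂ) := by
    simp [S, extendByZero_eq, Finset.sum_boole]
  have hS : S.card = Nat.card (MulAction.fixedBy (G ⧸ H) g) * Nat.card H := by
    let F : Finset (G ⧸ H) := Finset.univ.filter fun q => g • q = q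
    have hiff : ∀ x : G, x⁻¹ * g * x ∈ H ↔ g • (x : G ⧸ H) = (x : G ⧸ H) := by
      intro x
      rw [MulAction.Quotient.smul_coe, eq_comm, QuotientGroup.eq, smul_eq_mul, mul_assoc]
    have hfib : ∀ q ∈ F, (S.filter fun x : G => (x : G ⧸ H) = q).card = Nat.card H := by
      intro q hq
      obtain ⟨x, rfl⟩ := QuotientGroup.mk_surjective q
      rw [Nat.card_eq_fintype_card, ← Finset.card_univ (α := H)]
      refine (Finset.card_bij (fun (h : H) _ => x * (h : G)) ?_ ?_ ?_).symm
      · intro h _
        have e : ((x * (h : G) : G) : G ⧸ H) = (x : G ⧸ H) := QuotientGroup.mk_mul_of_mem x h.2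
        refine Finset.mem_filter.2 ⟨Finset.mem_filter.2 ⟨Finset.mem_univ _, ?_⟩, e⟩
        rw [hiff, e]
        exact (Finset.mem_filter.1 hq).2
      · intro a _ b _ e
        exact Subtype.ext (mul_left_cancel e)
      · intro y hy
        have e := QuotientGroup.eq.1 (Finset.mem_filter.1 hy).2.symm
        exact ⟨⟨x⁻¹ * y, e⟩, Finset.mem_univ _, by simp⟩
    rw [Finset.card_eq_sum_card_fiberwise (t := F) (f := fun x : G => (x : G ⧸ H)) fun x hx =>
        Finset.mem_filter.2 ⟨Finset.mem_univ _, (hiff x).1 (Finset.mem_filter.1 hx).2⟩,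
      Finset.sum_congr rfl hfib, Finset.sum_const, smul_eq_mul]
    simp [F, Nat.card_eq_fintype_card, Fintype.card_subtype]
  rw [indFun, hsum, hS, Nat.cast_mul]
  have : (Nat.card H : ℂ) ≠ 0 := Nat.cast_ne_zero.2 Nat.card_pos.ne'
  field_simp

end Cfsg.Agent.Char
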