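/-
Character theory core, part 8: generalized (virtual) characters.

* `IsGeneralizedCharacter.{zero,add,sub,neg,zsmul,intCast_smul,sum,mul,comp_hom,restrict,indFun,conj,apply_inv}`
* `isGeneralizedCharacter_of_isCharacter`, `IsGeneralizedCharacter.classInner_int`
* `isGeneralizedCharacter_iff_classInner`: class function with integral inner products
* `IsGeneralizedCharacter.exists_irr_of_norm_one`: norm one means plus or minus an irreducible
-/
import Cfsg.Agent.Lib.Char.Induced

set_option autoImplicit false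

namespace Cfsg.Agent.Char

open Cfsg
open scoped ComplexConjugate

variable {G : Type*} [Group G]

theorem isGeneralizedCharacter_of_isCharacter {χ : G → ℂ} (h : IsCharacter G χ) :
    IsGeneralizedCharacter G χ := ⟨χ, 0, h, isCharacter_zero, (sub_zero χ).symm⟩

theorem IsGeneralizedCharacter.zero : IsGeneralizedCharacter G (0 : G → ℂ) :=
  isGeneralizedCharacter_of_isCharacter isCharacter_zero

theorem IsGeneralizedCharacter.add {θ η : G → ℂ} (hθ : IsGeneralizedCharacter G θ)
    (hη : IsGeneralizedCharacter G η) : IsGeneralizedCharacter G (θ + η) := by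
  obtain ⟨a, b, ha, hb, rfl⟩ := hθ
  obtain ⟨c, d, hc, hd, rfl⟩ := hη
  exact ⟨a + c, b + d, IsCharacter.add ha hc, IsCharacter.add hb hd, by abel⟩

theorem IsGeneralizedCharacter.neg {θ : G → ℂ} (hθ : IsGeneralizedCharacter G θ) :
    IsGeneralizedCharacter G (-θ) := by
  obtain ⟨a, b, ha, hb, rfl⟩ := hθ
  exact ⟨b, a, hb, ha, by abel⟩

theorem IsGeneralizedCharacter.sub {θ η : G → ℂ} (hθ : IsGeneralizedCharacter G θ)
    (hη : IsGeneralizedCharacter G η) : IsGeneralizedCharacter G (θ - η) := by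
  rw [sub_eq_add_neg]
  exact IsGeneralizedCharacter.add hθ (IsGeneralizedCharacter.neg hη)

theorem IsGeneralizedCharacter.zsmul {θ : G → ℂ} (hθ : IsGeneralizedCharacter G θ) (m : ℤ) :
    IsGeneralizedCharacter G (m • θ) := by
  obtain ⟨a, b, ha, hb, rfl⟩ := hθ
  obtain ⟨n, rfl | rfl⟩ := Int.eq_nat_or_neg m
  · exact ⟨n • a, n • b, IsCharacter.nsmul ha n, IsCharacter.nsmul hb n, by
      rw [natCast_zsmul, smul_sub]⟩
  · exact ⟨n • b, n • a, IsCharacter.nsmul hb n, IsCharacter.nsmul ha n, by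
      rw [neg_zsmul, natCast_zsmul, smul_sub]; abel⟩

theorem IsGeneralizedCharacter.intCast_smul {θ : G → ℂ} (hθ : IsGeneralizedCharacter G θ) (m : ℤ) :
    IsGeneralizedCharacter G ((m : ℂ) • θ) := by
  rw [Int.cast_smul_eq_zsmul]; exact IsGeneralizedCharacter.zsmul hθ m

theorem IsGeneralizedCharacter.sum {ι : Type*} (s : Finset ι) {f : ι → G → ℂ}
    (h : ∀ i ∈ s, IsGeneralizedCharacter G (f i)) : IsGeneralizedCharacter G (∑ i ∈ s, f i) := by
  classical
  induction s using Finset.induction_on with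
  | empty => simpa using IsGeneralizedCharacter.zero
  | insert a s ha ih =>
    rw [Finset.sum_insert ha]
    exact IsGeneralizedCharacter.add (h a (Finset.mem_insert_self a s))
      (ih fun i hi => h i (Finset.mem_insert_of_mem hi))

theorem IsGeneralizedCharacter.mul {θ η : G → ℂ} (hθ : IsGeneralizedCharacter G θ)
    (hη : IsGeneralizedCharacter G η) : IsGeneralizedCharacter G (θ * η) := by
  obtain ⟨a, b, ha, hb, rfl⟩ := hθ
  obtain ⟨c, d, hc, hd, rfl⟩ := hη
  exact ⟨a * c + b * d, a * d + b * c,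
    IsCharacter.add (IsCharacter.mul ha hc) (IsCharacter.mul hb hd),
    IsCharacter.add (IsCharacter.mul ha hd) (IsCharacter.mul hb hc), by ring⟩

theorem IsGeneralizedCharacter.comp_hom {H : Type*} [Group H] {θ : G → ℂ}
    (hθ : IsGeneralizedCharacter G θ) (f : H →* G) :
    IsGeneralizedCharacter H (fun h => θ (f h)) := by
  obtain ⟨a, b, ha, hb, rfl⟩ := hθ
  exact ⟨_, _, IsCharacter.comp_hom ha f, IsCharacter.comp_hom hb f, rfl⟩

theorem IsGeneralizedCharacter.restrict {θ : G → ℂ}
    (hθ : IsGeneralizedCharacter G θ) (H : Subgroup G) :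
    IsGeneralizedCharacter H (fun h : H => θ h) :=
  IsGeneralizedCharacter.comp_hom hθ H.subtype

theorem IsGeneralizedCharacter.isClassFunction {θ : G → ℂ} (hθ : IsGeneralizedCharacter G θ) :
    IsClassFunction G θ := by
  obtain ⟨a, b, ha, hb, rfl⟩ := hθ
  exact isClassFunction_sub (IsCharacter.isClassFunction ha) (IsCharacter.isClassFunction hb)

theorem IsGeneralizedCharacter.indFun [Fintype G] {H : Subgroup G} {θ : H → ℂ}
    (hθ : IsGeneralizedCharacter H θ) : IsGeneralizedCharacter G (Cfsg.indFun H θ) := by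
  obtain ⟨a, b, ha, hb, rfl⟩ := hθ
  exact ⟨_, _, IsCharacter.indFun H ha, IsCharacter.indFun H hb, indFun_sub H a b⟩

section finite

variable [Finite G]

theorem IsGeneralizedCharacter.conj {θ : G → ℂ} (hθ : IsGeneralizedCharacter G θ) :
    IsGeneralizedCharacter G (fun g => conj (θ g)) := by
  obtain ⟨a, b, ha, hb, rfl⟩ := hθ
  exact ⟨_, _, IsCharacter.conj ha, IsCharacter.conj hb, funext fun g => map_sub _ _ _⟩

theorem IsGeneralizedCharacter.apply_inv {θ : G → ℂ} (hθ : IsGeneralizedCharacter G θ) (g : G) :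
    θ g⁻¹ = (starRingEnd ℂ) (θ g) := by
  obtain ⟨a, b, ha, hb, rfl⟩ := hθ
  simp [IsCharacter.apply_inv ha, IsCharacter.apply_inv hb]

theorem IsGeneralizedCharacter.isIntegral {θ : G → ℂ} (hθ : IsGeneralizedCharacter G θ) (g : G) :
    IsIntegral ℤ (θ g) := by
  obtain ⟨a, b, ha, hb, rfl⟩ := hθ
  exact (IsCharacter.isIntegral ha g).sub (IsCharacter.isIntegral hb g)

end finite

theorem IsGeneralizedCharacter.classInner_int [Fintype G] {θ η : G → ℂ}
    (hθ : IsGeneralizedCharacter G θ) (hη : IsGeneralizedCharacter G η) :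
    ∃ m : ℤ, classInner θ η = m := by
  obtain ⟨a, b, ha, hb, rfl⟩ := hθ
  obtain ⟨c, d, hc, hd, rfl⟩ := hη
  obtain ⟨n1, h1⟩ := IsCharacter.classInner_nat ha hc
  obtain ⟨n2, h2⟩ := IsCharacter.classInner_nat ha hd
  obtain ⟨n3, h3⟩ := IsCharacter.classInner_nat hb hc
  obtain ⟨n4, h4⟩ := IsCharacter.classInner_nat hb hd
  refine ⟨(n1 : ℤ) - n2 - ((n3 : ℤ) - n4), ?_⟩
  rw [classInner_sub_left, classInner_sub_right, classInner_sub_right, h1, h2, h3, h4]
  push_cast; rfl

theorem isGeneralizedCharacter_iff_classInner [Fintype G] {θ : G → ℂ} :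
    IsGeneralizedCharacter G θ ↔ IsClassFunction G θ ∧
      ∀ χ : IrrCharacter G, ∃ m : ℤ, classInner θ (χ : G → ℂ) = m := by
  refine ⟨fun h => ⟨IsGeneralizedCharacter.isClassFunction h, fun χ =>
    IsGeneralizedCharacter.classInner_int h
      (isGeneralizedCharacter_of_isCharacter (IsIrrCharacter.isCharacter χ.2))⟩, ?_⟩
  rintro ⟨hf, h⟩
  have := Fintype.ofFinite (IrrCharacter G)
  rw [classFunction_eq_sum hf]
  refine IsGeneralizedCharacter.sum _ fun χ _ => ?_
  obtain ⟨m, hm⟩ := h χ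
  rw [hm]
  exact IsGeneralizedCharacter.intCast_smul
    (isGeneralizedCharacter_of_isCharacter (IsIrrCharacter.isCharacter χ.2)) m

/-- The norm of a class function as a sum of squares of its integer coefficients. -/
theorem IsGeneralizedCharacter.exists_coeffs [Fintype G] [Fintype (IrrCharacter G)] {θ : G → ℂ}
    (hθ : IsGeneralizedCharacter G θ) : ∃ m : IrrCharacter G → ℤ,
      θ = ∑ χ : IrrCharacter G, (m χ : ℂ) • (χ : G → ℂ) ∧
      (∀ χ : IrrCharacter G, classInner θ (χ : G → ℂ) = m χ) ∧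
      classInner θ θ = ((∑ χ : IrrCharacter G, m χ ^ 2 : ℤ) : ℂ) := by
  obtain ⟨hf, h⟩ := isGeneralizedCharacter_iff_classInner.1 hθ
  choose m hm using h
  refine ⟨m, ?_, hm, ?_⟩
  · conv_lhs => rw [classFunction_eq_sum hf]
    simp [hm]
  · rw [classInner_eq_sum hf θ]
    push_cast
    exact Finset.sum_congr rfl fun χ _ => by rw [hm, map_intCast, sq]

/-- A generalized character of norm one is plus or minus an irreducible character. -/
theorem IsGeneralizedCharacter.exists_irr_of_norm_one [Fintype G] {θ : G → ℂ}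
    (hθ : IsGeneralizedCharacter G θ) (h1 : classInner θ θ = 1) :
    ∃ χ : G → ℂ, IsIrrCharacter G χ ∧ (θ = χ ∨ θ = -χ) := by
  classical
  have := Fintype.ofFinite (IrrCharacter G)
  obtain ⟨m, he, -, hn⟩ := IsGeneralizedCharacter.exists_coeffs hθ
  rw [h1] at hn
  have hs : ∑ χ : IrrCharacter G, m χ ^ 2 = 1 := by exact_mod_cast hn.symm
  obtain ⟨c, hc⟩ : ∃ c, m c ≠ 0 := by
    by_contra hc
    push Not at hc
    simp [hc] at hs
  have hle := Finset.single_le_sum (f := fun χ => m χ ^ 2) (fun χ _ => sq_nonneg _)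
    (Finset.mem_univ c)
  have hc1 : m c ^ 2 = 1 := by
    have : 0 < m c ^ 2 := by positivity
    omega
  have hrest : ∀ χ, χ ≠ c → m χ = 0 := by
    intro χ hχ
    have h2 : m c ^ 2 + m χ ^ 2 ≤ 1 := by
      rw [← hs, ← Finset.sum_pair (f := fun χ => m χ ^ 2) hχ.symm]
      exact Finset.sum_le_sum_of_subset_of_nonneg (Finset.subset_univ _) fun _ _ _ => sq_nonneg _
    exact pow_eq_zero_iff two_ne_zero |>.1 (le_antisymm (by omega) (sq_nonneg _))
  rw [Finset.sum_eq_single c (fun χ _ h => by simp [hrest χ h])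
    (fun h => absurd (Finset.mem_univ _) h)] at he
  refine ⟨c, c.2, ?_⟩
  rcases sq_eq_one_iff.1 hc1 with e | e
  · exact Or.inl (by simpa [e] using he)
  · exact Or.inr (by simpa [e] using he)

end Cfsg.Agent.Char
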