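/-
Character theory core, part 10: Brauer's induction theorem, virtual form, and the characterization
of characters.

* `indFun_mul`: the projection formula
* `one_mem_brauerGens`: the principal character is a ℤ-combination of characters induced from elementary subgroups
* `brauer_mem_closure`, `brauer_characterization`
* `exists_pParts`: the p'-part of an element as a power
-/
import Cfsg.Agent.Lib.Char.Perm
import Cfsg.Agent.Lib.Char.Virtual

set_option autoImplicit false

namespace Cfsg.Agent.Char

open Cfsg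
open scoped ComplexConjugate

variable {G : Type*} [Group G]

theorem indFun_mul [Fintype G] (H : Subgroup G) (θ : H → ℂ) {f : G → ℂ} (hf : IsClassFunction G f) :
    Cfsg.indFun H θ * f = Cfsg.indFun H (θ * fun h : H => f h) := by
  funext g
  simp only [Pi.mul_apply, Cfsg.indFun]
  rw [mul_assoc, Finset.sum_mul]
  congr 1
  refine Finset.sum_congr rfl fun x _ => ?_
  by_cases h : x⁻¹ * g * x ∈ H
  · rw [extendByZero_mem _ _ h, extendByZero_mem _ _ h, Pi.mul_apply]
    have e := hf g x⁻¹
    rw [inv_inv] at e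
    rw [← e]
  · rw [extendByZero_not_mem _ _ h, extendByZero_not_mem _ _ h, zero_mul]

/-- The exponent `m` sending each element to its `p'`-part. -/
theorem exists_pParts_exponent (p N : ℕ) (hp : p.Prime) (hN : N ≠ 0) :
    ∃ m : ℕ, p ^ N.factorization p ∣ m ∧ m ≡ 1 [MOD N / p ^ N.factorization p] := by
  have hc : Nat.Coprime (p ^ N.factorization p) (N / p ^ N.factorization p) :=
    (Nat.coprime_ordCompl hp hN).pow_left _
  obtain ⟨m, hm1, hm2⟩ := Nat.chineseRemainder hc 0 1
  exact ⟨m, Nat.modEq_zero_iff_dvd.1 hm1, hm2⟩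

/-- The generators of Brauer's induction theorem. -/
def brauerGens (G : Type*) [Group G] [Fintype G] : Set (G → ℂ) :=
  {f | ∃ (E : Subgroup G) (p : ℕ) (ψ : E → ℂ),
    p.Prime ∧ IsElementary p E ∧ IsGeneralizedCharacter E ψ ∧ f = Cfsg.indFun E ψ}

section core

variable [Fintype G]

theorem brauerGens_isGeneralizedCharacter {f : G → ℂ}
    (hf : f ∈ AddSubgroup.closure (brauerGens G)) : IsGeneralizedCharacter G f := by
  induction hf using AddSubgroup.closure_induction with
  | mem x hx =>
    obtain ⟨E, p, ψ, -, -, hψ, rfl⟩ := hx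
    exact IsGeneralizedCharacter.indFun hψ
  | zero => exact IsGeneralizedCharacter.zero
  | add x y _ _ hx hy => exact IsGeneralizedCharacter.add hx hy
  | neg x _ hx => exact IsGeneralizedCharacter.neg hx

theorem brauerGens_mul_mem {f θ : G → ℂ} (hf : f ∈ AddSubgroup.closure (brauerGens G))
    (hθ : IsGeneralizedCharacter G θ) : f * θ ∈ AddSubgroup.closure (brauerGens G) := by
  induction hf using AddSubgroup.closure_induction with
  | mem x hx =>
    obtain ⟨E, p, ψ, hp, hE, hψ, rfl⟩ := hx
    rw [indFun_mul E ψ (IsGeneralizedCharacter.isClassFunction hθ)]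
    exact AddSubgroup.subset_closure ⟨E, p, _, hp, hE,
      IsGeneralizedCharacter.mul hψ (IsGeneralizedCharacter.restrict hθ E), rfl⟩
  | zero => simp
  | add x y _ _ hx hy => rw [add_mul]; exact AddSubgroup.add_mem _ hx hy
  | neg x _ hx => rw [neg_mul]; exact AddSubgroup.neg_mem _ hx

/-- At each element and for each prime some integral combination of induced characters takes an
integral value prime to that prime, and is supported on the elements with conjugate p'-part. -/
theorem exists_brauer_local_supp (x : G) (p : ℕ) (hp : p.Prime) :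
    ∃ f ∈ Submodule.span (integralClosure ℤ ℂ) (brauerGens G),
      (∃ n : ℕ, ¬ p ∣ n ∧ f x = (n : ℂ)) ∧
      ∃ m : ℕ, p ^ (Nat.card G).factorization p ∣ m ∧
        m ≡ 1 [MOD Nat.card G / p ^ (Nat.card G).factorization p] ∧
        ∀ g : G, f g ≠ 0 → IsConj (x ^ m) (g ^ m) := by
  classical
  have hpf : Fact p.Prime := ⟨hp⟩
  have hN : Nat.card G ≠ 0 := Nat.card_pos.ne'
  obtain ⟨m, hm0, hm1⟩ := exists_pParts_exponent p (Nat.card G) hp hN
  set q := p ^ (Nat.card G).factorization p with hq
  set l := Nat.card G / q with hl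
  have hql : q * l = Nat.card G := Nat.ordProj_mul_ordCompl_eq_self _ _
  have hlz : ∀ z : G, z ^ l = 1 → z ^ m = z := fun z hz => by
    have := (pow_eq_pow_iff_modEq (x := z) (n := m) (m := 1)).2
      (Nat.ModEq.of_dvd (orderOf_dvd_of_pow_eq_one hz) hm1)
    simpa using this
  have hqz : ∀ z : G, z ^ q = 1 → z ^ m = 1 := fun z hz => by
    obtain ⟨k, hk⟩ := hm0
    rw [hk, pow_mul, hz, one_pow]
  set y := x ^ m with hy
  set u := x * y⁻¹ with hu
  have hyl : y ^ l = 1 := by
    obtain ⟨k, hk⟩ := hm0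
    rw [hy, ← pow_mul, hk, mul_right_comm, hql, pow_mul, pow_card_eq_one', one_pow]
  have hxy : Commute x y := (Commute.refl x).pow_right m
  have huq : u ^ q = 1 := by
    rw [hu, hxy.inv_right.mul_pow, inv_pow, mul_inv_eq_one, hy, ← pow_mul, pow_eq_pow_iff_modEq]
    have hmod := (hm1.symm.mul_left' q : q * 1 ≡ q * m [MOD q * l])
    rw [mul_one, mul_comm q m, hql] at hmod
    exact hmod.of_dvd (orderOf_dvd_natCard x)
  have huy : Commute u y := Commute.mul_left hxy (Commute.refl y).inv_left
  set K := Subgroup.centralizer ({y} : Set G)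
  let uK : K := ⟨u, Subgroup.mem_centralizer_singleton_iff.2 huy.eq⟩
  have huP : IsPGroup p (Subgroup.zpowers uK) := by
    obtain ⟨k, -, hk⟩ := (Nat.dvd_prime_pow hp).1 (orderOf_dvd_of_pow_eq_one huq)
    refine IsPGroup.of_card (n := k) ?_
    rw [Nat.card_zpowers, ← hk, ← Subgroup.orderOf_coe]
  obtain ⟨P, hP⟩ := huP.exists_le_sylow
  have hv : ∀ v : (P : Subgroup K), ((v : K) : G) ^ q = 1 := by
    intro v
    have h1 : orderOf ((v : K) : G) ∣ q := by
      rw [Subgroup.orderOf_coe, Subgroup.orderOf_coe]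
      refine (orderOf_dvd_natCard v).trans ?_
      rw [Sylow.card_eq_multiplicity]
      exact Nat.ordProj_dvd_ordProj_of_dvd hN (Subgroup.card_subgroup_dvd_card K) p
    exact orderOf_dvd_iff_pow_eq_one.1 h1
  have hc : ∀ c : Subgroup.zpowers y, (c : G) ^ l = 1 := by
    rintro ⟨c, hc⟩
    obtain ⟨i, rfl⟩ := Subgroup.mem_zpowers_iff.1 hc
    show (y ^ i) ^ l = 1
    rw [← zpow_natCast, ← zpow_mul, mul_comm, zpow_mul, zpow_natCast, hyl, one_zpow]
  have hcv : ∀ (c : Subgroup.zpowers y) (v : K), Commute (c : G) (v : G) := by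
    rintro ⟨c, hc⟩ v
    obtain ⟨i, rfl⟩ := Subgroup.mem_zpowers_iff.1 hc
    have h : Commute (v : G) y := Subgroup.mem_centralizer_singleton_iff.1 v.2
    exact h.symm.zpow_left i
  let φ : Subgroup.zpowers y × (P : Subgroup K) →* G :=
    MonoidHom.noncommCoprod (Subgroup.zpowers y).subtype (K.subtype.comp (P : Subgroup K).subtype)
      (fun c v => hcv c (v : K))
  have hφ : ∀ c v, φ (c, v) = (c : G) * ((v : K) : G) := fun c v => rfl
  have hφm : ∀ c v, φ (c, v) ^ m = (c : G) := by
    intro c v
    rw [hφ, (hcv c (v : K)).mul_pow, hlz _ (hc c), hqz _ (hv v), mul_one]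
  have hinj : Function.Injective φ := by
    rintro ⟨c, v⟩ ⟨c', v'⟩ e
    have h1 : c = c' := Subtype.ext (by rw [← hφm c v, ← hφm c' v', e])
    subst h1
    rw [hφ, hφ] at e
    exact Prod.ext rfl (Subtype.ext (Subtype.ext (mul_left_cancel e)))
  let E : Subgroup G := φ.range
  let e : Subgroup.zpowers y × (P : Subgroup K) ≃* E := MonoidHom.ofInjective hinj
  let π : E →* Subgroup.zpowers y := (MonoidHom.fst _ _).comp e.symm.toMonoidHom
  have he : ∀ z : E, (z : G) = φ (e.symm z) := fun z => by
    conv_lhs => rw [← e.apply_symm_apply z]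
    rfl
  have hπ : ∀ z : E, (π z : G) = (z : G) ^ m := fun z => by
    rw [he z, show e.symm z = ((e.symm z).1, (e.symm z).2) from rfl, hφm]
    rfl
  have hyE : y ∈ E := ⟨(⟨y, Subgroup.mem_zpowers y⟩, 1), by simp [hφ]⟩
  have hcardE : Nat.card E = orderOf y * Nat.card (P : Subgroup K) := by
    rw [← Nat.card_congr e.toEquiv, Nat.card_prod, Nat.card_zpowers]
  have hel : IsElementary p E := by
    refine ⟨⟨y, hyE⟩, Subgroup.mem_center_iff.2 fun z => Subtype.ext ?_, ?_, ?_⟩
    · obtain ⟨⟨c, v⟩, hz⟩ := z.2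
      show (z : G) * y = y * z
      rw [← hz, hφ]
      obtain ⟨i, hi⟩ := Subgroup.mem_zpowers_iff.1 c.2
      have h1 : Commute (c : G) y := by rw [← hi]; exact (Commute.refl y).zpow_left i
      have h2 : Commute ((v : K) : G) y := Subgroup.mem_centralizer_singleton_iff.1 (v : K).2
      exact (h1.mul_left h2).eq
    · rw [← Subgroup.orderOf_coe]
      exact Nat.Coprime.coprime_dvd_left (orderOf_dvd_of_pow_eq_one hyl)
        (Nat.coprime_ordCompl hp hN).symm
    · obtain ⟨k, hk⟩ := IsPGroup.iff_card.1 P.2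
      refine ⟨k, Nat.eq_of_mul_eq_mul_left (orderOf_pos y) ?_⟩
      have := (Subgroup.zpowers (⟨y, hyE⟩ : E)).index_mul_card
      rw [Nat.card_zpowers, ← Subgroup.orderOf_coe, hcardE, hk] at this
      rw [mul_comm]; exact this
  -- the function `|⟨y⟩|` on the coset `y P`, zero elsewhere, as a combination of linear characters
  have := Fintype.ofFinite (IrrCharacter (Subgroup.zpowers y))
  let yC : Subgroup.zpowers y := ⟨y, Subgroup.mem_zpowers y⟩
  let ψ : IrrCharacter (Subgroup.zpowers y) → E → ℂ := fun χ z =>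
    (χ : Subgroup.zpowers y → ℂ) (π z)
  let a : IrrCharacter (Subgroup.zpowers y) → integralClosure ℤ ℂ := fun χ =>
    ⟨conj ((χ : Subgroup.zpowers y → ℂ) yC),
      IsCharacter.isIntegral (IsCharacter.conj (IsIrrCharacter.isCharacter χ.2)) yC⟩
  have hδ : ∑ χ, (a χ : ℂ) • ψ χ =
      fun z : E => if π z = yC then (orderOf y : ℂ) else 0 := by
    funext z
    simp only [Finset.sum_apply, Pi.smul_apply, smul_eq_mul, a, ψ]
    rw [Finset.sum_congr rfl fun χ _ => mul_comm _ _, column_orth]
    have hab : ∀ c d : Subgroup.zpowers y, c * d = d * c := fun c d => by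
      obtain ⟨i, hi⟩ := Subgroup.mem_zpowers_iff.1 c.2
      obtain ⟨j, hj⟩ := Subgroup.mem_zpowers_iff.1 d.2
      exact Subtype.ext (by
        rw [Subgroup.coe_mul, Subgroup.coe_mul, ← hi, ← hj]
        exact (Commute.refl y).zpow_zpow i j)
    have hconj : IsConj (π z) yC ↔ π z = yC := by
      refine ⟨fun h => ?_, fun h => h ▸ IsConj.refl _⟩
      obtain ⟨c, hc'⟩ := isConj_iff.1 h
      rw [← hc', hab c, mul_inv_cancel_right]
    have hcen : Subgroup.centralizer ({π z} : Set (Subgroup.zpowers y)) = ⊤ :=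
      Subgroup.ext fun c => ⟨fun _ => trivial, fun _ =>
        Subgroup.mem_centralizer_singleton_iff.2 (hab _ _)⟩
    simp only [hconj, hcen, Subgroup.card_top, Nat.card_zpowers]
  have hsum : (∑ χ, a χ • Cfsg.indFun E (ψ χ)) = Cfsg.indFun E (∑ χ, (a χ : ℂ) • ψ χ) := by
    rw [indFun_sum]
    exact Finset.sum_congr rfl fun χ _ => (indFun_smul E (a χ : ℂ) (ψ χ)).symm
  refine ⟨∑ χ, a χ • Cfsg.indFun E (ψ χ), Submodule.sum_mem _ fun χ _ =>
    Submodule.smul_mem _ _ (Submodule.subset_span ⟨E, p, ψ χ, hp, hel,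
      isGeneralizedCharacter_of_isCharacter
        (IsCharacter.comp_hom (IsIrrCharacter.isCharacter χ.2) π), rfl⟩),
    ⟨Nat.card (MulAction.fixedBy (K ⧸ (P : Subgroup K)) uK), ?_, ?_⟩, m, hm0, hm1, ?_⟩
  rotate_left 2
  · intro g hg
    rw [hsum, hδ, Cfsg.indFun] at hg
    obtain ⟨t, -, ht⟩ := Finset.exists_ne_zero_of_sum_ne_zero (right_ne_zero_of_mul hg)
    rw [extendByZero_eq] at ht
    split_ifs at ht with h1 h2
    · have h3 : (t⁻¹ * g * t) ^ m = y := by
        have := congrArg Subtype.val h2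
        rwa [hπ] at this
      refine isConj_iff.2 ⟨t, ?_⟩
      rw [← hy, ← h3]
      have := conj_pow (i := m) (a := t⁻¹) (b := g)
      rw [inv_inv] at this
      rw [this]
      simp [mul_assoc]
    · exact absurd rfl ht
    · exact absurd rfl ht
  · -- the number of fixed cosets is prime to p
    have hfix : MulAction.fixedBy (K ⧸ (P : Subgroup K)) uK =
        MulAction.fixedPoints (Subgroup.zpowers uK) (K ⧸ (P : Subgroup K)) := by
      ext r
      refine ⟨fun hr z => ?_, fun hr => hr ⟨uK, Subgroup.mem_zpowers uK⟩⟩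
      have hle : Subgroup.zpowers uK ≤ MulAction.stabilizer K r := Subgroup.zpowers_le.2 hr
      exact hle z.2
    rw [hfix]
    intro hdvd
    have h1 := huP.card_modEq_card_fixedPoints (K ⧸ (P : Subgroup K))
    have h2 : p ∣ Nat.card (K ⧸ (P : Subgroup K)) :=
      Nat.modEq_zero_iff_dvd.1 (h1.trans (Nat.modEq_zero_iff_dvd.2 hdvd))
    rw [← Subgroup.index_eq_card] at h2
    exact P.not_dvd_index h2
  · -- evaluate the combination at x
    rw [hsum, hδ, ← indFun_one_eq_fixedPoints]
    have hval : ∀ g : G, extendByZero E (fun z : E => if π z = yC then (orderOf y : ℂ) else 0)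
        (g⁻¹ * x * g) = (orderOf y : ℂ) * (if h : g ∈ K then
          extendByZero (P : Subgroup K) 1 ((⟨g, h⟩ : K)⁻¹ * uK * ⟨g, h⟩) else 0) := by
      intro g
      have hconjpow : (g⁻¹ * x * g) ^ m = g⁻¹ * y * g := by
        have := conj_pow (i := m) (a := g⁻¹) (b := x)
        simpa [hy] using this
      by_cases hgK : g ∈ K
      · rw [dif_pos hgK]
        have hgy : g⁻¹ * y * g = y := by
          rw [mul_assoc, ← Subgroup.mem_centralizer_singleton_iff.1 hgK, inv_mul_cancel_left]
        have hsplit : g⁻¹ * x * g = y * (g⁻¹ * u * g) := by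
          calc g⁻¹ * x * g = g⁻¹ * (u * y) * g := by rw [hu, inv_mul_cancel_right]
            _ = g⁻¹ * (y * u) * g := by rw [huy.eq]
            _ = (g⁻¹ * y * g) * (g⁻¹ * u * g) := by simp only [mul_assoc, mul_inv_cancel_left]
            _ = _ := by rw [hgy]
        by_cases hw : (⟨g, hgK⟩ : K)⁻¹ * uK * ⟨g, hgK⟩ ∈ (P : Subgroup K)
        · have hmem : g⁻¹ * x * g ∈ E := ⟨(yC, ⟨_, hw⟩), by rw [hφ, hsplit]; rfl⟩
          rw [extendByZero_mem _ _ hmem, extendByZero_mem _ _ hw, if_pos, Pi.one_apply, mul_one]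
          exact Subtype.ext (by rw [hπ]; exact hconjpow.trans hgy)
        · rw [extendByZero_not_mem _ _ hw, mul_zero, extendByZero_eq]
          split_ifs with h1 h2
          · exfalso
            obtain ⟨⟨c, v⟩, hcv'⟩ := h1
            have hc' : (c : G) = y := by rw [← hφm c v, hcv', hconjpow, hgy]
            rw [hφ, hc', hsplit] at hcv'
            apply hw
            have : (v : K) = (⟨g, hgK⟩ : K)⁻¹ * uK * ⟨g, hgK⟩ :=
              Subtype.ext (mul_left_cancel hcv')
            rw [← this]
            exact v.2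
          · rfl
          · rfl
      · rw [dif_neg hgK, mul_zero, extendByZero_eq]
        split_ifs with h1 h2
        · exfalso
          refine hgK (Subgroup.mem_centralizer_singleton_iff.2 ?_)
          have h3 : g⁻¹ * y * g = y := by
            have := congrArg Subtype.val h2
            rw [hπ] at this
            rw [← hconjpow]; exact this
          calc g * y = g * (g⁻¹ * y * g) := by rw [h3]
            _ = y * g := by simp [mul_assoc]
        · rfl
        · rfl
    conv_lhs => rw [Cfsg.indFun, Finset.sum_congr rfl fun g _ => hval g, ← Finset.mul_sum]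
    rw [Cfsg.indFun, hcardE, Nat.cast_mul, mul_inv, mul_mul_mul_comm,
      inv_mul_cancel₀ (Nat.cast_ne_zero.2 (orderOf_pos y).ne'), one_mul]
    congr 1
    rw [← Finset.sum_filter_add_sum_filter_not Finset.univ (· ∈ K)]
    rw [Finset.sum_eq_zero (s := Finset.univ.filter fun g => ¬ g ∈ K) fun g hg =>
      dif_neg (Finset.mem_filter.1 hg).2, add_zero,
      Finset.sum_subtype (p := (· ∈ K)) _ (fun g => by simp)
        (fun g => if h : g ∈ K then
          extendByZero (P : Subgroup K) 1 ((⟨g, h⟩ : K)⁻¹ * uK * ⟨g, h⟩) else 0)]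
    exact Finset.sum_congr rfl fun g _ => dif_pos g.2

theorem exists_brauer_local (x : G) (p : ℕ) (hp : p.Prime) :
    ∃ f ∈ Submodule.span (integralClosure ℤ ℂ) (brauerGens G),
      ∃ n : ℕ, ¬ p ∣ n ∧ f x = (n : ℂ) := by
  obtain ⟨f, hf, h, -⟩ := exists_brauer_local_supp x p hp
  exact ⟨f, hf, h⟩

theorem one_mem_brauer_span :
    (1 : G → ℂ) ∈ Submodule.span (integralClosure ℤ ℂ) (brauerGens G) := by
  classical
  set W := Submodule.span (integralClosure ℤ ℂ) (brauerGens G)
  have hmul : ∀ f ∈ W, ∀ h ∈ W, f * h ∈ W := by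
    intro f hf h hh
    induction hh using Submodule.span_induction with
    | mem b hb =>
      induction hf using Submodule.span_induction with
      | mem a ha =>
        have hmem := brauerGens_mul_mem (AddSubgroup.subset_closure ha)
          (brauerGens_isGeneralizedCharacter (AddSubgroup.subset_closure hb))
        exact (AddSubgroup.closure_le (K := W.toAddSubgroup)).2 Submodule.subset_span hmem
      | zero => simp
      | add a₁ a₂ _ _ h1 h2 => rw [add_mul]; exact W.add_mem h1 h2
      | smul r a _ h1 => rw [smul_mul_assoc]; exact W.smul_mem r h1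
    | zero => simp
    | add b₁ b₂ _ _ h1 h2 => rw [mul_add]; exact W.add_mem h1 h2
    | smul r b _ h1 => rw [mul_smul_comm]; exact W.smul_mem r h1
  have hone : ∀ x : G, ∃ f ∈ W, f x = 1 := by
    intro x
    let S : AddSubgroup ℤ :=
    { carrier := {z | ∃ f ∈ W, f x = (z : ℂ)}
      zero_mem' := ⟨0, W.zero_mem, by simp⟩
      add_mem' := by
        rintro a b ⟨f, hf, hfx⟩ ⟨h, hh, hhx⟩
        exact ⟨f + h, W.add_mem hf hh, by simp [hfx, hhx]⟩
      neg_mem' := by
        rintro a ⟨f, hf, hfx⟩
        exact ⟨-f, W.neg_mem hf, by simp [hfx]⟩ }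
    obtain ⟨d, hd⟩ := Int.subgroup_cyclic S
    have hd1 : d.natAbs = 1 := by
      by_contra hne
      obtain ⟨p, hp, hpd⟩ := Nat.exists_prime_and_dvd hne
      obtain ⟨f, hf, n, hn, hfx⟩ := exists_brauer_local x p hp
      have hnS : (n : ℤ) ∈ S := ⟨f, hf, by simpa using hfx⟩
      rw [hd, AddSubgroup.mem_closure_singleton] at hnS
      obtain ⟨k, hk⟩ := hnS
      refine hn (Int.natCast_dvd_natCast.1 ?_)
      rw [← hk, smul_eq_mul]
      exact dvd_mul_of_dvd_right (Int.natCast_dvd.2 hpd) k
    have h1 : (1 : ℤ) ∈ S := by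
      rw [hd, AddSubgroup.mem_closure_singleton]
      rcases Int.natAbs_eq d with e | e <;> rw [hd1] at e
      · exact ⟨1, by simp [e]⟩
      · exact ⟨-1, by simp [e]⟩
    obtain ⟨f, hf, hfx⟩ := h1
    exact ⟨f, hf, by simpa using hfx⟩
  choose F hF hF1 using hone
  have key : ∀ s : Finset G, 1 - ∏ x ∈ s, (1 - F x) ∈ W := by
    intro s
    induction s using Finset.induction_on with
    | empty => simp
    | insert a s ha ih =>
      have e : (1 : G → ℂ) - ∏ x ∈ insert a s, (1 - F x) =
          (1 - ∏ x ∈ s, (1 - F x)) + F a - F a * (1 - ∏ x ∈ s, (1 - F x)) := by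
        rw [Finset.prod_insert ha]; ring
      rw [e]
      exact W.sub_mem (W.add_mem ih (hF a)) (hmul _ (hF a) _ ih)
  have hz : ∏ x : G, (1 - F x) = 0 := by
    funext g
    rw [Finset.prod_apply]
    exact Finset.prod_eq_zero (Finset.mem_univ g) (by simp [hF1])
  simpa [hz] using key Finset.univ

/-- Brauer: the principal character is a ℤ-combination of characters induced from elementary
subgroups. -/
theorem one_mem_brauerGens : (1 : G → ℂ) ∈ AddSubgroup.closure (brauerGens G) := by
  classical
  by_contra hno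
  have := Fintype.ofFinite (IrrCharacter G)
  set V := AddSubgroup.closure (brauerGens G)
  -- work inside the lattice of coefficient vectors
  let L : AddSubgroup (IrrCharacter G → ℤ) :=
  { carrier := {n | ∑ χ, (n χ : ℂ) • (χ : G → ℂ) ∈ V}
    zero_mem' := by simp
    add_mem' := by
      intro a b ha hb
      simp only [Set.mem_ofPred_eq, Pi.add_apply, Int.cast_add, add_smul, Finset.sum_add_distrib]
      exact V.add_mem ha hb
    neg_mem' := by
      intro a ha
      simp only [Set.mem_ofPred_eq, Pi.neg_apply, Int.cast_neg, neg_smul, Finset.sum_neg_distrib]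
      exact V.neg_mem ha }
  let t : IrrCharacter G := ⟨1, isIrrCharacter_one⟩
  have ht : Pi.single t (1 : ℤ) ∉ L := by
    intro h
    apply hno
    have h' : ∑ χ : IrrCharacter G, ((Pi.single t (1 : ℤ) : IrrCharacter G → ℤ) χ : ℂ) •
        (χ : G → ℂ) ∈ V := h
    rw [Finset.sum_eq_single t (fun χ _ hχ => by simp [hχ])
      (fun hh => absurd (Finset.mem_univ _) hh)] at h'
    simpa [t] using h'
  have ht' : (QuotientAddGroup.mk (Pi.single t (1 : ℤ)) : (IrrCharacter G → ℤ) ⧸ L) ≠ 0 := by
    rw [Ne, QuotientAddGroup.eq_zero_iff]; exact ht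
  obtain ⟨c, hc⟩ := CharacterModule.exists_character_apply_ne_zero_of_ne_zero ht'
  let q : IrrCharacter G → ℚ := fun χ =>
    (c (QuotientAddGroup.mk (Pi.single χ (1 : ℤ)))).out
  have hq : ∀ χ, ((q χ : ℚ) : AddCircle (1 : ℚ)) = c (QuotientAddGroup.mk (Pi.single χ (1 : ℤ))) :=
    fun χ => QuotientAddGroup.out_eq' _
  let Ψ : (G → ℂ) → ℂ := fun f => ∑ χ : IrrCharacter G, classInner f (χ : G → ℂ) * (q χ : ℂ)
  have hΨV : ∀ f ∈ V, IsIntegral ℤ (Ψ f) := by
    intro f hf
    obtain ⟨n, hn, hin, -⟩ :=
      IsGeneralizedCharacter.exists_coeffs (brauerGens_isGeneralizedCharacter hf)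
    have hnL : n ∈ L := by
      show _ ∈ V
      rw [← hn]; exact hf
    have h0 : (((∑ χ, (n χ : ℚ) * q χ : ℚ)) : AddCircle (1 : ℚ)) = 0 := by
      have e : n = ∑ χ, n χ • (Pi.single χ (1 : ℤ) : IrrCharacter G → ℤ) := by
        funext χ
        simp [Finset.sum_apply, Pi.single_apply]
      have h2 : (QuotientAddGroup.mk' L) n = 0 := (QuotientAddGroup.eq_zero_iff n).2 hnL
      rw [e, map_sum] at h2
      have h3 := congrArg c h2
      rw [map_zero, map_sum] at h3
      rw [← h3]
      refine (map_sum (QuotientAddGroup.mk' (AddSubgroup.zmultiples (1 : ℚ))) _ _).trans ?_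
      refine Finset.sum_congr rfl fun χ _ => ?_
      rw [map_zsmul, map_zsmul, QuotientAddGroup.mk'_apply, QuotientAddGroup.mk'_apply, ← hq,
        ← zsmul_eq_mul]
      rfl
    obtain ⟨z, hz⟩ := (AddCircle.coe_eq_zero_iff (1 : ℚ)).1 h0
    have : Ψ f = (z : ℂ) := by
      have hz' : ((∑ χ, (n χ : ℚ) * q χ : ℚ) : ℂ) = ((z : ℚ) : ℂ) := by
        rw [← hz, zsmul_one]
      push_cast at hz'
      simpa [Ψ, hin] using hz'
    rw [this]
    exact isIntegral_algebraMap (R := ℤ) (A := ℂ) (x := z)
  have hΨW : ∀ f ∈ Submodule.span (integralClosure ℤ ℂ) (brauerGens G), IsIntegral ℤ (Ψ f) := by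
    intro f hf
    induction hf using Submodule.span_induction with
    | mem a ha => exact hΨV a (AddSubgroup.subset_closure ha)
    | zero => simpa [Ψ] using isIntegral_zero
    | add a b _ _ ha hb =>
      simpa [Ψ, classInner_add_left, add_mul, Finset.sum_add_distrib] using ha.add hb
    | smul r a _ ha =>
      have e : (r • a) = (r : ℂ) • a := rfl
      simpa [Ψ, e, classInner_smul_left, mul_assoc, ← Finset.mul_sum] using r.2.mul ha
  have hfin : IsIntegral ℤ (Ψ 1) := hΨW 1 one_mem_brauer_span
  have hΨ1 : Ψ 1 = (q t : ℂ) := by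
    simp only [Ψ]
    rw [Finset.sum_eq_single t]
    · rw [show (1 : G → ℂ) = (t : G → ℂ) from rfl, classInner_irr_self t.2, one_mul]
    · intro χ _ hχ
      rw [classInner_irr_of_ne isIrrCharacter_one χ.2 (fun e => hχ (Subtype.ext e.symm)), zero_mul]
    · exact fun h => absurd (Finset.mem_univ _) h
  rw [hΨ1] at hfin
  have hqi : IsIntegral ℤ (q t) := by
    rw [← isIntegral_algebraMap_iff (B := ℂ) (algebraMap ℚ ℂ).injective]
    simpa using hfin
  obtain ⟨z, hz⟩ := IsIntegrallyClosed.isIntegral_iff.1 hqi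
  refine hc ?_
  rw [← hq t, show q t = (z : ℚ) from hz.symm]
  exact (AddCircle.coe_eq_zero_iff (1 : ℚ)).2 ⟨z, by simp⟩

theorem brauer_mem_closure {θ : G → ℂ} (hθ : IsGeneralizedCharacter G θ) :
    θ ∈ AddSubgroup.closure (brauerGens G) := by
  simpa using brauerGens_mul_mem one_mem_brauerGens hθ

end core

/-- Brauer's characterization of characters. -/
theorem brauer_characterization [Finite G] {θ : G → ℂ} (hθ : IsClassFunction G θ)
    (hE : ∀ (E : Subgroup G) (p : ℕ), p.Prime → IsElementary p E →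
      IsGeneralizedCharacter E (fun e : E => θ e)) : IsGeneralizedCharacter G θ := by
  have := Fintype.ofFinite G
  suffices key : ∀ f ∈ AddSubgroup.closure (brauerGens G), IsGeneralizedCharacter G (f * θ) by
    simpa using key 1 one_mem_brauerGens
  intro f hf
  induction hf using AddSubgroup.closure_induction with
  | mem x hx =>
    obtain ⟨E, p, ψ, hp, hel, hψ, rfl⟩ := hx
    rw [indFun_mul E ψ hθ]
    exact IsGeneralizedCharacter.indFun (IsGeneralizedCharacter.mul hψ (hE E p hp hel))
  | zero => simpa using IsGeneralizedCharacter.zero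
  | add x y _ _ hx hy => rw [add_mul]; exact IsGeneralizedCharacter.add hx hy
  | neg x _ hx => rw [neg_mul]; exact IsGeneralizedCharacter.neg hx

end Cfsg.Agent.Char
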