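/-
Character theory core, part 13: class multiplication coefficients.

* `class_mult_formula`
-/
import Cfsg.Agent.Lib.Char.Orth

set_option autoImplicit false

namespace Cfsg.Agent.Char

open Cfsg Module
open scoped ComplexConjugate

variable {G : Type*} [Group G]

open Classical in
/-- The indicator function of the conjugacy class of `a`. -/
noncomputable def classIndicator (a : G) : G → ℂ := fun x => if IsConj a x then 1 else 0

theorem isClassFunction_classIndicator (a : G) :
    IsClassFunction G (classIndicator a) := fun x y => by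
  have hxy : IsConj x (y * x * y⁻¹) := isConj_iff.2 ⟨y, rfl⟩
  have h : IsConj a (y * x * y⁻¹) ↔ IsConj a x :=
    ⟨fun k => k.trans hxy.symm, fun k => k.trans hxy⟩
  show classIndicator a (y * x * y⁻¹) = classIndicator a x
  unfold classIndicator
  congr 1
  exact propext h

theorem sum_classIndicator [Fintype G] (a : G) :
    ∑ g, classIndicator a g = (Nat.card {x : G // IsConj a x} : ℂ) := by
  classical
  rw [Nat.card_eq_fintype_card, Fintype.card_subtype, ← Finset.sum_boole]
  refine Finset.sum_congr rfl fun g _ => ?_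
  unfold classIndicator
  by_cases h : IsConj a g
  · rw [if_pos h, if_pos h]
  · rw [if_neg h, if_neg h]

theorem classIndicator_mul [Fintype G] {f : G → ℂ} (hf : IsClassFunction G f) (a g : G) :
    classIndicator a g * f g = classIndicator a g * f a := by
  unfold classIndicator
  by_cases h : IsConj a g
  · obtain ⟨c, rfl⟩ := isConj_iff.1 h
    rw [hf]
  · rw [if_neg h, zero_mul, zero_mul]

/-- A class sum acts on an irreducible representation as `|K| χ(a) / χ(1)`. -/
theorem groupSumOp_classIndicator [Fintype G] {n : ℕ} (ρ : Representation ℂ G (Fin n → ℂ))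
    [ρ.IsIrreducible] (a : G) :
    groupSumOp ρ (classIndicator a) =
      ((Nat.card {x : G // IsConj a x} : ℂ) * ρ.character a / ρ.character 1) • LinearMap.id := by
  rw [groupSumOp_eq_smul ρ (isClassFunction_classIndicator a), Representation.char_one]
  congr 2
  refine (Finset.sum_congr rfl fun g _ =>
    classIndicator_mul (isClassFunction_character ρ) a g).trans ?_
  rw [← Finset.sum_mul, sum_classIndicator]

/-- The class multiplication coefficient formula. -/
theorem class_mult_formula [Finite G] [Fintype (IrrCharacter G)] (a b c : G) :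
    (Nat.card {p : G × G // IsConj a p.1 ∧ IsConj b p.2 ∧ p.1 * p.2 = c} : ℂ) =
      (Nat.card {x : G // IsConj a x} : ℂ) * (Nat.card {x : G // IsConj b x} : ℂ) /
        (Nat.card G : ℂ) * ∑ χ : IrrCharacter G,
          (χ : G → ℂ) a * (χ : G → ℂ) b * conj ((χ : G → ℂ) c) / (χ : G → ℂ) 1 := by
  classical
  have := Fintype.ofFinite G
  let δ : G → G → ℂ := classIndicator
  let N : G → ℂ := fun g => ∑ x, ∑ y, δ a x * δ b y * if x * y = g then 1 else 0
  have hN : ∀ g, N g = (Nat.card {p : G × G // IsConj a p.1 ∧ IsConj b p.2 ∧ p.1 * p.2 = g} : ℂ) := by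
    intro g
    rw [Nat.card_eq_fintype_card, Fintype.card_subtype, ← Finset.sum_boole, Fintype.sum_prod_type]
    refine Finset.sum_congr rfl fun x _ => Finset.sum_congr rfl fun y _ => ?_
    by_cases hx : IsConj a x <;> by_cases hy : IsConj b y <;>
      simp only [δ, classIndicator, hx, hy, if_true, if_false, zero_mul, mul_zero, one_mul, true_and, false_and]
  have hcl : IsClassFunction G N := by
    intro g h
    refine Fintype.sum_equiv (MulAut.conj h⁻¹).toEquiv _ _ fun x => ?_
    refine Fintype.sum_equiv (MulAut.conj h⁻¹).toEquiv _ _ fun y => ?_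
    have e : ∀ a x, δ a (h⁻¹ * x * h⁻¹⁻¹) = δ a x := fun a x =>
      isClassFunction_classIndicator a x h⁻¹
    have e2 : (h⁻¹ * x * h⁻¹⁻¹) * (h⁻¹ * y * h⁻¹⁻¹) = g ↔ x * y = h * g * h⁻¹ := by
      rw [← (MulAut.conj h).injective.eq_iff]
      simp [mul_assoc]
    simp only [MulEquiv.toEquiv_eq_coe, MulEquiv.coe_toEquiv, MulAut.conj_apply, e, e2]
  have hin : ∀ χ : IrrCharacter G, classInner N (χ : G → ℂ) =
      (Nat.card {x : G // IsConj a x} : ℂ) * (Nat.card {x : G // IsConj b x} : ℂ) /
        (Nat.card G : ℂ) * (conj ((χ : G → ℂ) a) * conj ((χ : G → ℂ) b) / (χ : G → ℂ) 1) := by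
    intro χ
    obtain ⟨n, ρ, hi, he⟩ := χ.2
    have h1 : ∑ g, N g * conj ((χ : G → ℂ) g) =
        conj (∑ x, ∑ y, δ a x * δ b y * (χ : G → ℂ) (x * y)) := by
      rw [map_sum]
      simp only [map_sum, map_mul, N, Finset.sum_mul]
      rw [Finset.sum_comm]
      refine Finset.sum_congr rfl fun x _ => ?_
      rw [Finset.sum_comm]
      refine Finset.sum_congr rfl fun y _ => ?_
      rw [Finset.sum_eq_single (x * y) (fun g _ hg => by simp [Ne.symm hg])
        (fun h => absurd (Finset.mem_univ _) h), if_pos rfl, mul_one]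
      congr 1
      simp only [δ, classIndicator]
      split_ifs <;> simp
    have h2 : ∑ x, ∑ y, δ a x * δ b y * ρ.character (x * y) =
        LinearMap.trace ℂ _ (groupSumOp ρ (δ a) * groupSumOp ρ (δ b)) := by
      simp [groupSumOp, Finset.sum_mul, Finset.mul_sum, map_sum,
        Representation.character]
      exact (Finset.sum_congr rfl fun x _ => Finset.sum_congr rfl fun y _ => by ring).trans
        Finset.sum_comm
    rw [classInner, h1, ← he, h2, groupSumOp_classIndicator ρ a, groupSumOp_classIndicator ρ b]
    have hd : ρ.character 1 ≠ 0 := by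
      rw [he]; exact IsIrrCharacter.apply_one_ne_zero χ.2
    have hdc : conj (ρ.character 1) = ρ.character 1 := by
      rw [Representation.char_one, map_natCast]
    have hid : LinearMap.trace ℂ _ (LinearMap.id : (Fin n → ℂ) →ₗ[ℂ] (Fin n → ℂ)) =
        ρ.character 1 := by
      rw [LinearMap.trace_id, Representation.char_one]
    rw [smul_mul_smul_comm, show (LinearMap.id : (Fin n → ℂ) →ₗ[ℂ] (Fin n → ℂ)) * LinearMap.id =
      LinearMap.id from rfl, map_smul, hid, smul_eq_mul]
    simp only [map_mul, map_div₀, map_natCast, hdc]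
    field_simp
  have hreal : conj (N c) = N c := by rw [hN, map_natCast]
  rw [← hN, ← hreal]
  conv_lhs => rw [classFunction_eq_sum hcl]
  simp only [Finset.sum_apply, Pi.smul_apply, smul_eq_mul, map_sum, map_mul, hin, map_div₀,
    map_natCast, Complex.conj_conj, Finset.mul_sum]
  refine Finset.sum_congr rfl fun χ _ => ?_
  rw [IsCharacter.conj_apply_one (IsIrrCharacter.isCharacter χ.2)]
  ring

end Cfsg.Agent.Char
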