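/-
Character theory core, part 11: nilpotent groups are monomial; Brauer's induction theorem in
monomial form; Artin's induction theorem.

* `indFun_map_subtype`, `monomial_of_isNilpotent`
* `IsElementary.subgroup`, `isNilpotent_of_isElementary`
* `brauer_induction`, `artin_induction`
-/
import Cfsg.Agent.Lib.Char.Brauer
import Cfsg.Agent.Lib.Char.Linear

set_option autoImplicit false

namespace Cfsg.Agent.Char

open Cfsg Module
open scoped ComplexConjugate

variable {G : Type*} [Group G]

/-- `indFun` only depends on the extension by zero and the cardinality. -/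
theorem indFun_congr [Fintype G] {H H' : Subgroup G} (h : H = H') {θ : H → ℂ} {θ' : H' → ℂ}
    (hθ : ∀ (g : G) (hg : g ∈ H), θ ⟨g, hg⟩ = θ' ⟨g, h ▸ hg⟩) :
    Cfsg.indFun H θ = Cfsg.indFun H' θ' := by
  subst h
  exact congrArg _ (funext fun x => hθ x x.2)

/-- Transitivity of induction along `Subgroup.map`. -/
theorem indFun_map_subtype [Fintype G] (H : Subgroup G) [Fintype H] (K : Subgroup H)
    (θ : K → ℂ) :
    Cfsg.indFun H (Cfsg.indFun K θ) = Cfsg.indFun (K.map H.subtype)
      (fun x => θ ((K.equivMapOfInjective H.subtype H.subtype_injective).symm x)) := by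
  set L := K.map H.subtype
  have hLH : L ≤ H := by
    rintro x ⟨y, -, rfl⟩
    exact y.2
  rw [← indFun_trans L H hLH (fun x => θ ((K.equivMapOfInjective H.subtype H.subtype_injective).symm x))]
  refine congrArg _ (indFun_congr ?_ ?_)
  · exact (Subgroup.comap_map_eq_self_of_injective H.subtype_injective K).symm
  · intro g hg
    congr 1
    rw [eq_comm, MulEquiv.symm_apply_eq]
    exact Subtype.ext rfl

section monomial

variable [Fintype G]

/-- A nilpotent group, on which `ρ` is not scalar, has a proper subgroup from which `ρ` is induced. -/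
theorem exists_induced_of_not_scalar [Group.IsNilpotent G] {n : ℕ}
    (ρ : Representation ℂ G (Fin n → ℂ)) [ρ.IsIrreducible]
    (hns : ∃ g : G, ∀ c : ℂ, ρ g ≠ c • LinearMap.id) :
    ∃ (H : Subgroup G) (θ : H → ℂ), H ≠ ⊤ ∧ IsIrrCharacter H θ ∧
      ρ.character = Cfsg.indFun H θ := by
  classical
  have hnt := nontrivial_of_isIrreducible ρ
  let Z : Set G := {g | ∃ c : ℂ, ρ g = c • LinearMap.id}
  -- an element which is not scalar but whose commutators are
  obtain ⟨a, ha, hcomm⟩ : ∃ a : G, a ∉ Z ∧ ∀ g : G, a * g * a⁻¹ * g⁻¹ ∈ Z := by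
    by_contra hno
    push Not at hno
    have hall : ∀ k, ∀ g ∈ Subgroup.upperCentralSeries G k, g ∈ Z := by
      intro k
      induction k with
      | zero =>
        intro g hg
        rw [Subgroup.upperCentralSeries_zero, Subgroup.mem_bot] at hg
        exact ⟨1, by rw [hg, map_one, one_smul]; rfl⟩
      | succ k ih =>
        intro g hg
        by_contra hgZ
        obtain ⟨x, hx⟩ := hno g hgZ
        exact hx (ih _ (Subgroup.mem_upperCentralSeries_succ_iff.1 hg x))
    obtain ⟨g, hg⟩ := hns
    obtain ⟨k, hk⟩ := Group.IsNilpotent.nilpotent' (G := G)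
    obtain ⟨c, hc⟩ := hall k g (by rw [hk]; trivial)
    exact hg c hc
  choose c hc using hcomm
  have hcn : ∀ g, ρ a * ρ g = c g • (ρ g * ρ a) := by
    intro g
    have e : ρ (a * g) = ρ (a * g * a⁻¹ * g⁻¹) * ρ (g * a) := by
      rw [← map_mul]; congr 1; simp [mul_assoc]
    rw [map_mul, hc g, map_mul] at e
    rw [e]
    ext v
    simp
  have hc0 : ∀ g, c g ≠ 0 := by
    intro g h0
    have h1 := hc g
    rw [h0, zero_smul] at h1
    obtain ⟨v, hv⟩ := exists_ne (0 : Fin n → ℂ)
    apply hv
    have := congrArg (fun f => ρ (a * g * a⁻¹ * g⁻¹)⁻¹ (f v)) h1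
    simpa using this
  have hinjv : ∀ g, ∀ v : Fin n → ℂ, v ≠ 0 → ρ g v ≠ 0 := fun g v hv h0 => hv (by
    have := congrArg (ρ g⁻¹) h0
    simpa using this)
  have hshift : ∀ (g : G) (μ : ℂ) (v : Fin n → ℂ), ρ a v = μ • v →
      ρ a (ρ g v) = (c g * μ) • ρ g v := by
    intro g μ v hv
    have := LinearMap.congr_fun (hcn g) v
    simp only [Module.End.mul_apply, LinearMap.smul_apply] at this
    rw [this, hv, map_smul, smul_smul]
  obtain ⟨b, μs, hb, hroot⟩ := exists_eigenbasis ρ a
  have hn : 0 < finrank ℂ (Fin n → ℂ) := finrank_pos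
  let i0 : Fin (finrank ℂ (Fin n → ℂ)) := ⟨0, hn⟩
  set μ := μs i0
  have hμ0 : μ ≠ 0 := fun h0 => by
    have h := hroot i0
    rw [show μs i0 = 0 from h0, zero_pow (orderOf_pos a).ne'] at h
    exact zero_ne_one h
  let H : Subgroup G :=
  { carrier := {g | c g = 1}
    one_mem' := by
      show c 1 = 1
      have := hcn 1
      rw [map_one, mul_one, one_mul] at this
      have := LinearMap.congr_fun this (b i0)
      rw [LinearMap.smul_apply] at this
      by_contra hne
      refine hinjv a _ (b.ne_zero i0) ?_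
      have : (c 1 - 1) • ρ a (b i0) = 0 := by rw [sub_smul, one_smul, ← this, sub_self]
      exact (smul_eq_zero.1 this).resolve_left (sub_ne_zero.2 hne)
    mul_mem' := by
      intro g h (hg : c g = 1) (hh : c h = 1)
      show c (g * h) = 1
      have h1 := hshift (g * h) μ (b i0) (hb i0)
      have h2 := hshift g _ _ (hshift h μ (b i0) (hb i0))
      rw [map_mul, Module.End.mul_apply, h2, hg, hh, one_mul, one_mul] at h1
      have h3 := smul_left_injective ℂ (hinjv g _ (hinjv h _ (b.ne_zero i0))) h1
      exact mul_right_cancel₀ hμ0 (by rw [one_mul]; exact h3.symm)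
    inv_mem' := by
      intro g (hg : c g = 1)
      show c g⁻¹ = 1
      have h2 := hshift g _ _ (hshift g⁻¹ μ (b i0) (hb i0))
      rw [hg, one_mul] at h2
      simp only [Representation.self_inv_apply] at h2
      rw [hb i0] at h2
      have h3 := smul_left_injective ℂ (b.ne_zero i0) h2
      exact mul_right_cancel₀ hμ0 (by rw [one_mul]; exact h3.symm) }
  have hHne : H ≠ ⊤ := by
    intro htop
    have hall : ∀ g, c g = 1 := fun g => (htop ▸ Subgroup.mem_top g : g ∈ H)
    obtain ⟨z, hz⟩ := (Representation.IsIrreducible.algebraMap_intertwiningMap_bijective_of_isAlgClosed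
      (ρ := ρ)).2 ⟨ρ a, fun g => by
        have := hcn g
        rw [hall g, one_smul] at this
        exact this⟩
    refine ha ⟨z, ?_⟩
    have := congrArg Representation.IntertwiningMap.toLinearMap hz
    simp only [Algebra.algebraMap_eq_smul_one] at this
    exact this.symm
  have hvan : ∀ g : G, g ∉ H → ρ.character g = 0 := by
    intro g hg
    have h1 : ρ.character (a * g * a⁻¹) = ρ.character g := ρ.char_conj g a
    have h2 : ρ.character (a * g * a⁻¹) = c g * ρ.character g := by
      have e : ρ (a * g * a⁻¹) = c g • ρ g := by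
        rw [map_mul, map_mul, hcn g, smul_mul_assoc, mul_assoc, ← map_mul,
          mul_inv_cancel, map_one, mul_one]
      rw [Representation.character, e, map_smul, smul_eq_mul]
      rfl
    have : (c g - 1) * ρ.character g = 0 := by rw [sub_mul, one_mul, ← h2, h1, sub_self]
    exact (mul_eq_zero.1 this).resolve_left (sub_ne_zero.2 hg)
  -- the eigenspace as a representation of H
  let Vμ : Subrepresentation (ρ.comp H.subtype) :=
  { toSubmodule := Module.End.eigenspace (ρ a) μ
    apply_mem_toSubmodule := by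
      intro h v hv
      rw [Module.End.mem_eigenspace_iff] at hv ⊢
      have := hshift h μ v hv
      rwa [show c h = 1 from h.2, one_mul] at this }
  have : Nontrivial Vμ.toSubmodule := Submodule.nontrivial_iff_ne_bot.2 (fun hbot => b.ne_zero i0
    ((Submodule.eq_bot_iff _).1 hbot _ (Module.End.mem_eigenspace_iff.2 (hb i0))))
  let σ₀ : Representation ℂ H (Fin (finrank ℂ Vμ.toSubmodule) → ℂ) :=
    transport Vμ.toRepresentation (Module.finBasis ℂ Vμ.toSubmodule).equivFun
  have : Nonempty (Fin (finrank ℂ Vμ.toSubmodule)) := ⟨⟨0, finrank_pos⟩⟩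
  obtain ⟨p, hp⟩ := exists_irreducible_subrepresentation σ₀
  obtain ⟨p', hp'⟩ := exists_isCompl _ σ₀ p
  obtain ⟨V', hV'⟩ := exists_isCompl _ (ρ.comp H.subtype) Vμ
  set θ : H → ℂ := p.toRepresentation.character
  have hθ : IsIrrCharacter H θ := isIrrCharacter_character _
  refine ⟨H, θ, hHne, hθ, ?_⟩
  have hρ : IsIrrCharacter G ρ.character := isIrrCharacter_character ρ
  have hres : ∃ m : ℕ, 0 < m ∧ classInner (fun h : H => ρ.character h) θ = m := by
    have e : (fun h : H => ρ.character h) =
        θ + (p'.toRepresentation.character + V'.toRepresentation.character) := by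
      rw [← add_assoc, ← character_eq_add_of_isCompl σ₀ hp', character_transport,
        ← character_eq_add_of_isCompl _ hV']
      rfl
    obtain ⟨m, hm⟩ := IsCharacter.classInner_nat
      (IsCharacter.add (isCharacter_character p'.toRepresentation)
        (isCharacter_character V'.toRepresentation)) (isCharacter_character p.toRepresentation)
    refine ⟨1 + m, by omega, ?_⟩
    rw [e, classInner_add_left, classInner_irr_self hθ, hm]
    push_cast; rfl
  obtain ⟨m, hm0, hm⟩ := hres
  have := Fintype.ofFinite (IrrCharacter G)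
  obtain ⟨k, hk, hk'⟩ := IsCharacter.decompose (IsCharacter.indFun H (IsIrrCharacter.isCharacter hθ))
  have hkρ : k ⟨_, hρ⟩ = m := by
    have h1 := hk' ⟨_, hρ⟩
    rw [frobenius_reciprocity H θ (IsIrrCharacter.isClassFunction hρ), ← classInner_conj_symm, hm,
      map_natCast] at h1
    exact_mod_cast h1.symm
  -- the degree bound
  have hdim : H.index * finrank ℂ Vμ.toSubmodule ≤ finrank ℂ (Fin n → ℂ) := by
    let σ : G ⧸ H → G := Quotient.out
    have hσ : Function.Injective fun r : G ⧸ H => c (σ r) * μ := by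
      intro r r' he
      have he' : c (σ r) = c (σ r') := mul_right_cancel₀ hμ0 he
      rw [← QuotientGroup.out_eq' r, ← QuotientGroup.out_eq' r', QuotientGroup.eq]
      show c ((σ r)⁻¹ * σ r') = 1
      have h2 := hshift (σ r) _ _ (hshift ((σ r)⁻¹ * σ r') μ (b i0) (hb i0))
      rw [← Module.End.mul_apply (ρ (σ r)), ← map_mul, mul_inv_cancel_left,
        hshift (σ r') μ (b i0) (hb i0)] at h2
      have h3 := smul_left_injective ℂ (hinjv (σ r') _ (b.ne_zero i0)) h2
      rw [← mul_assoc] at h3
      have h4 := mul_right_cancel₀ hμ0 h3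
      rw [he'] at h4
      exact mul_left_cancel₀ (hc0 (σ r')) (by rw [mul_one]; exact h4.symm)
    let F : (G ⧸ H → Vμ.toSubmodule) →ₗ[ℂ] (Fin n → ℂ) :=
      ∑ r : G ⧸ H, (ρ (σ r)) ∘ₗ Vμ.toSubmodule.subtype ∘ₗ LinearMap.proj r
    have hF : Function.Injective F := by
      rw [injective_iff_map_eq_zero]
      intro f hf
      funext r
      apply Subtype.ext
      by_contra hne
      have hind : iSupIndep (Module.End.eigenspace (ρ a)) :=
        Module.End.eigenspaces_iSupIndep (ρ a)
      have hsum : ∑ r : G ⧸ H, ρ (σ r) (f r : Fin n → ℂ) = 0 := by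
        simpa [F, LinearMap.sum_apply] using hf
      have := (iSupIndep_iff_finsetSum_eq_zero_imp_eq_zero _).1
        (hind.comp hσ) Finset.univ (fun r => ρ (σ r) (f r : Fin n → ℂ))
        (fun r _ => Module.End.mem_eigenspace_iff.2
          (hshift _ μ _ (Module.End.mem_eigenspace_iff.1 (f r).2))) hsum r (Finset.mem_univ r)
      exact hinjv _ _ hne this
    have := LinearMap.finrank_le_finrank_of_injective hF
    rwa [Module.finrank_pi_fintype, Finset.sum_const, Finset.card_univ, smul_eq_mul,
      ← Nat.card_eq_fintype_card, ← Subgroup.index_eq_card] at this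
  have hθ1 : finrank ℂ p.toSubmodule ≤ finrank ℂ Vμ.toSubmodule :=
    (Submodule.finrank_le _).trans_eq (Module.finrank_fin_fun ℂ)
  -- evaluate the decomposition at 1
  have h1 := congrFun hk 1
  rw [indFun_one_apply, Finset.sum_apply] at h1
  choose d hd hd' using fun χ : IrrCharacter G => IsIrrCharacter.exists_degree χ.2
  have hd1 : H.index * finrank ℂ p.toSubmodule = ∑ χ, k χ * d χ := by
    simp only [θ, Representation.char_one, Pi.smul_apply, smul_eq_mul, hd'] at h1
    exact_mod_cast h1
  have hdρ : d ⟨_, hρ⟩ = finrank ℂ (Fin n → ℂ) := by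
    have := hd' ⟨_, hρ⟩
    rw [show ((⟨_, hρ⟩ : IrrCharacter G) : G → ℂ) 1 = ρ.character 1 from rfl,
      Representation.char_one] at this
    exact_mod_cast this.symm
  rw [← Finset.sum_erase_add _ _ (Finset.mem_univ (⟨_, hρ⟩ : IrrCharacter G)), hkρ, hdρ] at hd1
  have hle : H.index * finrank ℂ p.toSubmodule ≤ finrank ℂ (Fin n → ℂ) :=
    (Nat.mul_le_mul_left _ hθ1).trans hdim
  have hm' : finrank ℂ (Fin n → ℂ) ≤ m * finrank ℂ (Fin n → ℂ) := Nat.le_mul_of_pos_left _ hm0
  have hrest : ∑ χ ∈ Finset.univ.erase (⟨_, hρ⟩ : IrrCharacter G), k χ * d χ = 0 := by omega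
  have hm1 : m = 1 := by
    have : m * finrank ℂ (Fin n → ℂ) = 1 * finrank ℂ (Fin n → ℂ) := by omega
    exact Nat.eq_of_mul_eq_mul_right hn this
  rw [hk, Finset.sum_eq_single (⟨_, hρ⟩ : IrrCharacter G)]
  · simp [hkρ, hm1]
  · intro χ _ hχ
    have := (Finset.sum_eq_zero_iff.1 hrest) χ (Finset.mem_erase.2 ⟨hχ, Finset.mem_univ _⟩)
    simp [(Nat.mul_eq_zero.1 this).resolve_right (hd χ).ne']
  · exact fun h => absurd (Finset.mem_univ _) h

end monomial

/-- Nilpotent groups are monomial. -/
theorem monomial_of_isNilpotent [Fintype G] [Group.IsNilpotent G] {χ : G → ℂ}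
    (hχ : IsIrrCharacter G χ) :
    ∃ (H : Subgroup G) (lam : H →* ℂˣ), χ = Cfsg.indFun H (fun h => (lam h : ℂ)) := by
  suffices key : ∀ (N : ℕ) (L : Subgroup G), Nat.card L = N → ∀ [Fintype L], ∀ φ : L → ℂ,
      IsIrrCharacter L φ →
      ∃ (H : Subgroup G) (lam : H →* ℂˣ),
        Cfsg.indFun L φ = Cfsg.indFun H (fun h => (lam h : ℂ)) by
    classical
    obtain ⟨H, lam, h⟩ := key _ ⊤ rfl (fun x => χ x)
      (IsIrrCharacter.comp_surjective hχ (⊤ : Subgroup G).subtype fun g => ⟨⟨g, trivial⟩, rfl⟩)
    refine ⟨H, lam, h ▸ ?_⟩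
    funext g
    have hs : ∀ x : G, extendByZero (⊤ : Subgroup G) (fun y => χ y) (x⁻¹ * g * x) = χ g := fun x => by
      rw [extendByZero_mem _ _ (Subgroup.mem_top _)]
      simpa using IsIrrCharacter.isClassFunction hχ g x⁻¹
    rw [Cfsg.indFun, Finset.sum_congr rfl fun x _ => hs x, Finset.sum_const, Finset.card_univ,
      nsmul_eq_mul, ← Nat.card_eq_fintype_card, Subgroup.card_top, ← mul_assoc,
      inv_mul_cancel₀ (Nat.cast_ne_zero.2 Nat.card_pos.ne'), one_mul]
  intro N
  induction N using Nat.strong_induction_on with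
  | _ N ih =>
    intro L hN _ φ hφ
    classical
    obtain ⟨n, ρ, hi, rfl⟩ := hφ
    by_cases hns : ∃ g : L, ∀ c : ℂ, ρ g ≠ c • LinearMap.id
    · obtain ⟨K, θ, hK, hθ, e⟩ := exists_induced_of_not_scalar ρ hns
      have := Fintype.ofFinite (K.map L.subtype)
      rw [e, indFun_map_subtype]
      refine ih _ ?_ _ rfl _
        (IsIrrCharacter.comp_equiv hθ (K.equivMapOfInjective L.subtype L.subtype_injective).symm)
      rw [Subgroup.card_map_of_injective L.subtype_injective, ← hN]
      exact lt_of_le_of_ne (Subgroup.card_le_card_group _) fun h => hK (Subgroup.eq_top_of_card_eq _ h)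
    · push Not at hns
      have hsub : ∀ p : Submodule ℂ (Fin n → ℂ), ∀ g, ∀ v ∈ p, ρ g v ∈ p := by
        intro p g v hv
        obtain ⟨c, hc⟩ := hns g
        rw [hc]
        exact p.smul_mem c hv
      have := nontrivial_of_isIrreducible ρ
      obtain ⟨v, hv⟩ := exists_ne (0 : Fin n → ℂ)
      have h1 : ρ.character 1 = 1 := by
        let P : Subrepresentation ρ := ⟨Submodule.span ℂ {v}, fun g _ hw => hsub _ g _ hw⟩
        rcases hi.eq_bot_or_eq_top P with h | h
        · exact absurd ((Submodule.span_singleton_eq_bot).1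
            (congrArg Subrepresentation.toSubmodule h)) hv
        · rw [Representation.char_one, ← finrank_top ℂ (Fin n → ℂ)]
          have h' : Submodule.span ℂ {v} = ⊤ := congrArg Subrepresentation.toSubmodule h
          rw [← h', finrank_span_singleton hv, Nat.cast_one]
      obtain ⟨l, hl⟩ := exists_hom_of_degree_one (isCharacter_character ρ) h1
      exact ⟨L, l.toHomUnits, by rw [← hl]; rfl⟩

/-- Subgroups of elementary groups are elementary. -/
theorem IsElementary.subgroup [Finite G] {p : ℕ} (hp : p.Prime) (hG : IsElementary p G)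
    (L : Subgroup G) : IsElementary p L := by
  obtain ⟨x, hx, hco, k, hk⟩ := hG
  have hnorm : (Subgroup.zpowers x).Normal := by
    refine ⟨fun y hy g => ?_⟩
    have hyc : y ∈ Subgroup.center G := (Subgroup.zpowers_le.2 hx) hy
    rwa [Subgroup.mem_center_iff.1 hyc g, mul_inv_cancel_right]
  have : IsCyclic (Subgroup.zpowers x ⊓ L : Subgroup G) :=
    isCyclic_of_injective (Subgroup.inclusion inf_le_left) (Subgroup.inclusion_injective _)
  obtain ⟨z, hz⟩ := IsCyclic.exists_generator (α := (Subgroup.zpowers x ⊓ L : Subgroup G))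
  have hzx : (z : G) ∈ Subgroup.zpowers x := z.2.1
  refine ⟨⟨z, z.2.2⟩, Subgroup.mem_center_iff.2 fun g => Subtype.ext ?_, ?_, ?_⟩
  · exact Subgroup.mem_center_iff.1 ((Subgroup.zpowers_le.2 hx) hzx) g
  · rw [← Subgroup.orderOf_coe]
    refine Nat.Coprime.coprime_dvd_left ?_ hco
    obtain ⟨i, hi⟩ := Subgroup.mem_zpowers_iff.1 hzx
    show orderOf (z : G) ∣ orderOf x
    rw [← hi]
    exact orderOf_dvd_of_mem_zpowers (Subgroup.zpow_mem_zpowers x i)
  · have e : Subgroup.zpowers (⟨z, z.2.2⟩ : L) = (Subgroup.zpowers x).subgroupOf L := by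
      refine le_antisymm ((Subgroup.zpowers_le).2 (Subgroup.mem_subgroupOf.2 hzx)) fun w hw => ?_
      obtain ⟨i, hi⟩ := Subgroup.mem_zpowers_iff.1 (hz ⟨w, ⟨Subgroup.mem_subgroupOf.1 hw, w.2⟩⟩)
      exact Subgroup.mem_zpowers_iff.2 ⟨i, Subtype.ext (by simpa using congrArg Subtype.val hi)⟩
    rw [e]
    obtain ⟨j, -, hj⟩ := (Nat.dvd_prime_pow hp).1
      (hk ▸ Subgroup.relIndex_dvd_index_of_normal (Subgroup.zpowers x) L)
    exact ⟨j, hj⟩

/-- Elementary groups are nilpotent. -/
theorem isNilpotent_of_isElementary [Finite G] {p : ℕ} (hp : p.Prime) (hG : IsElementary p G) :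
    Group.IsNilpotent G := by
  obtain ⟨x, hx, -, k, hk⟩ := hG
  have : Fact p.Prime := ⟨hp⟩
  have hle : Subgroup.zpowers x ≤ Subgroup.center G := Subgroup.zpowers_le.2 hx
  have : (Subgroup.zpowers x).Normal := ⟨fun y hy g => by
    rwa [Subgroup.mem_center_iff.1 (hle hy) g, mul_inv_cancel_right]⟩
  have hP : IsPGroup p (G ⧸ Subgroup.zpowers x) :=
    IsPGroup.of_card (n := k) (by rw [← Subgroup.index_eq_card]; exact hk)
  have := hP.isNilpotent
  exact Subgroup.isNilpotent_of_ker_le_center (QuotientGroup.mk' (Subgroup.zpowers x))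
    (by rw [QuotientGroup.ker_mk']; exact hle)

section induction

variable [Fintype G]

/-- A list form for integral combinations of monomial characters. -/
theorem exists_list_of_mem_closure (P : Subgroup G → Prop) {f : G → ℂ}
    (hf : f ∈ AddSubgroup.closure {f : G → ℂ | ∃ (H : Subgroup G) (l : H →* ℂˣ),
      P H ∧ f = Cfsg.indFun H (fun e => (l e : ℂ))}) :
    ∃ L : List ((E : Subgroup G) × ((E →* ℂˣ) × ℤ)), (∀ t ∈ L, P t.1) ∧
      f = (L.map fun t => (t.2.2 : ℂ) • Cfsg.indFun t.1 (fun e => (t.2.1 e : ℂ))).sum := by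
  induction hf using AddSubgroup.closure_induction with
  | mem x hx =>
    obtain ⟨H, l, hH, rfl⟩ := hx
    exact ⟨[⟨H, l, 1⟩], by simpa using hH, by simp⟩
  | zero => exact ⟨[], by simp, by simp⟩
  | add x y _ _ hx hy =>
    obtain ⟨L, hL, rfl⟩ := hx
    obtain ⟨L', hL', rfl⟩ := hy
    exact ⟨L ++ L', fun t ht => (List.mem_append.1 ht).elim (hL t) (hL' t), by simp⟩
  | neg x hxm hx =>
    clear hxm
    obtain ⟨L, hL, rfl⟩ := hx
    refine ⟨L.map fun t => ⟨t.1, t.2.1, -t.2.2⟩, ?_, ?_⟩
    · intro t ht
      obtain ⟨s, hs, rfl⟩ := List.mem_map.1 ht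
      exact hL s hs
    · clear hL
      induction L with
      | nil => simp
      | cons t L ih => simp only [List.map_cons, List.sum_cons, neg_add, ih, Int.cast_neg, neg_smul]

/-- Inducing a generalized character from a subgroup all whose irreducibles are monomial. -/
theorem indFun_mem_closure_of_monomial (E : Subgroup G) [Fintype E] (P : Subgroup G → Prop)
    (hmon : ∀ φ : E → ℂ, IsIrrCharacter E φ → ∃ (K : Subgroup E) (lam : K →* ℂˣ),
      P (K.map E.subtype) ∧ φ = Cfsg.indFun K (fun k => (lam k : ℂ)))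
    {ψ : E → ℂ} (hψ : IsGeneralizedCharacter E ψ) :
    Cfsg.indFun E ψ ∈ AddSubgroup.closure {f : G → ℂ | ∃ (H : Subgroup G) (l : H →* ℂˣ),
      P H ∧ f = Cfsg.indFun H (fun e => (l e : ℂ))} := by
  have := Fintype.ofFinite (IrrCharacter E)
  obtain ⟨k, hk, -, -⟩ := IsGeneralizedCharacter.exists_coeffs hψ
  rw [hk, indFun_sum]
  refine AddSubgroup.sum_mem _ fun φ _ => ?_
  rw [indFun_smul, Int.cast_smul_eq_zsmul]
  refine AddSubgroup.zsmul_mem _ (AddSubgroup.subset_closure ?_) _
  obtain ⟨K, lam, hK, e⟩ := hmon φ φ.2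
  exact ⟨K.map E.subtype,
    lam.comp (K.equivMapOfInjective E.subtype E.subtype_injective).symm.toMonoidHom, hK, by
      rw [e, indFun_map_subtype]; rfl⟩

/-- Brauer's induction theorem. -/
theorem brauer_induction {χ : G → ℂ} (hχ : IsGeneralizedCharacter G χ) :
    ∃ L : List ((E : Subgroup G) × ((E →* ℂˣ) × ℤ)),
      (∀ t ∈ L, ∃ p : ℕ, p.Prime ∧ IsElementary p t.1) ∧
      χ = (L.map fun t => (t.2.2 : ℂ) • Cfsg.indFun t.1 (fun e => (t.2.1 e : ℂ))).sum := by
  classical
  refine exists_list_of_mem_closure (fun H => ∃ p : ℕ, p.Prime ∧ IsElementary p H) ?_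
  refine (AddSubgroup.closure_le _).2 ?_ (brauer_mem_closure hχ)
  rintro f ⟨E, p, ψ, hp, hE, hψ, rfl⟩
  have := Fintype.ofFinite E
  have := isNilpotent_of_isElementary hp hE
  refine indFun_mem_closure_of_monomial E _ (fun φ hφ => ?_) hψ
  obtain ⟨K, lam, e⟩ := monomial_of_isNilpotent hφ
  refine ⟨K, lam, ⟨p, hp, ?_⟩, e⟩
  obtain ⟨x, hx, hco, k, hk⟩ := IsElementary.subgroup hp hE K
  let e := K.equivMapOfInjective E.subtype E.subtype_injective
  refine ⟨e x, Subgroup.mem_center_iff.2 fun g => ?_, ?_, k, ?_⟩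
  · rw [← e.apply_symm_apply g, ← map_mul, ← map_mul, Subgroup.mem_center_iff.1 hx]
  · rwa [MulEquiv.orderOf_eq]
  · rw [← hk]
    have : (Subgroup.zpowers x).map e.toMonoidHom = Subgroup.zpowers (e x) := MonoidHom.map_zpowers _ _
    rw [← this]
    exact Subgroup.index_map_of_bijective e.bijective _

/-- Artin's function: the order of a cyclic subgroup on its generators, `0` elsewhere. -/
noncomputable def artinFun (A : Subgroup G) : A → ℂ :=
  open Classical in fun a => if Subgroup.zpowers (a : G) = A then (Nat.card A : ℂ) else 0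

theorem indFun_artinFun (A : Subgroup G) [Fintype A] (g : G) :
    Cfsg.indFun A (artinFun A) g =
      (Nat.card {x : G // Subgroup.zpowers (x⁻¹ * g * x) = A} : ℂ) := by
  classical
  have hval : ∀ x : G, extendByZero A (artinFun A) (x⁻¹ * g * x) =
      if Subgroup.zpowers (x⁻¹ * g * x) = A then (Nat.card A : ℂ) else 0 := by
    intro x
    rw [extendByZero_eq]
    by_cases h : x⁻¹ * g * x ∈ A
    · rw [dif_pos h]; rfl
    · rw [dif_neg h, if_neg]
      intro e
      exact h (e ▸ Subgroup.mem_zpowers _)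
  rw [Cfsg.indFun, Finset.sum_congr rfl fun x _ => hval x, Finset.sum_ite, Finset.sum_const_zero,
    add_zero, Finset.sum_const, nsmul_eq_mul]
  have : (Nat.card A : ℂ) ≠ 0 := Nat.cast_ne_zero.2 Nat.card_pos.ne'
  rw [mul_comm, mul_assoc, mul_inv_cancel₀ this, mul_one, Nat.card_eq_fintype_card,
    Fintype.card_subtype]

theorem sum_indFun_artinFun (s : Finset (Subgroup G))
    (hs : ∀ A : Subgroup G, A ∈ s ↔ IsCyclic A) (g : G) :
    ∑ A ∈ s, Cfsg.indFun A (artinFun A) g = (Nat.card G : ℂ) := by
  classical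
  rw [Finset.sum_congr rfl fun A _ => by
    have := Fintype.ofFinite A
    exact indFun_artinFun A g]
  simp only [Nat.card_eq_fintype_card, Fintype.card_subtype]
  rw [← Nat.cast_sum, ← Finset.card_univ]
  refine congrArg Nat.cast (Finset.card_eq_sum_card_fiberwise
    (f := fun x : G => Subgroup.zpowers (x⁻¹ * g * x)) ?_).symm
  exact fun x _ => (hs _).2 inferInstance

end induction

/-- Artin functions are generalized characters. -/
theorem isGeneralizedCharacter_artinFun [Fintype G] (A : Subgroup G) [IsCyclic A] :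
    IsGeneralizedCharacter A (artinFun A) := by
  suffices key : ∀ (N : ℕ) (A : Subgroup G), IsCyclic A → Nat.card A = N →
      IsGeneralizedCharacter A (artinFun A) from key _ A inferInstance rfl
  intro N
  induction N using Nat.strong_induction_on with
  | _ N ih =>
    intro A hA hN
    classical
    have := Fintype.ofFinite A
    let s : Finset (Subgroup A) := Finset.univ
    have hs : ∀ B : Subgroup A, B ∈ s ↔ IsCyclic B :=
      fun B => ⟨fun _ => inferInstance, fun _ => Finset.mem_univ B⟩
    have htot : ∀ a : A, ∑ B ∈ s, Cfsg.indFun B (artinFun B) a = (Nat.card A : ℂ) :=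
      fun a => sum_indFun_artinFun s hs a
    have htop : Cfsg.indFun (⊤ : Subgroup A) (artinFun ⊤) = artinFun A := by
      funext a
      have := Fintype.ofFinite (⊤ : Subgroup A)
      rw [indFun_artinFun, artinFun]
      have hconj : ∀ x : A, x⁻¹ * a * x = a := fun x => by
        let _ := hA.commGroup
        rw [mul_comm, ← mul_assoc, mul_inv_cancel, one_mul]
      have hiff : Subgroup.zpowers a = ⊤ ↔ Subgroup.zpowers (a : G) = A := by
        have e : (Subgroup.zpowers a).map A.subtype = Subgroup.zpowers (a : G) :=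
          MonoidHom.map_zpowers _ _
        have e2 : (⊤ : Subgroup A).map A.subtype = A := by
          rw [← MonoidHom.range_eq_map, Subgroup.range_subtype]
        refine ⟨fun h => by rw [← e, h, e2], fun h =>
          Subgroup.map_injective A.subtype_injective (by rw [e, h, e2])⟩
      simp only [hconj]
      by_cases h : Subgroup.zpowers (a : G) = A
      · rw [if_pos h]; simp [hiff.2 h]
      · rw [if_neg h]; simp [mt hiff.1 h]
    have key : artinFun A = (Nat.card A : ℂ) • (1 : A → ℂ) -
        ∑ B ∈ s.erase ⊤, Cfsg.indFun B (artinFun B) := by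
      rw [eq_sub_iff_add_eq, ← htop]
      refine (Finset.add_sum_erase s (fun B => Cfsg.indFun B (artinFun B))
        (Finset.mem_univ (⊤ : Subgroup A))).trans ?_
      funext a
      simp [Finset.sum_apply, htot a]
    rw [key]
    refine IsGeneralizedCharacter.sub (isGeneralizedCharacter_of_isCharacter
      (IsCharacter.natCast_smul isCharacter_one _)) (IsGeneralizedCharacter.sum _ fun B hB => ?_)
    refine IsGeneralizedCharacter.indFun ?_
    -- transport from the image of `B` in `G`
    have hcard : Nat.card (B.map A.subtype) < N := by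
      rw [Subgroup.card_map_of_injective A.subtype_injective, ← hN]
      exact lt_of_le_of_ne (Subgroup.card_le_card_group _) fun h =>
        (Finset.mem_erase.1 hB).1 (Subgroup.eq_top_of_card_eq _ h)
    let e := B.equivMapOfInjective A.subtype A.subtype_injective
    have := ih _ hcard (B.map A.subtype) (isCyclic_of_surjective e e.surjective) rfl
    convert IsGeneralizedCharacter.comp_hom this e.toMonoidHom using 1
    funext b
    simp only [artinFun, MulEquiv.coe_toMonoidHom, Nat.card_congr e.toEquiv]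
    have hiff : Subgroup.zpowers (b : A) = B ↔
        Subgroup.zpowers ((e b : B.map A.subtype) : G) = B.map A.subtype := by
      rw [show ((e b : B.map A.subtype) : G) = A.subtype (b : A) from rfl, ← MonoidHom.map_zpowers]
      exact (Subgroup.map_injective A.subtype_injective).eq_iff.symm
    by_cases h : Subgroup.zpowers (b : A) = B
    · rw [if_pos h]; exact (if_pos (hiff.1 h)).symm
    · rw [if_neg h]; exact (if_neg (mt hiff.2 h)).symm

/-- Artin's induction theorem. -/
theorem artin_induction [Fintype G] {χ : G → ℂ} (hχ : IsGeneralizedCharacter G χ) :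
    ∃ L : List ((A : Subgroup G) × ((A →* ℂˣ) × ℤ)), (∀ t ∈ L, IsCyclic t.1) ∧
      (Nat.card G : ℂ) • χ =
        (L.map fun t => (t.2.2 : ℂ) • Cfsg.indFun t.1 (fun a => (t.2.1 a : ℂ))).sum := by
  classical
  refine exists_list_of_mem_closure (fun H => IsCyclic H) ?_
  let s : Finset (Subgroup G) := Finset.univ.filter fun A => IsCyclic A
  have e : (Nat.card G : ℂ) • χ = ∑ A ∈ s, Cfsg.indFun A (artinFun A) * χ := by
    rw [← Finset.sum_mul]
    funext g
    simp [Finset.sum_apply, sum_indFun_artinFun s (fun A => by simp [s]) g]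
  rw [e]
  refine AddSubgroup.sum_mem _ fun A hA => ?_
  have : IsCyclic A := (Finset.mem_filter.1 hA).2
  have := Fintype.ofFinite A
  rw [indFun_mul A _ (IsGeneralizedCharacter.isClassFunction hχ)]
  refine indFun_mem_closure_of_monomial A _ (fun φ hφ => ?_)
    (IsGeneralizedCharacter.mul (isGeneralizedCharacter_artinFun A)
      (IsGeneralizedCharacter.restrict hχ A))
  have hab : ∀ a b : A, a * b = b * a := by
    let _ : CommGroup A := (inferInstance : IsCyclic A).commGroup
    exact mul_comm
  obtain ⟨K, lam, he⟩ : ∃ (K : Subgroup A) (lam : K →* ℂˣ),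
      φ = Cfsg.indFun K (fun k => (lam k : ℂ)) := by
    have : Group.IsNilpotent A := by
      refine ⟨⟨1, ?_⟩⟩
      rw [Subgroup.upperCentralSeries_one, Subgroup.eq_top_iff']
      exact fun a => Subgroup.mem_center_iff.2 fun b => hab b a
    exact monomial_of_isNilpotent hφ
  exact ⟨K, lam, isCyclic_of_surjective _
    (K.equivMapOfInjective A.subtype A.subtype_injective).surjective, he⟩

end Cfsg.Agent.Char
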