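/-
Character theory core, part 12: consequences of Brauer's characterization on p-regular elements.

* `commute_of_coprime_orderOf`, `exists_powHom`, `exists_split` (nilpotent groups)
* `IsElementary.of_equiv`, `IsCharacter.average_fst`
* `isIntegral_of_coprime_mul`, `exists_int_of_isIntegral_mul`
* `isIntegral_regular_value_div`: p^(a-b) χ(y) / |P| is integral for p-regular y centralized by P
* `isGeneralizedCharacter_regularPart`, `vanishes_of_defect_zero`, `dvd_degree_of_vanishing`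
-/
import Cfsg.Agent.Lib.Char.Monomial
import Cfsg.Agent.Lib.Char.Integral

set_option autoImplicit false

namespace Cfsg.Agent.Char

open Cfsg
open scoped ComplexConjugate

variable {G : Type*} [Group G]

section nilpotent

variable [Finite G] [hG : Group.IsNilpotent G]

include hG in
/-- For coprime `A`, `B` with `|G| = A * B` the exponent that is `1` mod `A` and `0` mod `B`
gives an endomorphism of a nilpotent group. -/
theorem exists_powHom {A B : ℕ} (hAB : A.Coprime B) (hcard : Nat.card G = A * B) :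
    ∃ (m : ℕ) (f : G →* G), (∀ x, f x = x ^ m) ∧ m ≡ 1 [MOD A] ∧ B ∣ m := by
  obtain ⟨m, hm1, hm2⟩ := Nat.chineseRemainder hAB 1 0
  have hB : B ∣ m := Nat.modEq_zero_iff_dvd.1 hm2
  refine ⟨m, MonoidHom.mk' (fun x => x ^ m) ?_, fun x => rfl, hm1, hB⟩
  intro a b
  obtain ⟨φ⟩ := ((Group.isNilpotent_of_finite_tfae (G := G)).out 0 4).1 hG
  refine φ.symm.injective ?_
  simp only [map_mul, map_pow]
  funext p P
  have : Fact (p : ℕ).Prime := ⟨Nat.prime_of_mem_primeFactors p.2⟩
  have hdvd : Nat.card (P : Subgroup G) ∣ A * B := hcard ▸ Subgroup.card_subgroup_dvd_card _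
  obtain ⟨k, hk⟩ := IsPGroup.iff_card.1 P.isPGroup'
  have hz : ∀ z : (P : Subgroup G), z ^ m = z ∨ ∀ w : (P : Subgroup G), w ^ m = 1 := by
    intro z
    by_cases hpA : (p : ℕ) ∣ A
    · left
      have hpB : ¬ (p : ℕ) ∣ B := fun h =>
        Nat.not_coprime_of_dvd_of_dvd (Fact.out : (p : ℕ).Prime).one_lt hpA h hAB
      have h1 : Nat.card (P : Subgroup G) ∣ A := by
        refine Nat.Coprime.dvd_of_dvd_mul_right ?_ hdvd
        rw [hk]
        exact ((Fact.out : (p : ℕ).Prime).coprime_iff_not_dvd.2 hpB).pow_left _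
      have := (pow_eq_pow_iff_modEq (x := z) (n := m) (m := 1)).2
        (hm1.of_dvd ((orderOf_dvd_natCard z).trans h1))
      simpa using this
    · right
      intro w
      have h1 : Nat.card (P : Subgroup G) ∣ B := by
        refine Nat.Coprime.dvd_of_dvd_mul_left ?_ hdvd
        rw [hk]
        exact ((Fact.out : (p : ℕ).Prime).coprime_iff_not_dvd.2 hpA).pow_left _
      exact orderOf_dvd_iff_pow_eq_one.1 ((orderOf_dvd_natCard w).trans (h1.trans hB))
  simp only [Pi.pow_apply, Pi.mul_apply]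
  rcases hz (φ.symm a p P) with ha | ha
  · rcases hz (φ.symm b p P) with hb | hb
    · rcases hz (φ.symm a p P * φ.symm b p P) with hab | hab
      · rw [ha, hb, hab]
      · rw [hab, hab, hab, one_mul]
    · rw [hb, hb, hb, one_mul]
  · rw [ha, ha, ha, one_mul]

include hG in
/-- A nilpotent group of order `A * B` with `A`, `B` coprime is the direct product of its
subgroups of exponent dividing `A` and `B`. -/
theorem exists_split {A B : ℕ} (hAB : A.Coprime B) (hcard : Nat.card G = A * B) :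
    ∃ (P Q : Subgroup G) (e : P × Q ≃* G), (∀ (u : P) (v : Q), e (u, v) = (u : G) * v) ∧
      (∀ x, x ∈ P ↔ x ^ A = 1) ∧ (∀ x, x ∈ Q ↔ x ^ B = 1) ∧
      Nat.card P = A ∧ Nat.card Q = B := by
  obtain ⟨m, f, hf, hm1, hB⟩ := exists_powHom hAB hcard
  have hG1 : ∀ x : G, x ^ (A * B) = 1 := fun x => by rw [← hcard]; exact pow_card_eq_one'
  have hA1 : ∀ x : G, x ^ A = 1 → f x = x := fun x hx => by
    have := (pow_eq_pow_iff_modEq (x := x) (n := m) (m := 1)).2
      (hm1.of_dvd (orderOf_dvd_of_pow_eq_one hx))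
    simpa [hf] using this
  have hB1 : ∀ x : G, x ^ B = 1 → f x = 1 := fun x hx => by
    obtain ⟨k, rfl⟩ := hB
    rw [hf, pow_mul, hx, one_pow]
  have hfA : ∀ x : G, f x ^ A = 1 := fun x => by
    obtain ⟨k, rfl⟩ := hB
    rw [hf, ← pow_mul, mul_comm (B * k), ← mul_assoc, pow_mul, hG1, one_pow]
  have hcomm : ∀ u v : G, u ^ A = 1 → v ^ B = 1 → Commute u v := fun u v hu hv => by
    have h1 : u * v * u⁻¹ * v⁻¹ = f (u * v * u⁻¹ * v⁻¹) := by
      have hk : (u * v * u⁻¹ * v⁻¹) ^ A = 1 := by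
        obtain ⟨m', f', hf', hm1', hA⟩ := exists_powHom hAB.symm (hcard.trans (mul_comm A B))
        have h0 : f' (u * v * u⁻¹ * v⁻¹) = 1 := by
          have hu' : f' u = 1 := by
            obtain ⟨k, rfl⟩ := hA
            rw [hf', pow_mul, hu, one_pow]
          simp [hu']
        have h2 : orderOf (u * v * u⁻¹ * v⁻¹) ∣ m' :=
          orderOf_dvd_of_pow_eq_one (by rw [← hf', h0])
        have h3 : orderOf (u * v * u⁻¹ * v⁻¹) ∣ A * B := orderOf_dvd_of_pow_eq_one (hG1 _)
        refine orderOf_dvd_iff_pow_eq_one.1 (Nat.Coprime.dvd_of_dvd_mul_right ?_ h3)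
        refine Nat.Coprime.coprime_dvd_left h2 ?_
        rw [Nat.coprime_iff_gcd_eq_one, Nat.gcd_comm]
        have := hm1'.gcd_eq
        rw [Nat.gcd_one_left, Nat.gcd_comm] at this
        exact this
      exact (hA1 _ hk).symm
    have h2 : f (u * v * u⁻¹ * v⁻¹) = 1 := by simp [hB1 v hv]
    rw [h2] at h1
    exact mul_inv_eq_iff_eq_mul.1 (mul_inv_eq_one.1 h1)
  let P : Subgroup G := f.range
  have hP : ∀ x, x ∈ P ↔ x ^ A = 1 :=
    fun x => ⟨fun ⟨y, hy⟩ => hy ▸ hfA y, fun hx => ⟨x, hA1 x hx⟩⟩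
  let Q : Subgroup G := f.ker
  have hQ : ∀ x, x ∈ Q ↔ x ^ B = 1 := by
    refine fun x => ⟨fun hx => ?_, hB1 x⟩
    have hx' : x ^ m = 1 := (hf x).symm.trans hx
    refine orderOf_dvd_iff_pow_eq_one.1 (Nat.Coprime.dvd_of_dvd_mul_left ?_
      (orderOf_dvd_of_pow_eq_one (hG1 x)))
    refine Nat.Coprime.coprime_dvd_left (orderOf_dvd_of_pow_eq_one hx') ?_
    rw [Nat.coprime_iff_gcd_eq_one, Nat.gcd_comm]
    have := hm1.gcd_eq
    rw [Nat.gcd_one_left, Nat.gcd_comm] at this
    exact this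
  let ι : P × Q →* G := MonoidHom.noncommCoprod P.subtype Q.subtype
    (fun u v => hcomm u v ((hP u).1 u.2) ((hQ v).1 v.2))
  have hι : Function.Bijective ι := by
    refine ⟨(injective_iff_map_eq_one ι).2 ?_, fun g => ?_⟩
    · rintro ⟨u, v⟩ h
      have hv : f (v : G) = 1 := hB1 v ((hQ v).1 v.2)
      have hu : (u : G) = 1 := by
        have := congrArg f (show (u : G) * v = 1 from h)
        rwa [map_mul, hv, mul_one, map_one, hA1 u ((hP u).1 u.2)] at this
      have hv' : (v : G) = 1 := by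
        have h' : (u : G) * v = 1 := h
        rwa [hu, one_mul] at h'
      exact Prod.ext (Subtype.ext hu) (Subtype.ext hv')
    · refine ⟨(⟨f g, g, rfl⟩, ⟨(f g)⁻¹ * g, ?_⟩), ?_⟩
      · show f ((f g)⁻¹ * g) = 1
        rw [map_mul, map_inv, hA1 _ (hfA g), inv_mul_cancel]
      · show f g * ((f g)⁻¹ * g) = g
        rw [mul_inv_cancel_left]
  have hprod : Nat.card P * Nat.card Q = A * B := by
    rw [← hcard, ← Nat.card_congr (MulEquiv.ofBijective ι hι).toEquiv, Nat.card_prod]
  have hcop : ∀ (R : Subgroup G) (C D : ℕ), C.Coprime D → (∀ x ∈ R, x ^ C = 1) →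
      Nat.Coprime (Nat.card R) D := by
    intro R C D hCD hR
    refine Nat.coprime_of_dvd fun q hq h1 h2 => ?_
    have := Fact.mk hq
    obtain ⟨x, hx⟩ := exists_prime_orderOf_dvd_card' q h1
    have h3 := orderOf_dvd_of_pow_eq_one (hR x x.2)
    rw [Subgroup.orderOf_coe, hx] at h3
    exact Nat.not_coprime_of_dvd_of_dvd hq.one_lt h3 h2 hCD
  have hPA : Nat.card P ∣ A := (hcop P A B hAB fun x hx => (hP x).1 hx).dvd_of_dvd_mul_right
    (hprod ▸ dvd_mul_right _ _)
  have hQB : Nat.card Q ∣ B := (hcop Q B A hAB.symm fun x hx => (hQ x).1 hx).dvd_of_dvd_mul_left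
    (hprod ▸ dvd_mul_left _ _)
  have hApos : 0 < A := Nat.pos_of_ne_zero fun h => Nat.card_pos.ne' (hcard.trans (by simp [h]))
  have hBpos : 0 < B := Nat.pos_of_ne_zero fun h => Nat.card_pos.ne' (hcard.trans (by simp [h]))
  have h1 := Nat.le_of_dvd hApos hPA
  have h2 := Nat.le_of_dvd hBpos hQB
  refine ⟨P, Q, MulEquiv.ofBijective ι hι, fun u v => rfl, hP, hQ, ?_, ?_⟩ <;> nlinarith

end nilpotent

theorem IsElementary.of_equiv {H : Type*} [Group H] {p : ℕ} (e : G ≃* H) (h : IsElementary p G) :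
    IsElementary p H := by
  obtain ⟨x, hx, hco, k, hk⟩ := h
  refine ⟨e x, Subgroup.mem_center_iff.2 fun g => ?_, by rwa [MulEquiv.orderOf_eq], k, ?_⟩
  · rw [← e.apply_symm_apply g, ← map_mul, ← map_mul, Subgroup.mem_center_iff.1 hx]
  · rw [← hk]
    have : (Subgroup.zpowers x).map e.toMonoidHom = Subgroup.zpowers (e x) :=
      MonoidHom.map_zpowers _ _
    rw [← this]
    exact Subgroup.index_map_of_bijective e.bijective _

/-- The average over the first factor of a character of a product is a character of the second. -/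
theorem IsCharacter.average_fst {P Q : Type*} [Group P] [Group Q] [Fintype P] [Finite Q]
    {χ : P × Q → ℂ} (hχ : IsCharacter (P × Q) χ) :
    IsCharacter Q (fun v => (Nat.card P : ℂ)⁻¹ * ∑ u : P, χ (u, v)) := by
  have := Fintype.ofFinite Q
  refine isCharacter_of_classFunction ?_ fun ψ => ?_
  · intro v y
    show (Nat.card P : ℂ)⁻¹ * ∑ u : P, χ (u, y * v * y⁻¹) = (Nat.card P : ℂ)⁻¹ * ∑ u : P, χ (u, v)
    congr 1
    refine Finset.sum_congr rfl fun u _ => ?_
    have := IsCharacter.isClassFunction hχ (u, v) (1, y)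
    simpa using this
  · obtain ⟨m, hm⟩ := IsCharacter.classInner_nat hχ
      (IsCharacter.comp_hom (IsIrrCharacter.isCharacter ψ.2) (MonoidHom.snd P Q))
    refine ⟨m, hm ▸ ?_⟩
    simp only [classInner, Fintype.sum_prod_type, MonoidHom.coe_snd, Nat.card_prod, Nat.cast_mul,
      mul_inv, Finset.mul_sum, Finset.sum_mul]
    rw [Finset.sum_comm]
    exact Finset.sum_congr rfl fun u _ => Finset.sum_congr rfl fun v _ => by ring

theorem isIntegral_of_coprime_mul {a b : ℕ} (hab : a.Coprime b) {z : ℂ}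
    (ha : IsIntegral ℤ ((a : ℂ) * z)) (hb : IsIntegral ℤ ((b : ℂ) * z)) : IsIntegral ℤ z := by
  have h1 := congrArg (fun t : ℤ => (t : ℂ)) (Nat.gcd_eq_gcd_ab a b)
  rw [hab.gcd_eq_one] at h1
  push_cast at h1
  have e : z = (Nat.gcdA a b : ℂ) * ((a : ℂ) * z) + (Nat.gcdB a b : ℂ) * ((b : ℂ) * z) := by
    linear_combination z * h1
  rw [e]
  exact ((isIntegral_algebraMap (R := ℤ) (A := ℂ) (x := Nat.gcdA a b)).mul ha).add
    ((isIntegral_algebraMap (R := ℤ) (A := ℂ) (x := Nat.gcdB a b)).mul hb)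

theorem exists_int_of_isIntegral_mul {z : ℂ} {n : ℕ} (hn : n ≠ 0) {k : ℤ}
    (h : (n : ℂ) * z = k) (hz : IsIntegral ℤ z) : ∃ j : ℤ, z = j := by
  have e : z = (((k : ℚ) / n : ℚ) : ℂ) := by
    push_cast
    rw [eq_div_iff (Nat.cast_ne_zero.2 hn), mul_comm, h]
  have hq : IsIntegral ℤ ((k : ℚ) / n) := by
    rw [← isIntegral_algebraMap_iff (B := ℂ) (algebraMap ℚ ℂ).injective]
    rw [show (algebraMap ℚ ℂ) ((k : ℚ) / n) = (((k : ℚ) / n : ℚ) : ℂ) from rfl, ← e]
    exact hz
  obtain ⟨j, hj⟩ := IsIntegrallyClosed.isIntegral_iff.1 hq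
  refine ⟨j, ?_⟩
  rw [e, ← hj]
  simp

section regular

variable [Finite G] {p : ℕ}

theorem factorization_degree_le {χ : G → ℂ} (hχ : IsIrrCharacter G χ) {n : ℕ} (hn : χ 1 = n) :
    n.factorization p ≤ (Nat.card G).factorization p := by
  obtain ⟨m, hm, hm1, hdvd⟩ := IsIrrCharacter.degree_dvd_card hχ
  have : m = n := by exact_mod_cast hm1.symm.trans hn
  subst this
  exact (Nat.factorization_le_iff_dvd hm.ne' Nat.card_pos.ne').2 hdvd p

/-- For `y` centralized by a `p`-group `P`: `p^(a-b) χ y / |P|` is an algebraic integer. -/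
theorem isIntegral_regular_value_div (hp : p.Prime) {χ : G → ℂ} (hχ : IsIrrCharacter G χ)
    {n : ℕ} (hn : χ 1 = n) (y : G) (P : Subgroup G) (hP : IsPGroup p P)
    (hPy : P ≤ Subgroup.centralizer ({y} : Set G)) :
    IsIntegral ℤ (((p ^ ((Nat.card G).factorization p - n.factorization p) : ℕ) : ℂ) * χ y /
      (Nat.card P : ℂ)) := by
  have : Fact p.Prime := ⟨hp⟩
  obtain ⟨m, hm, hm1, hdvd⟩ := IsIrrCharacter.degree_dvd_card hχ
  obtain rfl : m = n := by exact_mod_cast hm1.symm.trans hn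
  obtain ⟨k, hk⟩ := IsPGroup.iff_card.1 hP
  set c := p ^ ((Nat.card G).factorization p - m.factorization p) with hc
  set z := ((c : ℕ) : ℂ) * χ y / (Nat.card P : ℂ)
  obtain ⟨D, hD⟩ := hdvd
  have hD0 : D ≠ 0 := fun h => Nat.card_pos.ne' (by rw [hD, h, mul_zero])
  have hfac : D.factorization p = (Nat.card G).factorization p - m.factorization p := by
    rw [hD, Nat.factorization_mul hm.ne' hD0]; simp
  have hD' : c * (D / c) = D := by
    rw [hc, ← hfac]; exact Nat.ordProj_mul_ordCompl_eq_self D p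
  have hcop : Nat.Coprime (D / c) (Nat.card P) := by
    rw [hk, hc, ← hfac]
    exact ((Nat.coprime_ordCompl hp hD0).symm).pow_right k
  refine isIntegral_of_coprime_mul hcop ?_ ?_
  · obtain ⟨r, hr⟩ := Subgroup.card_dvd_of_le hPy
    have hW := IsIrrCharacter.isIntegral_classSize_mul_div hχ y
    have hidx := (Subgroup.centralizer ({y} : Set G)).index_mul_card
    have e : ((D / c : ℕ) : ℂ) * z = (r : ℂ) *
        (((Subgroup.centralizer ({y} : Set G)).index : ℂ) * χ y / χ 1) := by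
      have hP0 : (Nat.card P : ℂ) ≠ 0 := Nat.cast_ne_zero.2 Nat.card_pos.ne'
      have hm0 : (m : ℂ) ≠ 0 := Nat.cast_ne_zero.2 hm.ne'
      have h1 : ((D / c : ℕ) : ℂ) * (c : ℂ) * (m : ℂ) =
          ((Subgroup.centralizer ({y} : Set G)).index : ℂ) * ((Nat.card P : ℂ) * (r : ℂ)) := by
        rw [← Nat.cast_mul, ← Nat.cast_mul, ← Nat.cast_mul, ← Nat.cast_mul, ← hr, hidx, hD,
          mul_comm (D / c) c, hD', mul_comm D m]
      simp only [z]
      rw [hm1]
      field_simp
      linear_combination χ y * h1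
    rw [e]
    exact (isIntegral_algebraMap (R := ℤ) (A := ℂ) (x := (r : ℤ))).mul hW
  · have e : ((Nat.card P : ℕ) : ℂ) * z = (c : ℂ) * χ y :=
      mul_div_cancel₀ _ (Nat.cast_ne_zero.2 Nat.card_pos.ne')
    rw [e]
    exact (isIntegral_algebraMap (R := ℤ) (A := ℂ) (x := (c : ℤ))).mul
      (IsCharacter.isIntegral (IsIrrCharacter.isCharacter hχ) y)

omit [Finite G] in
theorem not_dvd_orderOf_iff (hp : p.Prime) {A B : ℕ} {x : G} (hB : ¬ p ∣ B)
    (hA : ∃ k, A = p ^ k) (hx : x ^ (A * B) = 1) : ¬ p ∣ orderOf x ↔ x ^ B = 1 := by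
  constructor
  · intro h
    obtain ⟨k, rfl⟩ := hA
    exact orderOf_dvd_iff_pow_eq_one.1 (Nat.Coprime.dvd_of_dvd_mul_left
      (((hp.coprime_iff_not_dvd.2 h).pow_left k).symm) (orderOf_dvd_of_pow_eq_one hx))
  · intro h hd
    exact hB (hd.trans (orderOf_dvd_of_pow_eq_one h))

/-- `p^(a-b)` times the restriction of `χ` to the p-regular elements is a generalized character. -/
theorem isGeneralizedCharacter_regularPart (hp : p.Prime) {χ : G → ℂ} (hχ : IsIrrCharacter G χ)
    {n : ℕ} (hn : χ 1 = n) :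
    IsGeneralizedCharacter G (fun x => if p ∣ orderOf x then (0 : ℂ) else
      ((p ^ ((Nat.card G).factorization p - n.factorization p) : ℕ) : ℂ) * χ x) := by
  classical
  have : Fact p.Prime := ⟨hp⟩
  set c := p ^ ((Nat.card G).factorization p - n.factorization p)
  have hcl : IsClassFunction G (fun x => if p ∣ orderOf x then (0 : ℂ) else (c : ℂ) * χ x) := by
    intro g h
    have ho : orderOf (h * g * h⁻¹) = orderOf g := MulEquiv.orderOf_eq (MulAut.conj h) g
    simp only [ho, IsIrrCharacter.isClassFunction hχ g h]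
  refine brauer_characterization hcl fun E q hq hE => ?_
  have := isNilpotent_of_isElementary hq hE
  have := Fintype.ofFinite E
  set A := p ^ (Nat.card E).factorization p
  set B := Nat.card E / A
  have hAB : A * B = Nat.card E := Nat.ordProj_mul_ordCompl_eq_self _ _
  have hcop : A.Coprime B := (Nat.coprime_ordCompl hp Nat.card_pos.ne').pow_left _
  obtain ⟨P, Q, e, he, hP, hQ, hcP, hcQ⟩ := exists_split hcop hAB.symm
  refine isGeneralizedCharacter_iff_classInner.2 ⟨fun g h => hcl g h, fun ψ => ?_⟩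
  have hreg : ∀ x : E, ¬ p ∣ orderOf (x : G) ↔ x ∈ Q := by
    intro x
    rw [Subgroup.orderOf_coe, hQ]
    exact not_dvd_orderOf_iff hp (Nat.not_dvd_ordCompl hp Nat.card_pos.ne') ⟨_, rfl⟩
      (by rw [hAB]; exact pow_card_eq_one')
  have := Fintype.ofFinite Q
  set S := classInner (fun x : E => if p ∣ orderOf (x : G) then (0 : ℂ) else (c : ℂ) * χ x)
    (ψ : E → ℂ)
  have hS : S = (Nat.card E : ℂ)⁻¹ * ∑ v : Q, (c : ℂ) * χ (v : E) * conj ((ψ : E → ℂ) v) := by
    simp only [S, classInner]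
    congr 1
    rw [← Finset.sum_filter_add_sum_filter_not Finset.univ (· ∈ Q)]
    rw [Finset.sum_eq_zero (s := Finset.univ.filter fun x => ¬ x ∈ Q) fun x hx => by
        rw [if_pos (not_not.1 (mt (hreg x).1 (Finset.mem_filter.1 hx).2)), zero_mul], add_zero,
      Finset.sum_subtype (p := (· ∈ Q)) _ (fun x => by simp)
        (fun x : E => (if p ∣ orderOf (x : G) then (0 : ℂ) else (c : ℂ) * χ x) *
          conj ((ψ : E → ℂ) x))]
    exact Finset.sum_congr rfl fun v _ => by rw [if_neg ((hreg v).2 v.2)]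
  have hA0 : (Nat.card P : ℂ) ≠ 0 := Nat.cast_ne_zero.2 Nat.card_pos.ne'
  have hB0 : (Nat.card Q : ℂ) ≠ 0 := Nat.cast_ne_zero.2 Nat.card_pos.ne'
  have hEcard : (Nat.card E : ℂ) = (Nat.card P : ℂ) * (Nat.card Q : ℂ) := by
    rw [← Nat.cast_mul, hcP, hcQ, hAB]
  obtain ⟨k, hk⟩ := IsGeneralizedCharacter.classInner_int
    (isGeneralizedCharacter_of_isCharacter (IsCharacter.natCast_smul
      (IsCharacter.restrict (IsCharacter.restrict (IsIrrCharacter.isCharacter hχ) E) Q) c))
    (isGeneralizedCharacter_of_isCharacter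
      (IsCharacter.restrict (IsIrrCharacter.isCharacter ψ.2) Q))
  have hk' : (Nat.card P : ℂ) * S = (k : ℂ) := by
    rw [← hk, hS, hEcard, classInner]
    simp only [Pi.smul_apply, smul_eq_mul]
    field_simp
  refine exists_int_of_isIntegral_mul Nat.card_pos.ne' hk' (isIntegral_of_coprime_mul
    (a := Nat.card P) (b := Nat.card Q) (by rw [hcP, hcQ]; exact hcop) ?_ ?_)
  · rw [hk']
    exact isIntegral_algebraMap (R := ℤ) (A := ℂ) (x := k)
  · have e2 : (Nat.card Q : ℂ) * S =
        ∑ v : Q, (c : ℂ) * χ (v : E) / (Nat.card P : ℂ) * conj ((ψ : E → ℂ) v) := by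
      rw [hS, hEcard, Finset.mul_sum, Finset.mul_sum]
      exact Finset.sum_congr rfl fun v _ => by field_simp
    rw [e2]
    refine IsIntegral.sum _ fun v _ => IsIntegral.mul ?_
      (IsCharacter.isIntegral (IsCharacter.conj (IsIrrCharacter.isCharacter ψ.2)) _)
    have h1 := isIntegral_regular_value_div hp hχ hn (v : E) (P.map E.subtype)
      ((IsPGroup.of_card (n := (Nat.card E).factorization p) hcP).map E.subtype) ?_
    · rwa [Subgroup.card_map_of_injective E.subtype_injective] at h1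
    · rintro x ⟨u, hu, rfl⟩
      refine Subgroup.mem_centralizer_singleton_iff.2 ?_
      have hcv : ((⟨u, hu⟩ : P) : E) * (v : E) = (v : E) * ((⟨u, hu⟩ : P) : E) := by
        calc ((⟨u, hu⟩ : P) : E) * (v : E) = e (⟨u, hu⟩, v) := (he _ _).symm
          _ = e ((1, v) * (⟨u, hu⟩, 1)) := by simp
          _ = e (1, v) * e (⟨u, hu⟩, 1) := map_mul _ _ _
          _ = (v : E) * ((⟨u, hu⟩ : P) : E) := by rw [he, he]; simp
      exact congrArg Subtype.val hcv

/-- A generalized character that vanishes on the p-singular elements has value at `1` divisible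
by the p-part of the group order. -/
theorem dvd_apply_one_of_vanishing (hp : p.Prime) {θ : G → ℂ} (hθ : IsGeneralizedCharacter G θ)
    (hz : ∀ x : G, p ∣ orderOf x → θ x = 0) :
    ∃ k : ℤ, θ 1 = ((p ^ (Nat.card G).factorization p : ℕ) : ℂ) * k := by
  have : Fact p.Prime := ⟨hp⟩
  obtain ⟨P⟩ : Nonempty (Sylow p G) := inferInstance
  have := Fintype.ofFinite (P : Subgroup G)
  obtain ⟨k, hk⟩ := IsGeneralizedCharacter.classInner_int
    (IsGeneralizedCharacter.restrict hθ (P : Subgroup G))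
    (isGeneralizedCharacter_of_isCharacter (isCharacter_one (G := (P : Subgroup G))))
  refine ⟨k, ?_⟩
  rw [← hk, classInner, Finset.sum_eq_single (1 : (P : Subgroup G))]
  · have hP0 : (Nat.card (P : Subgroup G) : ℂ) ≠ 0 := Nat.cast_ne_zero.2 Nat.card_pos.ne'
    rw [← Sylow.card_eq_multiplicity P]
    simp only [Pi.one_apply, map_one, mul_one, OneMemClass.coe_one]
    rw [← mul_assoc, mul_inv_cancel₀ hP0, one_mul]
  · intro x _ hx
    have : p ∣ orderOf (x : G) := by
      obtain ⟨j, hj⟩ := IsPGroup.iff_orderOf.1 P.isPGroup' x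
      rw [Subgroup.orderOf_coe, hj]
      refine dvd_pow_self p fun h0 => hx ?_
      rw [h0, pow_zero] at hj
      exact orderOf_eq_one_iff.1 hj
    simp [hz _ this]
  · exact fun h => absurd (Finset.mem_univ _) h

/-- A character of p-defect zero vanishes on p-singular elements. -/
theorem vanishes_of_defect_zero (hp : p.Prime) {χ : G → ℂ} (hχ : IsIrrCharacter G χ)
    {n : ℕ} (hn : χ 1 = n) (hdef : (Nat.card G).factorization p ≤ n.factorization p)
    (x : G) (hx : p ∣ orderOf x) : χ x = 0 := by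
  classical
  have := Fintype.ofFinite G
  have hθ := isGeneralizedCharacter_regularPart hp hχ hn
  rw [Nat.sub_eq_zero_of_le hdef, pow_zero, Nat.cast_one] at hθ
  simp only [one_mul] at hθ
  obtain ⟨k, hk⟩ := IsGeneralizedCharacter.classInner_int hθ
    (isGeneralizedCharacter_of_isCharacter (IsIrrCharacter.isCharacter hχ))
  have hsum : classInner (fun g => if p ∣ orderOf g then (0 : ℂ) else χ g) χ =
      (((Nat.card G : ℝ)⁻¹ * ∑ g, if p ∣ orderOf g then 0 else ‖χ g‖ ^ 2 : ℝ) : ℂ) := by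
    rw [classInner, Complex.ofReal_mul, Complex.ofReal_inv, Complex.ofReal_natCast, Complex.ofReal_sum]
    congr 1
    refine Finset.sum_congr rfl fun g _ => ?_
    split_ifs <;> simp [Complex.mul_conj']
  rw [hsum] at hk
  have hk' : (Nat.card G : ℝ)⁻¹ * ∑ g, (if p ∣ orderOf g then 0 else ‖χ g‖ ^ 2) = (k : ℝ) := by
    exact_mod_cast hk
  have htot : (Nat.card G : ℝ)⁻¹ * ∑ g, ‖χ g‖ ^ 2 = 1 := by
    have h := classInner_irr_self hχ
    rw [classInner_self_eq] at h
    exact_mod_cast h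
  by_contra hne
  have hlt : (k : ℝ) < 1 := by
    rw [← hk', ← htot]
    refine mul_lt_mul_of_pos_left ?_ (inv_pos.2 (Nat.cast_pos.2 Nat.card_pos))
    refine Finset.sum_lt_sum (fun g _ => ?_) ⟨x, Finset.mem_univ x, ?_⟩
    · split_ifs
      · positivity
      · exact le_rfl
    · rw [if_pos hx]
      positivity
  have hpos : (0 : ℝ) < k := by
    rw [← hk']
    refine mul_pos (inv_pos.2 (Nat.cast_pos.2 Nat.card_pos)) (Finset.sum_pos' (fun g _ => ?_)
      ⟨1, Finset.mem_univ _, ?_⟩)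
    · split_ifs <;> positivity
    · rw [if_neg (by rw [orderOf_one]; exact fun h => hp.one_lt.ne' (Nat.dvd_one.1 h))]
      have := IsIrrCharacter.apply_one_ne_zero hχ
      positivity
  have h1 : (k : ℤ) < 1 := by exact_mod_cast hlt
  have h2 : (0 : ℤ) < k := by exact_mod_cast hpos
  omega

end regular

end Cfsg.Agent.Char
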