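/-
Character theory core, part 14: the Brauer-Suzuki normal complement theorem for Hall subgroups.

* `brauer_suzuki_complement`
-/
import Cfsg.Agent.Lib.Char.PRegular

set_option autoImplicit false

namespace Cfsg.Agent.Char

open Cfsg
open scoped ComplexConjugate

variable {G : Type*} [Group G] (H : Subgroup G) (m : ℕ)

open Classical in
/-- The extension of a class function of `H` along `x ↦ x ^ m`. -/
noncomputable def bsExt (θ : H → ℂ) : G → ℂ := fun x =>
  if h : ∃ k : H, IsConj (x ^ m) (k : G) then θ h.choose else 0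

theorem bsExt_eq (hfus : ∀ x ∈ H, ∀ y ∈ H, IsConj x y → ∃ h ∈ H, h * x * h⁻¹ = y)
    {θ : H → ℂ} (hθ : IsClassFunction H θ) {x : G} (k : H) (hk : IsConj (x ^ m) (k : G)) :
    bsExt H m θ x = θ k := by
  have h : ∃ k : H, IsConj (x ^ m) (k : G) := ⟨k, hk⟩
  rw [bsExt, dif_pos h]
  obtain ⟨y, hy, he⟩ := hfus _ h.choose.2 _ k.2 (h.choose_spec.symm.trans hk)
  have e : k = (⟨y, hy⟩ : H) * h.choose * (⟨y, hy⟩ : H)⁻¹ := Subtype.ext he.symm
  rw [e, hθ]

theorem bsExt_isClassFunction {θ : H → ℂ} : IsClassFunction G (bsExt H m θ) := by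
  intro g y
  have hiff : ∀ k : H, IsConj ((y * g * y⁻¹) ^ m) (k : G) ↔ IsConj (g ^ m) (k : G) := fun k => by
    have h : IsConj (g ^ m) ((y * g * y⁻¹) ^ m) := isConj_iff.2 ⟨y, by rw [conj_pow]⟩
    exact ⟨fun hk => h.trans hk, fun hk => h.symm.trans hk⟩
  by_cases h : ∃ k : H, IsConj (g ^ m) (k : G)
  · have h' : ∃ k : H, IsConj ((y * g * y⁻¹) ^ m) (k : G) :=
      h.imp fun k hk => (hiff k).2 hk
    simp only [bsExt, dif_pos h, dif_pos h']
    congr 1
    simp only [hiff]
  · have h' : ¬ ∃ k : H, IsConj ((y * g * y⁻¹) ^ m) (k : G) :=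
      fun hh => h (hh.imp fun k hk => (hiff k).1 hk)
    simp only [bsExt, dif_neg h, dif_neg h']

/-- The Brauer-Suzuki normal complement theorem. -/
theorem brauer_suzuki_complement [Fintype G] (hHall : Nat.Coprime (Nat.card H) H.index)
    (hfus : ∀ x ∈ H, ∀ y ∈ H, IsConj x y → ∃ h ∈ H, h * x * h⁻¹ = y)
    (helem : ∀ (E : Subgroup G) (p : ℕ), p.Prime → IsElementary p E →
      Nat.card E ∣ Nat.card H → ∃ g : G, E.map (MulAut.conj g).toMonoidHom ≤ H) :
    ∃ K : Subgroup G, K.Normal ∧ K ⊔ H = ⊤ ∧ K ⊓ H = ⊥ := by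
  classical
  have := Fintype.ofFinite H
  have := Fintype.ofFinite (IrrCharacter H)
  obtain ⟨m, hm1, hm0⟩ := Nat.chineseRemainder hHall 1 0
  have hmI : H.index ∣ m := Nat.modEq_zero_iff_dvd.1 hm0
  have hG : Nat.card G = Nat.card H * H.index := H.card_mul_index.symm
  have hpowG : ∀ x : G, (x ^ m) ^ Nat.card H = 1 := by
    intro x
    obtain ⟨k, rfl⟩ := hmI
    rw [← pow_mul, mul_comm (H.index * k), ← mul_assoc, ← hG, pow_mul, pow_card_eq_one', one_pow]
  have hfix : ∀ z : G, z ^ Nat.card H = 1 → z ^ m = z := fun z hz => by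
    have := (pow_eq_pow_iff_modEq (x := z) (n := m) (m := 1)).2
      (hm1.of_dvd (orderOf_dvd_of_pow_eq_one hz))
    simpa using this
  have hHpow : ∀ h : H, (h : G) ^ Nat.card H = 1 := fun h => by
    rw [← Subgroup.coe_pow, pow_card_eq_one', OneMemClass.coe_one]
  -- a subgroup whose elements have order dividing |H| has order dividing |H|
  have hdvd : ∀ R : Subgroup G, (∀ x ∈ R, x ^ Nat.card H = 1) → Nat.card R ∣ Nat.card H := by
    intro R hR
    refine Nat.Coprime.dvd_of_dvd_mul_right ?_ (hG ▸ R.card_subgroup_dvd_card)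
    refine Nat.coprime_of_dvd fun q hq h1 h2 => ?_
    have := Fact.mk hq
    obtain ⟨x, hx⟩ := exists_prime_orderOf_dvd_card' q h1
    have h3 := orderOf_dvd_of_pow_eq_one (hR x x.2)
    rw [Subgroup.orderOf_coe, hx] at h3
    exact Nat.not_coprime_of_dvd_of_dvd hq.one_lt h3 h2 hHall
  -- every `H`-part is conjugate into `H`
  have hconj : ∀ x : G, ∃ k : H, IsConj (x ^ m) (k : G) := by
    intro x
    obtain ⟨p, hple, hp⟩ := Nat.exists_infinite_primes (Nat.card G + 1)
    have hel : IsElementary p (Subgroup.zpowers (x ^ m)) := by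
      refine ⟨⟨x ^ m, Subgroup.mem_zpowers _⟩, Subgroup.mem_center_iff.2 fun g => Subtype.ext ?_,
        ?_, 0, ?_⟩
      · obtain ⟨i, hi⟩ := Subgroup.mem_zpowers_iff.1 g.2
        show (g : G) * x ^ m = x ^ m * g
        rw [← hi]
        exact ((Commute.refl (x ^ m)).zpow_left i).eq
      · rw [← Subgroup.orderOf_coe]
        refine ((hp.coprime_iff_not_dvd).2 fun h => ?_).symm
        have h1 := (Nat.le_of_dvd Nat.card_pos (h.trans (orderOf_dvd_natCard _)))
        omega
      · rw [pow_zero, Subgroup.index_eq_one, Subgroup.eq_top_iff']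
        intro g
        obtain ⟨i, hi⟩ := Subgroup.mem_zpowers_iff.1 g.2
        exact Subgroup.mem_zpowers_iff.2 ⟨i, Subtype.ext (by simpa using hi)⟩
    obtain ⟨g, hg⟩ := helem _ p hp hel (hdvd _ (fun z hz => by
      obtain ⟨i, rfl⟩ := Subgroup.mem_zpowers_iff.1 hz
      rw [← zpow_natCast, ← zpow_mul, mul_comm, zpow_mul, zpow_natCast, hpowG, one_zpow]))
    exact ⟨⟨g * x ^ m * g⁻¹, hg ⟨x ^ m, Subgroup.mem_zpowers _, by simp⟩⟩,
      isConj_iff.2 ⟨g, rfl⟩⟩
  -- the extensions are generalized characters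
  have hgen : ∀ θ : H → ℂ, IsCharacter H θ → IsGeneralizedCharacter G (bsExt H m θ) := by
    intro θ hθ
    refine brauer_characterization (bsExt_isClassFunction H m) fun E p hp hE => ?_
    have := isNilpotent_of_isElementary hp hE
    set A := Nat.gcd (Nat.card E) (Nat.card H) with hA
    set B := Nat.gcd (Nat.card E) H.index with hB
    have hEAB : Nat.card E = A * B := by
      rw [hA, hB, ← Nat.Coprime.gcd_mul _ hHall, ← hG]
      exact (Nat.gcd_eq_left E.card_subgroup_dvd_card).symm
    have hAB : A.Coprime B :=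
      (hHall.coprime_dvd_left (Nat.gcd_dvd_right _ _)).coprime_dvd_right (Nat.gcd_dvd_right _ _)
    obtain ⟨k, f, hf, hk1, hkB⟩ := exists_powHom hAB hEAB
    have hfm : ∀ e : E, f e = e ^ m := by
      intro e
      rw [hf, pow_eq_pow_iff_modEq]
      refine Nat.ModEq.of_dvd (orderOf_dvd_natCard e) ?_
      rw [hEAB]
      refine (Nat.modEq_and_modEq_iff_modEq_mul hAB).1
        ⟨hk1.trans (hm1.of_dvd (Nat.gcd_dvd_right _ _)).symm, ?_⟩
      exact (Nat.modEq_zero_iff_dvd.2 hkB).trans
        (Nat.modEq_zero_iff_dvd.2 ((Nat.gcd_dvd_right _ _).trans hmI)).symm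
    let R : Subgroup G := f.range.map E.subtype
    have hRel : IsElementary p R := IsElementary.of_equiv
      (f.range.equivMapOfInjective E.subtype E.subtype_injective) (IsElementary.subgroup hp hE _)
    have hRdvd : Nat.card R ∣ Nat.card H := hdvd R fun z hz => by
      obtain ⟨_, ⟨e, rfl⟩, rfl⟩ := hz
      rw [hfm, E.coe_subtype, Subgroup.coe_pow]
      exact hpowG _
    obtain ⟨g, hg⟩ := helem R p hp hRel hRdvd
    let φ : E →* H := MonoidHom.codRestrict
      ((MulAut.conj g).toMonoidHom.comp (E.subtype.comp f)) H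
      (fun e => hg ⟨(f e : G), ⟨f e, ⟨e, rfl⟩, rfl⟩, rfl⟩)
    have hval : (fun e : E => bsExt H m θ e) = fun e => θ (φ e) := by
      funext e
      refine bsExt_eq H m hfus (IsCharacter.isClassFunction hθ) (φ e) (isConj_iff.2 ⟨g, ?_⟩)
      show g * (e : G) ^ m * g⁻¹ = g * (f e : G) * g⁻¹
      rw [hfm, Subgroup.coe_pow]
    rw [hval]
    exact IsGeneralizedCharacter.comp_hom (isGeneralizedCharacter_of_isCharacter hθ) φ
  -- the transfer of sums
  let N' : H → ℕ := fun h => (Finset.univ.filter fun x : G => x ^ m = h).card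
  let CG : H → ℕ := fun h => Nat.card (Subgroup.centralizer ({(h : G)} : Set G))
  let CH : H → ℕ := fun h => Nat.card (Subgroup.centralizer ({h} : Set H))
  let w : H → ℂ := fun h => (N' h : ℂ) * (CH h : ℂ) / (CG h : ℂ)
  have hCG : ∀ a b : H, IsConj (a : G) b → CG a = CG b ∧ CH a = CH b := by
    intro a b hab
    constructor
    · have h1 := card_conjugates_mul_card_centralizer (a : G)
      have h2 := card_conjugates_mul_card_centralizer (b : G)
      have e : ({x : G | IsConj (a : G) x} : Set G) = {x : G | IsConj (b : G) x} :=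
        Set.ext fun x => ⟨fun k => hab.symm.trans k, fun k => hab.trans k⟩
      rw [e] at h1
      have : Nonempty {x : G | IsConj (b : G) x} := ⟨⟨b, IsConj.refl _⟩⟩
      exact Nat.eq_of_mul_eq_mul_left Nat.card_pos (h1.trans h2.symm)
    · obtain ⟨y, hy, he⟩ := hfus a a.2 b b.2 hab
      have hab' : IsConj a b := isConj_iff.2 ⟨⟨y, hy⟩, Subtype.ext he⟩
      have h1 := card_conjugates_mul_card_centralizer a
      have h2 := card_conjugates_mul_card_centralizer b
      have e : ({x : H | IsConj a x} : Set H) = {x : H | IsConj b x} :=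
        Set.ext fun x => ⟨fun k => hab'.symm.trans k, fun k => hab'.trans k⟩
      rw [e] at h1
      have : Nonempty {x : H | IsConj b x} := ⟨⟨b, IsConj.refl _⟩⟩
      exact Nat.eq_of_mul_eq_mul_left Nat.card_pos (h1.trans h2.symm)
  have hsum : ∀ θ : H → ℂ, IsClassFunction H θ →
      classInner (bsExt H m θ) (1 : G → ℂ) = (Nat.card H : ℂ)⁻¹ * ∑ h : H, θ h * w h := by
    intro θ hθ
    -- double count the pairs `(h, g)` with `g h g⁻¹` equal to the `H`-part
    have hpt : ∀ x : G, ∀ k : H, IsConj (x ^ m) (k : G) →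
        ∑ h : H, ∑ g : G, (if x ^ m = g * h * g⁻¹ then θ h * ((CH h : ℂ) / CG h) else 0) =
          (Nat.card H : ℂ) * θ k := by
      intro x k hk
      have hterm : ∀ h : H, ∑ g : G,
          (if x ^ m = g * h * g⁻¹ then θ h * ((CH h : ℂ) / CG h) else 0) =
          if IsConj k h then θ k * (CH k : ℂ) else 0 := by
        intro h
        by_cases hh : IsConj (x ^ m) (h : G)
        · have hkh : IsConj (k : G) h := hk.symm.trans hh
          obtain ⟨y, hy, he⟩ := hfus k k.2 h h.2 hkh
          have hkh' : IsConj k h := isConj_iff.2 ⟨⟨y, hy⟩, Subtype.ext he⟩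
          rw [if_pos hkh']
          have hθe : θ h = θ k := by
            obtain ⟨c, rfl⟩ := isConj_iff.1 hkh'
            exact hθ k c
          obtain ⟨g₀, hg₀⟩ := isConj_iff.1 hh.symm
          have hcount : (Finset.univ.filter fun g : G => x ^ m = g * h * g⁻¹).card = CG h := by
            rw [show CG h = Fintype.card (Subgroup.centralizer ({(h : G)} : Set G)) from
              Nat.card_eq_fintype_card, ← Finset.card_univ]
            refine Finset.card_bij' (fun g hg => (⟨g₀⁻¹ * g, ?_⟩ :
              Subgroup.centralizer ({(h : G)} : Set G))) (fun c _ => g₀ * c) ?_ ?_ ?_ ?_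
            · have hg' := (Finset.mem_filter.1 hg).2
              rw [← hg₀] at hg'
              refine Subgroup.mem_centralizer_singleton_iff.2 ?_
              calc g₀⁻¹ * g * h = g₀⁻¹ * (g * h * g⁻¹) * g := by simp [mul_assoc]
                _ = g₀⁻¹ * (g₀ * h * g₀⁻¹) * g := by rw [hg']
                _ = h * (g₀⁻¹ * g) := by simp [mul_assoc]
            · exact fun g _ => Finset.mem_univ _
            · intro c _
              refine Finset.mem_filter.2 ⟨Finset.mem_univ _, ?_⟩
              have hc := Subgroup.mem_centralizer_singleton_iff.1 c.2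
              rw [← hg₀]
              calc g₀ * h * g₀⁻¹ = g₀ * ((h : G) * c) * c⁻¹ * g₀⁻¹ := by simp [mul_assoc]
                _ = g₀ * ((c : G) * h) * c⁻¹ * g₀⁻¹ := by rw [hc]
                _ = _ := by simp [mul_assoc]
            · intro g _; simp
            · intro c _; exact Subtype.ext (by simp)
          rw [← Finset.sum_filter, Finset.sum_const, hcount, nsmul_eq_mul, hθe,
            (hCG k h hkh).2]
          have : (CG h : ℂ) ≠ 0 := Nat.cast_ne_zero.2 Nat.card_pos.ne'
          field_simp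
        · rw [if_neg, Finset.sum_eq_zero]
          · intro g _
            rw [if_neg]
            exact fun e => hh (isConj_iff.2 ⟨g⁻¹, by rw [e]; simp [mul_assoc]⟩)
          · intro hkh
            exact hh (hk.trans (MonoidHom.map_isConj H.subtype hkh))
      rw [Finset.sum_congr rfl fun h _ => hterm h, ← Finset.sum_filter, Finset.sum_const, nsmul_eq_mul]
      have h1 := card_conjugates_mul_card_centralizer k
      have h0 : (Finset.univ.filter fun a : H => IsConj k a).card = Nat.card {x : H | IsConj k x} :=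
        (Nat.subtype_card _ (fun a => by simp)).symm
      rw [h0, ← h1]
      push_cast
      simp only [CH]
      ring
    have htot : ∀ h : H,
        ∑ x : G, ∑ g : G, (if x ^ m = g * h * g⁻¹ then θ h * ((CH h : ℂ) / CG h) else 0) =
          (Nat.card G : ℂ) * (θ h * w h) := by
      intro h
      rw [Finset.sum_comm]
      have : ∀ g : G, ∑ x : G, (if x ^ m = g * h * g⁻¹ then θ h * ((CH h : ℂ) / CG h) else 0) =
          (N' h : ℂ) * (θ h * ((CH h : ℂ) / CG h)) := by
        intro g
        rw [← Finset.sum_filter, Finset.sum_const, nsmul_eq_mul]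
        congr 2
        refine Finset.card_bij' (fun x _ => g⁻¹ * x * g) (fun x _ => g * x * g⁻¹) ?_ ?_ ?_ ?_
        · intro x hx
          refine Finset.mem_filter.2 ⟨Finset.mem_univ _, ?_⟩
          have := conj_pow (i := m) (a := g⁻¹) (b := x)
          rw [inv_inv] at this
          rw [this, (Finset.mem_filter.1 hx).2]
          simp [mul_assoc]
        · intro x hx
          refine Finset.mem_filter.2 ⟨Finset.mem_univ _, ?_⟩
          rw [conj_pow, (Finset.mem_filter.1 hx).2]
        · intro x _; simp [mul_assoc]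
        · intro x _; simp [mul_assoc]
      rw [Finset.sum_congr rfl fun g _ => this g, Finset.sum_const, Finset.card_univ, nsmul_eq_mul,
        ← Nat.card_eq_fintype_card]
      simp only [w]
      ring
    have h2 : (Nat.card H : ℂ) * ∑ x : G, bsExt H m θ x =
        (Nat.card G : ℂ) * ∑ h : H, θ h * w h := by
      rw [Finset.mul_sum, Finset.mul_sum, ← Finset.sum_congr rfl fun h _ => htot h, Finset.sum_comm]
      refine Finset.sum_congr rfl fun x _ => ?_
      obtain ⟨k, hk⟩ := hconj x
      rw [hpt x k hk, bsExt_eq H m hfus hθ k hk]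
    have hH0 : (Nat.card H : ℂ) ≠ 0 := Nat.cast_ne_zero.2 Nat.card_pos.ne'
    have hG0 : (Nat.card G : ℂ) ≠ 0 := Nat.cast_ne_zero.2 Nat.card_pos.ne'
    simp only [classInner, Pi.one_apply, map_one, mul_one]
    field_simp
    linear_combination h2
  -- the weight is identically one
  have hwcl : IsClassFunction H w := by
    intro a y
    have hconj' : IsConj (a : G) ((y * a * y⁻¹ : H) : G) := isConj_iff.2 ⟨y, by simp⟩
    obtain ⟨e1, e2⟩ := hCG _ _ hconj'
    have e3 : N' (y * a * y⁻¹) = N' a := by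
      refine Finset.card_bij' (fun x _ => (y : G)⁻¹ * x * y) (fun x _ => (y : G) * x * (y : G)⁻¹)
        ?_ ?_ ?_ ?_
      · intro x hx
        refine Finset.mem_filter.2 ⟨Finset.mem_univ _, ?_⟩
        have := conj_pow (i := m) (a := (y : G)⁻¹) (b := x)
        rw [inv_inv] at this
        rw [this, (Finset.mem_filter.1 hx).2]
        simp [mul_assoc]
      · intro x hx
        refine Finset.mem_filter.2 ⟨Finset.mem_univ _, ?_⟩
        rw [conj_pow, (Finset.mem_filter.1 hx).2]
        simp
      · intro x _; simp [mul_assoc]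
      · intro x _; simp [mul_assoc]
    simp only [w, e1, e2, e3]
  have hwpos : ∀ h : H, ∃ r : ℝ, 0 < r ∧ w h = r := by
    intro h
    refine ⟨(N' h : ℝ) * (CH h : ℝ) / (CG h : ℝ), ?_, by simp [w]⟩
    have h1 : 0 < N' h := Finset.card_pos.2
      ⟨h, Finset.mem_filter.2 ⟨Finset.mem_univ _, hfix _ (hHpow h)⟩⟩
    have h2 : 0 < CH h := Nat.card_pos
    have h3 : 0 < CG h := Nat.card_pos
    positivity
  have hwreal : ∀ h : H, conj (w h) = w h := fun h => by
    obtain ⟨r, -, hr⟩ := hwpos h
    rw [hr, Complex.conj_ofReal]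
  have hwgen : IsGeneralizedCharacter H w := by
    refine isGeneralizedCharacter_iff_classInner.2 ⟨hwcl, fun χ => ?_⟩
    obtain ⟨k, hk⟩ := IsGeneralizedCharacter.classInner_int
      (hgen _ (IsCharacter.conj (IsIrrCharacter.isCharacter χ.2)))
      (isGeneralizedCharacter_of_isCharacter (isCharacter_one (G := G)))
    refine ⟨k, ?_⟩
    rw [← hk, hsum _ (IsCharacter.isClassFunction (IsCharacter.conj (IsIrrCharacter.isCharacter χ.2))),
      classInner]
    congr 1
    exact Finset.sum_congr rfl fun h _ => mul_comm _ _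
  have hwnat : ∀ h : H, ∃ n : ℕ, 0 < n ∧ w h = n := by
    intro h
    obtain ⟨r, hr0, hr⟩ := hwpos h
    have hint := IsGeneralizedCharacter.isIntegral hwgen h
    have hq : w h = ((((N' h : ℚ) * CH h / CG h : ℚ)) : ℂ) := by simp [w]
    rw [hq] at hint
    have hqi : IsIntegral ℤ ((N' h : ℚ) * CH h / CG h) := by
      rw [← isIntegral_algebraMap_iff (B := ℂ) (algebraMap ℚ ℂ).injective]
      exact hint
    obtain ⟨z, hz⟩ := IsIntegrallyClosed.isIntegral_iff.1 hqi
    have hz' : w h = (z : ℂ) := by rw [hq, ← hz]; simp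
    have hzpos : 0 < z := by
      have h' : ((r : ℂ)) = ((z : ℝ) : ℂ) := by rw [← hr, hz']; simp
      have : r = (z : ℝ) := Complex.ofReal_injective h'
      exact_mod_cast this ▸ hr0
    refine ⟨z.toNat, by omega, ?_⟩
    rw [hz']
    have : (z.toNat : ℤ) = z := Int.toNat_of_nonneg hzpos.le
    exact_mod_cast this.symm
  choose wn hwn hwn' using hwnat
  have htotal : ∑ h : H, wn h = Nat.card H := by
    have h1 := hsum 1 (fun _ _ => rfl)
    have h2 : bsExt H m (1 : H → ℂ) = 1 := funext fun x => by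
      obtain ⟨k, hk⟩ := hconj x
      rw [bsExt_eq H m hfus (fun _ _ => rfl) k hk]; rfl
    rw [h2, classInner_irr_self isIrrCharacter_one] at h1
    simp only [Pi.one_apply, one_mul, hwn'] at h1
    have hH0 : (Nat.card H : ℂ) ≠ 0 := Nat.cast_ne_zero.2 Nat.card_pos.ne'
    rw [eq_inv_mul_iff_mul_eq₀ hH0, mul_one] at h1
    exact_mod_cast h1.symm
  have hw1 : ∀ h : H, w h = 1 := by
    intro h
    have h1 : ∀ x ∈ (Finset.univ : Finset H), 1 = wn x := by
      refine (Finset.sum_eq_sum_iff_of_le fun x _ => hwn x).1 ?_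
      rw [htotal, Finset.sum_const, Finset.card_univ, smul_eq_mul, mul_one, Nat.card_eq_fintype_card]
    rw [hwn' h, ← h1 h (Finset.mem_univ h), Nat.cast_one]
  -- extensions of irreducible characters
  have hone : ∀ k : H, bsExt H m (1 : H → ℂ) k = 1 := fun k => by
    rw [bsExt_eq H m hfus (fun _ _ => rfl) k (by rw [hfix _ (hHpow k)])]; rfl
  have hres : ∀ θ : H → ℂ, IsClassFunction H θ → ∀ k : H, bsExt H m θ k = θ k :=
    fun θ hθ k => bsExt_eq H m hfus hθ k (by rw [hfix _ (hHpow k)])
  have hirr : ∀ θ : IrrCharacter H, IsIrrCharacter G (bsExt H m (θ : H → ℂ)) := by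
    intro θ
    have hθ := IsIrrCharacter.isClassFunction θ.2
    have hθθ : IsClassFunction H (fun h => (θ : H → ℂ) h * conj ((θ : H → ℂ) h)) :=
      fun a b => by simp [hθ a b]
    have hnorm : classInner (bsExt H m (θ : H → ℂ)) (bsExt H m (θ : H → ℂ)) = 1 := by
      have e : bsExt H m (fun h => (θ : H → ℂ) h * conj ((θ : H → ℂ) h)) =
          fun x => bsExt H m (θ : H → ℂ) x * conj (bsExt H m (θ : H → ℂ) x) := funext fun x => by
        obtain ⟨k, hk⟩ := hconj x
        rw [bsExt_eq H m hfus hθθ k hk, bsExt_eq H m hfus hθ k hk]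
      have h1 := hsum _ hθθ
      rw [e] at h1
      simp only [classInner, Pi.one_apply, map_one, mul_one, hw1] at h1
      rw [classInner, h1, ← classInner_irr_self θ.2, classInner]
    obtain ⟨χ, hχ, h | h⟩ := IsGeneralizedCharacter.exists_irr_of_norm_one
      (hgen _ (IsIrrCharacter.isCharacter θ.2)) hnorm
    · rwa [h]
    · exfalso
      obtain ⟨n, hn, hn1⟩ := IsIrrCharacter.exists_degree hχ
      obtain ⟨d, hd, hd1⟩ := IsIrrCharacter.exists_degree θ.2
      have h1 := hres _ hθ 1
      rw [OneMemClass.coe_one, h, Pi.neg_apply, hn1, hd1] at h1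
      have h3 : ((d + n : ℕ) : ℂ) = ((0 : ℕ) : ℂ) := by
        push_cast; linear_combination -h1
      have : d + n = 0 := by exact_mod_cast h3
      omega
  -- the kernel
  choose r ρ hρi hρc using hirr
  let K : Subgroup G := ⨅ θ : IrrCharacter H, (ρ θ).ker
  have hKmem : ∀ x : G, x ∈ K ↔ x ^ m = 1 := by
    intro x
    obtain ⟨k, hk⟩ := hconj x
    have hval : ∀ θ : IrrCharacter H, x ∈ (ρ θ).ker ↔ (θ : H → ℂ) k = (θ : H → ℂ) 1 := by
      intro θ
      have hθ := IsIrrCharacter.isClassFunction θ.2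
      have hfin : ((Module.finrank ℂ (Fin (r θ) → ℂ) : ℕ) : ℂ) = (θ : H → ℂ) 1 := by
        rw [← Representation.char_one (ρ θ), hρc θ]
        exact hres _ hθ 1
      rw [MonoidHom.mem_ker, show ((ρ θ) x = 1 ↔ (ρ θ) x = LinearMap.id) from Iff.rfl,
        ← character_eq_finrank_iff, hfin, hρc θ, bsExt_eq H m hfus hθ k hk]
    constructor
    · intro hx
      have h1 : IsConj k 1 := (isConj_iff_irr k 1).2 fun θ =>
        (hval θ).1 ((Subgroup.mem_iInf.1 hx) θ)
      rw [isConj_one_left] at h1
      rw [h1, OneMemClass.coe_one, isConj_one_left] at hk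
      exact hk
    · intro hx
      rw [hx, isConj_one_right] at hk
      have hk1 : k = 1 := Subtype.ext hk
      exact Subgroup.mem_iInf.2 fun θ => (hval θ).2 (by rw [hk1])
  have hnormal : K.Normal := Subgroup.normal_iInf_normal fun θ => MonoidHom.normal_ker _
  have hcard : Nat.card K = H.index := by
    have h1 := hw1 1
    have hCH : CH 1 = Nat.card H := by
      show Nat.card (Subgroup.centralizer ({1} : Set H)) = _
      rw [show Subgroup.centralizer ({1} : Set H) = ⊤ from
        (Subgroup.eq_top_iff' _).2 fun z => Subgroup.mem_centralizer_singleton_iff.2 (by simp),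
        Subgroup.card_top]
    have hCG1 : CG 1 = Nat.card G := by
      show Nat.card (Subgroup.centralizer ({((1 : H) : G)} : Set G)) = _
      rw [show Subgroup.centralizer ({((1 : H) : G)} : Set G) = ⊤ from
        (Subgroup.eq_top_iff' _).2 fun z => Subgroup.mem_centralizer_singleton_iff.2 (by simp),
        Subgroup.card_top]
    have hN1 : N' 1 = Nat.card K := by
      rw [Nat.card_eq_fintype_card, Fintype.card_subtype]
      simp [N', hKmem]
    have hG0 : (Nat.card G : ℂ) ≠ 0 := Nat.cast_ne_zero.2 Nat.card_pos.ne'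
    have h1' : (N' 1 : ℂ) * (CH 1 : ℂ) / (CG 1 : ℂ) = 1 := h1
    rw [hCH, hCG1, hN1, div_eq_one_iff_eq hG0] at h1'
    have : Nat.card K * Nat.card H = Nat.card G := by exact_mod_cast h1'
    rw [hG, mul_comm (Nat.card H)] at this
    exact Nat.eq_of_mul_eq_mul_right Nat.card_pos this
  have hinf : K ⊓ H = ⊥ := by
    rw [eq_bot_iff]
    intro x hx
    have h1 := (hKmem x).1 hx.1
    rw [hfix x (hHpow ⟨x, hx.2⟩)] at h1
    exact h1
  refine ⟨K, hnormal, ?_, hinf⟩
  have hc : Nat.Coprime (Nat.card K) (Nat.card H) := hcard ▸ hHall.symm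
  refine Subgroup.eq_top_of_card_eq _ (Nat.dvd_antisymm (Subgroup.card_subgroup_dvd_card _) ?_)
  rw [hG, mul_comm, ← hcard]
  exact hc.mul_dvd_of_dvd_of_dvd (Subgroup.card_dvd_of_le le_sup_left) (Subgroup.card_dvd_of_le le_sup_right)

end Cfsg.Agent.Char
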