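/-
Character theory core, part 16: Dade's detection of invariant characters on p-elementary subgroups.

* `dvd_sum_of_dvd_fixed`: orbit counting modulo `p`
* `dade_detection`
-/
import Cfsg.Agent.Lib.BrauerLocal.Basic
import Cfsg.Agent.Lib.CliffordChar.Basic

set_option autoImplicit false

namespace Cfsg.Agent.Char

open Cfsg
open scoped ComplexConjugate

/-- A sum invariant under a group acting through a `p`-group is determined mod `p` by fixed points. -/
theorem dvd_sum_of_dvd_fixed {A X : Type*} [Group A] [MulAction A X] [Fintype X] {p k : ℕ}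
    (hp : p.Prime) (hstab : ∀ x : X, (MulAction.stabilizer A x).index ∣ p ^ k) {f : X → ℤ}
    (hf : ∀ (a : A) (x : X), f (a • x) = f x)
    (hfix : ∀ x : X, (∀ a : A, a • x = x) → (p : ℤ) ∣ f x) : (p : ℤ) ∣ ∑ x, f x := by
  classical
  have := Fintype.ofFinite (MulAction.orbitRel.Quotient A X)
  rw [← Finset.sum_fiberwise Finset.univ (Quotient.mk'' : X → MulAction.orbitRel.Quotient A X) f]
  refine Finset.dvd_sum fun q _ => ?_
  induction q using Quotient.inductionOn' with
  | h x =>
    have hset : ∀ y : X, y ∈ (Finset.univ.filter fun z => (Quotient.mk'' z :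
        MulAction.orbitRel.Quotient A X) = Quotient.mk'' x) ↔ y ∈ MulAction.orbit A x := by
      intro y
      rw [Finset.mem_filter, Quotient.eq'', MulAction.orbitRel_apply]
      simp
    have hconst : ∀ y ∈ (Finset.univ.filter fun z => (Quotient.mk'' z :
        MulAction.orbitRel.Quotient A X) = Quotient.mk'' x), f y = f x := by
      intro y hy
      obtain ⟨a, rfl⟩ := (hset y).1 hy
      exact hf a x
    have hcard : (Finset.univ.filter fun z => (Quotient.mk'' z :
        MulAction.orbitRel.Quotient A X) = Quotient.mk'' x).card =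
        (MulAction.stabilizer A x).index := by
      rw [MulAction.index_stabilizer, ← Nat.card_coe_set_eq]
      exact (Nat.subtype_card _ hset).symm
    rw [Finset.sum_congr rfl hconst, Finset.sum_const, hcard, nsmul_eq_mul]
    obtain ⟨j, -, hj⟩ := (Nat.dvd_prime_pow hp).1 (hstab x)
    rcases Nat.eq_zero_or_pos j with rfl | hjpos
    · rw [pow_zero, Subgroup.index_eq_one] at hj
      refine dvd_mul_of_dvd_right (hfix x fun a => ?_) _
      exact MulAction.mem_stabilizer_iff.1 (hj ▸ Subgroup.mem_top a)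
    · rw [hj]
      refine dvd_mul_of_dvd_left ?_ _
      push_cast
      exact dvd_pow_self _ hjpos.ne'

variable {G : Type*} [Group G]

section key

variable [Finite G] (N : Subgroup G) [hN : N.Normal]

/-- The weighted restriction of `|ϑ|²` is divisible by `p` without an invariant detecting character. -/
theorem dvd_inner_of_no_detection [Fintype G] {p k : ℕ} (hp : p.Prime) (hk : N.index = p ^ k)
    [Fintype (N : Subgroup G)] {ϑ : N → ℂ} (hϑ : IsIrrCharacter N ϑ)
    (hinv : ∀ (g : G) (n : N), ϑ ⟨g * n * g⁻¹, hN.conj_mem (n : G) n.2 g⟩ = ϑ n)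
    (E : Subgroup G) [Fintype E] {ψ : E → ℂ} (hψ : IsGeneralizedCharacter E ψ)
    (hno : E ⊔ N = ⊤ → ∀ φ : N.subgroupOf E → ℂ, IsIrrCharacter (N.subgroupOf E) φ →
      (∀ e : E, CliffordChar.conjFun (N.subgroupOf E) e φ = φ) → ∀ m : ℤ,
      ∀ [Fintype (N.subgroupOf E)],
        classInner (fun d : N.subgroupOf E => ϑ ⟨((d : E) : G), d.2⟩) φ = m → (p : ℤ) ∣ m) :
    ∃ z : ℤ, classInner ((fun n : N => Cfsg.indFun E ψ n) * ϑ) ϑ = ((p * z : ℤ) : ℂ) := by
  classical
  set D := N.subgroupOf E
  have := Fintype.ofFinite D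
  have := Fintype.ofFinite (IrrCharacter D)
  let r : D →* N := MonoidHom.codRestrict (E.subtype.comp D.subtype) N (fun d => d.2)
  set θ : D → ℂ := fun d => ϑ ⟨((d : E) : G), d.2⟩ with hθ
  have hθc : IsCharacter D θ := IsCharacter.comp_hom (IsIrrCharacter.isCharacter hϑ) r
  have hψD : IsGeneralizedCharacter D (fun d : D => ψ d) := IsGeneralizedCharacter.restrict hψ D
  obtain ⟨a, ha⟩ := IsGeneralizedCharacter.classInner_int
    (IsGeneralizedCharacter.mul hψD (isGeneralizedCharacter_of_isCharacter hθc))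
    (isGeneralizedCharacter_of_isCharacter hθc)
  -- the inner product on `N` is a multiple of `a`
  have hdvd : D.index ∣ N.index := Subgroup.relIndex_dvd_index_of_normal N E
  obtain ⟨c, hc⟩ := hdvd
  have hmain : classInner ((fun n : N => Cfsg.indFun E ψ n) * ϑ) ϑ = (c : ℂ) * (a : ℂ) := by
    rw [← ha]
    have hx : ∀ x : G, ∑ n : N, extendByZero E ψ (x⁻¹ * n * x) * (ϑ n * conj (ϑ n)) =
        ∑ d : D, ψ (d : E) * (θ d * conj (θ d)) := by
      intro x
      have hsub : ∑ d : D, ψ (d : E) * (θ d * conj (θ d)) =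
          ∑ n : N, extendByZero E ψ (n : G) * (ϑ n * conj (ϑ n)) := by
        rw [← Finset.sum_filter_of_ne (s := Finset.univ) (p := fun n : N => (n : G) ∈ E)
          (fun n _ h => by
            by_contra hn
            rw [extendByZero_not_mem _ _ hn, zero_mul] at h
            exact h rfl)]
        refine (Finset.sum_bij (fun d _ => r d) ?_ ?_ ?_ ?_)
        · intro d _; exact Finset.mem_filter.2 ⟨Finset.mem_univ _, (d : E).2⟩
        · intro d _ d' _ h
          exact Subtype.ext (Subtype.ext (congrArg (fun t : N => (t : G)) h))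
        · intro n hn
          exact ⟨⟨⟨n, (Finset.mem_filter.1 hn).2⟩, n.2⟩, Finset.mem_univ _, rfl⟩
        · intro d _
          rw [show ((r d : N) : G) = ((d : E) : G) from rfl, extendByZero_coe]
          rfl
      rw [hsub]
      refine Fintype.sum_equiv (MulAut.conjNormal x⁻¹ : MulAut N).toEquiv _ _ fun n => ?_
      have e : ϑ ((MulAut.conjNormal x⁻¹ : MulAut N) n) = ϑ n := by
        rw [← hinv x⁻¹ n]
        congr 1
      rw [show ϑ ((MulAut.conjNormal x⁻¹ : MulAut N).toEquiv n) = ϑ n from e]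
      congr 2
      simp
    have hsum : ∑ n : N, Cfsg.indFun E ψ n * (ϑ n * conj (ϑ n)) =
        (Nat.card E : ℂ)⁻¹ * ((Nat.card G : ℂ) * ∑ d : D, ψ (d : E) * (θ d * conj (θ d))) := by
      simp only [Cfsg.indFun, mul_assoc (Nat.card E : ℂ)⁻¹, ← Finset.mul_sum, Finset.sum_mul]
      rw [Finset.sum_comm, Finset.sum_congr rfl fun x _ => hx x, Finset.sum_const, Finset.card_univ,
        nsmul_eq_mul, ← Nat.card_eq_fintype_card]
    simp only [classInner, Pi.mul_apply, mul_assoc]
    rw [hsum]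
    have hG : (Nat.card G : ℂ) = (D.index : ℂ) * (c : ℂ) * (Nat.card N : ℂ) := by
      rw [← Nat.cast_mul, ← Nat.cast_mul, ← hc, N.index_mul_card]
    have hE : (Nat.card E : ℂ) = (D.index : ℂ) * (Nat.card D : ℂ) := by
      rw [← Nat.cast_mul, D.index_mul_card]
    have hN0 : (Nat.card N : ℂ) ≠ 0 := Nat.cast_ne_zero.2 Nat.card_pos.ne'
    have hD0 : (Nat.card D : ℂ) ≠ 0 := Nat.cast_ne_zero.2 Nat.card_pos.ne'
    have hDi : (D.index : ℂ) ≠ 0 := Nat.cast_ne_zero.2 Subgroup.index_ne_zero_of_finite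
    rw [hG, hE]
    field_simp
  rw [hmain]
  obtain ⟨j, -, hj⟩ := (Nat.dvd_prime_pow hp).1 (hk ▸ (Dvd.intro_left D.index hc.symm) : c ∣ p ^ k)
  rcases Nat.eq_zero_or_pos j with rfl | hjpos
  swap
  · refine ⟨(p ^ (j - 1) : ℕ) * a, ?_⟩
    have : c = p * p ^ (j - 1) := by rw [hj, ← pow_succ', Nat.sub_add_cancel hjpos]
    rw [this]; push_cast; ring
  -- now `E ⊔ N = G`
  rw [pow_zero] at hj
  subst hj
  rw [mul_one] at hc
  have htop : E ⊔ N = ⊤ := by
    have h1 : N.relIndex (E ⊔ N) * (E ⊔ N).index = N.index := Subgroup.relIndex_mul_index le_sup_right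
    rw [Subgroup.relIndex_sup_right, show N.relIndex E = D.index from rfl, ← hc] at h1
    refine Subgroup.index_eq_one.1 (Nat.eq_of_mul_eq_mul_left ?_ (h1.trans (mul_one _).symm))
    exact Nat.pos_of_ne_zero Subgroup.index_ne_zero_of_finite
  suffices (p : ℤ) ∣ a by
    obtain ⟨z, rfl⟩ := this
    exact ⟨z, by push_cast; ring⟩
  obtain ⟨n, hn, hn', -⟩ := IsGeneralizedCharacter.exists_coeffs
    (isGeneralizedCharacter_of_isCharacter hθc)
  choose T hT using fun φ φ' : IrrCharacter D =>
    IsGeneralizedCharacter.classInner_int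
      (IsGeneralizedCharacter.mul hψD
        (isGeneralizedCharacter_of_isCharacter (IsIrrCharacter.isCharacter φ.2)))
      (isGeneralizedCharacter_of_isCharacter (IsIrrCharacter.isCharacter φ'.2))
  have hexp : a = ∑ q : IrrCharacter D × IrrCharacter D, n q.1 * n q.2 * T q.1 q.2 := by
    have e : classInner ((fun d : D => ψ d) * θ) θ =
        ∑ q : IrrCharacter D × IrrCharacter D, ((n q.1 * n q.2 * T q.1 q.2 : ℤ) : ℂ) := by
      conv_lhs => rw [hn, Finset.mul_sum, classInner_sum_left]
      rw [Fintype.sum_prod_type]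
      refine Finset.sum_congr rfl fun φ _ => ?_
      rw [classInner_sum_right]
      refine Finset.sum_congr rfl fun φ' _ => ?_
      rw [mul_smul_comm, classInner_smul_left, classInner_smul_right, map_intCast, hT]
      push_cast; ring
    rw [ha] at e
    exact_mod_cast e
  rw [hexp]
  let act : MulAction E (IrrCharacter D) :=
    { smul := fun e φ => ⟨CliffordChar.conjFun D e φ, CliffordChar.isIrr_conjFun D e φ.2⟩
      one_smul := fun φ => Subtype.ext (CliffordChar.conjFun_one D _)
      mul_smul := fun e e' φ => Subtype.ext (CliffordChar.conjFun_mul D e e' _) }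
  have hsmul : ∀ (e : E) (φ : IrrCharacter D),
      ((e • φ : IrrCharacter D) : D → ℂ) = CliffordChar.conjFun D e φ := fun e φ => rfl
  have hθinv : ∀ e : E, CliffordChar.conjFun D e θ = θ := by
    intro e
    funext d
    rw [CliffordChar.conjFun_apply, hθ]
    simp only
    rw [← hinv (e : G)⁻¹ ⟨((d : E) : G), d.2⟩]
    congr 1
    exact Subtype.ext (by simp)
  have hψinv : ∀ e : E, CliffordChar.conjFun D e (fun d : D => ψ d) = fun d : D => ψ d :=
    fun e => CliffordChar.conjFun_restrict D (IsGeneralizedCharacter.isClassFunction hψ) e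
  have hmul : ∀ (e : E) (f f' : D → ℂ),
      CliffordChar.conjFun D e (f * f') = CliffordChar.conjFun D e f * CliffordChar.conjFun D e f' :=
    fun e f f' => rfl
  refine dvd_sum_of_dvd_fixed (A := E) (k := k) hp ?_ ?_ ?_
  · intro q
    refine dvd_trans (Subgroup.index_dvd_of_le (H := D) ?_) (by rw [← hk, hc])
    intro d hd
    have hfix : ∀ φ : IrrCharacter D, d • φ = φ := fun φ => Subtype.ext (by
      funext x
      rw [hsmul, CliffordChar.conjFun_apply]
      have h := IsIrrCharacter.isClassFunction φ.2 x (⟨d, hd⟩⁻¹ : D)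
      rw [inv_inv] at h
      exact h)
    exact MulAction.mem_stabilizer_iff.2 (Prod.ext (hfix q.1) (hfix q.2))
  · intro e q
    have hn1 : ∀ φ, n (e • φ) = n φ := by
      intro φ
      have h1 := hn' (e • φ)
      rw [hsmul] at h1
      conv_lhs at h1 => rw [← hθinv e]
      rw [CliffordChar.classInner_conjFun, hn' φ] at h1
      exact_mod_cast h1.symm
    have hT1 : ∀ φ φ', T (e • φ) (e • φ') = T φ φ' := by
      intro φ φ'
      have h1 := hT (e • φ) (e • φ')
      rw [hsmul, hsmul] at h1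
      conv_lhs at h1 => rw [← hψinv e, ← hmul, CliffordChar.classInner_conjFun, hT φ φ']
      exact_mod_cast h1.symm
    simp only [Prod.smul_fst, Prod.smul_snd, hn1, hT1]
  · intro q hq
    have h1 : ∀ e : E, CliffordChar.conjFun D e (q.1 : D → ℂ) = q.1 := fun e => by
      rw [← hsmul]; exact congrArg (fun t : IrrCharacter D × IrrCharacter D => (t.1 : D → ℂ)) (hq e)
    have h2 : (p : ℤ) ∣ n q.1 := hno htop q.1 q.1.2 h1 (n q.1) (hn' q.1)
    exact dvd_mul_of_dvd_left (dvd_mul_of_dvd_left h2 _) _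

end key

/-- Dade's detection lemma. -/
theorem dade_detection [Fintype G] {p : ℕ} (hp : p.Prime) (N : Subgroup G) [hN : N.Normal]
    (hind : ∃ k : ℕ, N.index = p ^ k) {ϑ : N → ℂ} (hϑ : IsIrrCharacter N ϑ)
    (hinv : ∀ (g : G) (n : N), ϑ ⟨g * n * g⁻¹, hN.conj_mem (n : G) n.2 g⟩ = ϑ n) :
    ∃ (E : Subgroup G) (φ : N.subgroupOf E → ℂ), IsElementary p E ∧ E ⊔ N = ⊤ ∧
      IsIrrCharacter (N.subgroupOf E) φ ∧
      (∀ e : E, CliffordChar.conjFun (N.subgroupOf E) e φ = φ) ∧
      ∃ m : ℤ, ¬ (p : ℤ) ∣ m ∧ ∀ [Fintype (N.subgroupOf E)],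
        classInner (fun d : N.subgroupOf E => ϑ ⟨((d : E) : G), d.2⟩) φ = m := by
  classical
  obtain ⟨k, hk⟩ := hind
  obtain ⟨M, hM, hmem⟩ := BrauerLocal.local_induction (G := G) p hp
  have := Fintype.ofFinite N
  by_contra hno
  suffices key : ∀ f ∈ AddSubgroup.closure (BrauerLocal.pGens G p),
      ∃ z : ℤ, classInner ((fun n : N => f n) * ϑ) ϑ = ((p * z : ℤ) : ℂ) by
    obtain ⟨z, hz⟩ := key _ hmem
    rw [show ((fun n : N => (M : G → ℂ) n) * ϑ) = (M : ℂ) • ϑ from rfl, classInner_smul_left,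
      classInner_irr_self hϑ, mul_one] at hz
    exact hM ⟨z, by exact_mod_cast hz⟩
  intro f hf
  induction hf using AddSubgroup.closure_induction with
  | zero => exact ⟨0, by simp [show ((fun _ : N => (0 : ℂ)) * ϑ) = 0 from zero_mul ϑ]⟩
  | add a b _ _ ha hb =>
    obtain ⟨z, hz⟩ := ha
    obtain ⟨w, hw⟩ := hb
    refine ⟨z + w, ?_⟩
    rw [show ((fun n : N => (a + b) n) * ϑ) = (fun n : N => a n) * ϑ + (fun n : N => b n) * ϑ from
      add_mul (fun n : N => a n) (fun n : N => b n) ϑ, classInner_add_left, hz, hw]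
    push_cast; ring
  | neg a _ ha =>
    obtain ⟨z, hz⟩ := ha
    refine ⟨-z, ?_⟩
    rw [show ((fun n : N => (-a) n) * ϑ) = -((fun n : N => a n) * ϑ) from
      neg_mul (fun n : N => a n) ϑ, classInner_neg_left, hz]
    push_cast; ring
  | mem a ha =>
    obtain ⟨E, ψ, hE, hψ, rfl⟩ := ha
    have := Fintype.ofFinite E
    refine dvd_inner_of_no_detection N hp hk hϑ hinv E hψ fun htop φ hφ hφinv m _ hm => ?_
    by_contra hdvd
    refine hno ⟨E, φ, hE, htop, hφ, hφinv, m, hdvd, fun {inst} => ?_⟩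
    rw [← hm]
    congr 1
    exact Subsingleton.elim _ _

end Cfsg.Agent.Char
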