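/-
Character theory core, part 17: realization of characters over subfields of `ℂ`.

* `IsKChar K G χ`: `χ` is the character of a matrix representation over `K`
* `isKChar_character`, `IsKChar.add`, `IsKChar.isCharacter`, `isKChar_indFun`
* `isKChar_of_add`: descent, a character differing by a `K`-character from a `K`-character is one
* `isKChar_of_exponent_roots`: Brauer's splitting field theorem, character form
-/
import Cfsg.Agent.Lib.Char.Monomial
import Cfsg.Agent.Lib.Char.Eigen

set_option autoImplicit false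

namespace Cfsg.Agent.Char

open Cfsg Module
open scoped ComplexConjugate

section kchar

variable (K : Type*) [Field K] [Algebra K ℂ] (G : Type*) [Group G]

/-- `χ` is afforded by a representation over `K`. -/
def IsKChar (χ : G → ℂ) : Prop :=
  ∃ (d : ℕ) (ρ : Representation K G (Fin d → K)), ∀ g, χ g = algebraMap K ℂ (ρ.character g)

end kchar

variable {K : Type*} [Field K] [Algebra K ℂ] {G : Type*} [Group G]

/-- A finite-dimensional representation over any field, in coordinates. -/
theorem exists_fin_character {k V : Type*} [Field k] [AddCommGroup V] [Module k V]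
    [FiniteDimensional k V] (ρ : Representation k G V) :
    ∃ σ : Representation k G (Fin (finrank k V) → k), σ.character = ρ.character := by
  let e := (Module.finBasis k V).equivFun
  refine ⟨⟨⟨fun g => e.conj (ρ g), ?_⟩, fun a b => ?_⟩, ?_⟩
  · ext v; simp [LinearEquiv.conj_apply, Module.End.one_eq_id]
  · simp [Module.End.mul_eq_comp, LinearEquiv.conj_comp]
  · funext g
    exact LinearMap.trace_conj' (ρ g) e

theorem isKChar_character {V : Type*} [AddCommGroup V] [Module K V] [FiniteDimensional K V]
    (ρ : Representation K G V) : IsKChar K G (fun g => algebraMap K ℂ (ρ.character g)) := by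
  obtain ⟨σ, hσ⟩ := exists_fin_character ρ
  exact ⟨_, σ, fun g => by rw [hσ]⟩

theorem isKChar_zero : IsKChar K G (0 : G → ℂ) :=
  ⟨0, 1, fun g => by simp [Representation.character]⟩

theorem IsKChar.add {χ ψ : G → ℂ} (hχ : IsKChar K G χ) (hψ : IsKChar K G ψ) :
    IsKChar K G (χ + ψ) := by
  obtain ⟨a, ρ, hρ⟩ := hχ
  obtain ⟨b, σ, hσ⟩ := hψ
  obtain ⟨d, τ, hτ⟩ := isKChar_character (ρ.prod σ)
  refine ⟨d, τ, fun g => ?_⟩
  rw [← hτ g, Pi.add_apply, hρ, hσ, ← map_add]
  exact congrArg _ (LinearMap.trace_prodMap' (ρ g) (σ g)).symm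

theorem IsKChar.isCharacter {χ : G → ℂ} (hχ : IsKChar K G χ) : IsCharacter G χ := by
  obtain ⟨d, ρ, hρ⟩ := hχ
  let ρc : Representation ℂ G (Fin d → ℂ) :=
    (Matrix.toLinAlgEquiv').toMonoidHom.comp
      (((algebraMap K ℂ).mapMatrix (m := Fin d)).toMonoidHom.comp
        ((LinearMap.toMatrixAlgEquiv').toMonoidHom.comp ρ))
  refine ⟨d, ρc, funext fun g => ?_⟩
  have e : ρc g = Matrix.toLin' ((LinearMap.toMatrix' (ρ g)).map (algebraMap K ℂ)) := rfl
  rw [Representation.character, e, Matrix.trace_toLin'_eq, hρ, Representation.character]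
  conv_rhs => rw [← Matrix.toLin'_toMatrix' (ρ g), Matrix.trace_toLin'_eq]
  exact (AddMonoidHom.map_trace (algebraMap K ℂ).toAddMonoidHom _).symm

section monomial

variable [Fintype G]

open Classical in
/-- Induced linear characters with values in `K` are `K`-characters. -/
theorem isKChar_indFun (H : Subgroup G) (l : H →* ℂ)
    (hl : ∀ h, l h ∈ Set.range (algebraMap K ℂ)) :
    IsKChar K G (Cfsg.indFun H (fun h => l h)) := by
  have hinj := (algebraMap K ℂ).injective
  choose lK hlK using hl
  have hlK1 : lK 1 = 1 := hinj (by rw [hlK, map_one, map_one])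
  have hlKm : ∀ a b, lK (a * b) = lK a * lK b := fun a b => hinj (by
    rw [hlK, map_mul, map_mul, hlK, hlK])
  let c : G → K := fun y => if h : y ∈ H then lK ⟨y, h⟩ else 0
  have hcm : ∀ y (_ : y ∈ H) z, c (y * z) = c y * c z := by
    intro y hy z
    by_cases hz : z ∈ H
    · simp only [c, dif_pos hy, dif_pos hz, dif_pos (H.mul_mem hy hz)]
      exact hlKm ⟨y, hy⟩ ⟨z, hz⟩
    · simp only [c, dif_neg hz, dif_neg ((H.mul_mem_cancel_left hy).not.2 hz), mul_zero]
  let t : G ⧸ H → G := Quotient.out
  have ht : ∀ q, QuotientGroup.mk (t q) = q := fun q => QuotientGroup.out_eq' q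
  have hmem : ∀ (q : G ⧸ H) (y : G), (t q)⁻¹ * y ∈ H ↔ q = QuotientGroup.mk y := by
    intro q y
    rw [← QuotientGroup.eq, ht]
  let A : G → Matrix (G ⧸ H) (G ⧸ H) K := fun g => Matrix.of fun i j => c ((t i)⁻¹ * g * t j)
  have hA1 : A 1 = 1 := by
    ext i j
    simp only [A, Matrix.of_apply, mul_one, Matrix.one_apply]
    by_cases h : i = j
    · subst h
      simp only [inv_mul_cancel, c, dif_pos H.one_mem]
      exact hlK1
    · rw [if_neg h]
      exact dif_neg fun h' => h (((hmem i (t j)).1 h').trans (ht j))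
  have hAm : ∀ a b, A (a * b) = A a * A b := by
    intro a b
    ext i k
    simp only [A, Matrix.of_apply, Matrix.mul_apply]
    rw [Finset.sum_eq_single (QuotientGroup.mk (b * t k) : G ⧸ H)]
    · set j : G ⧸ H := QuotientGroup.mk (b * t k)
      have hj : (t j)⁻¹ * b * t k ∈ H := by rw [mul_assoc]; exact (hmem j _).2 rfl
      have e : (t i)⁻¹ * (a * b) * t k = (t i)⁻¹ * a * t j * ((t j)⁻¹ * b * t k) := by group
      by_cases hi : (t i)⁻¹ * a * t j ∈ H
      · rw [e, hcm _ hi]
      · rw [show c ((t i)⁻¹ * a * t j) = 0 from dif_neg hi, zero_mul, e]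
        exact dif_neg fun h => hi ((H.mul_mem_cancel_right hj).1 h)
    · intro j _ hj
      have : c ((t j)⁻¹ * b * t k) = 0 := dif_neg fun h => hj ((hmem j _).1 (by rwa [← mul_assoc]))
      rw [this, mul_zero]
    · exact fun h => absurd (Finset.mem_univ _) h
  let ρ : Representation K G ((G ⧸ H) → K) :=
    (Matrix.toLinAlgEquiv').toMonoidHom.comp ⟨⟨A, hA1⟩, hAm⟩
  obtain ⟨d, σ, hσ⟩ := isKChar_character ρ
  refine ⟨d, σ, fun g => ?_⟩
  refine Eq.trans ?_ (hσ g)
  show _ = algebraMap K ℂ (ρ.character g)
  have hρ : ρ.character g = ∑ i, c ((t i)⁻¹ * g * t i) := by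
    show LinearMap.trace K _ (Matrix.toLin' (A g)) = _
    rw [Matrix.trace_toLin'_eq]
    rfl
  have hc : ∀ y, algebraMap K ℂ (c y) = extendByZero H (fun h => l h) y := by
    intro y
    rw [extendByZero_eq]
    simp only [c]
    split_ifs with h
    · exact hlK _
    · exact map_zero _
  have hconj : ∀ x : G, extendByZero H (fun h => l h) (x⁻¹ * g * x) =
      algebraMap K ℂ (c ((t (QuotientGroup.mk x))⁻¹ * g * t (QuotientGroup.mk x))) := by
    intro x
    rw [hc]
    set y := (t (QuotientGroup.mk x))⁻¹ * g * t (QuotientGroup.mk x) with hy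
    have hk : (t (QuotientGroup.mk x))⁻¹ * x ∈ H := (hmem _ _).2 rfl
    set k := (t (QuotientGroup.mk x))⁻¹ * x with hk'
    have e : x⁻¹ * g * x = k⁻¹ * y * k := by rw [hy, hk']; group
    rw [e, extendByZero_eq, extendByZero_eq]
    by_cases h : y ∈ H
    · rw [dif_pos h, dif_pos (H.mul_mem (H.mul_mem (H.inv_mem hk) h) hk)]
      have : (⟨k⁻¹ * y * k, H.mul_mem (H.mul_mem (H.inv_mem hk) h) hk⟩ : H) =
          ⟨k, hk⟩⁻¹ * ⟨y, h⟩ * ⟨k, hk⟩ := rfl
      simp only [this, map_mul]
      rw [mul_comm (l _) (l ⟨y, h⟩), mul_assoc, ← map_mul l _ ⟨k, hk⟩, inv_mul_cancel, map_one,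
        mul_one]
    · rw [dif_neg h, dif_neg]
      rwa [H.mul_mem_cancel_right hk, H.mul_mem_cancel_left (H.inv_mem hk)]
  rw [hρ, map_sum, Cfsg.indFun, Finset.sum_congr rfl fun x _ => hconj x,
    ← Finset.sum_fiberwise Finset.univ (QuotientGroup.mk : G → G ⧸ H)]
  have hfib : ∀ i : G ⧸ H, (Finset.univ.filter fun x : G => (QuotientGroup.mk x : G ⧸ H) = i).card =
      Nat.card H := by
    intro i
    rw [← Fintype.card_subtype, ← Nat.card_eq_fintype_card]
    refine Nat.card_congr
      { toFun := fun x => ⟨(t i)⁻¹ * x.1, (hmem i x.1).2 x.2.symm⟩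
        invFun := fun h => ⟨t i * h.1, ((hmem i _).1 (by simp)).symm⟩
        left_inv := fun x => Subtype.ext (by simp)
        right_inv := fun h => Subtype.ext (by simp) }
  rw [Finset.mul_sum]
  refine Finset.sum_congr rfl fun i _ => ?_
  rw [Finset.sum_congr rfl fun x hx => by rw [(Finset.mem_filter.1 hx).2], Finset.sum_const, hfib,
    nsmul_eq_mul, ← mul_assoc, inv_mul_cancel₀ (Nat.cast_ne_zero.2 Nat.card_pos.ne'), one_mul]

end monomial

section descent

variable [Finite G] [CharZero K]

omit [Algebra K ℂ] in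
theorem character_eq_add {V : Type*} [AddCommGroup V] [Module K V] [FiniteDimensional K V]
    (ρ : Representation K G V) (p : Subrepresentation ρ) :
    ∃ q : Subrepresentation ρ, IsCompl p.toSubmodule q.toSubmodule ∧
      ρ.character = p.toRepresentation.character + q.toRepresentation.character := by
  have : NeZero (Nat.card G : K) := ⟨Nat.cast_ne_zero.2 Nat.card_pos.ne'⟩
  obtain ⟨q, hq⟩ := ComplementedLattice.exists_isCompl p
  have h : IsCompl p.toSubmodule q.toSubmodule := by
    refine ⟨?_, ?_⟩
    · rw [disjoint_iff, ← Subrepresentation.toSubmodule_inf, disjoint_iff.1 hq.1]; rfl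
    · rw [codisjoint_iff, ← Subrepresentation.toSubmodule_sup, codisjoint_iff.1 hq.2]; rfl
  refine ⟨q, h, ?_⟩
  funext g
  have e : ρ.character g = (p.toRepresentation.prod q.toRepresentation).character g := by
    refine congrFun (Representation.char_iso
      (Representation.Equiv.mk (Submodule.prodEquivOfIsCompl _ _ h) fun g => ?_)).symm g
    ext x <;> simp [Subrepresentation.toRepresentation]
  rw [e]
  exact LinearMap.trace_prodMap' _ _

/-- The inner product of two `K`-characters counts intertwining maps. -/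
theorem classInner_kchar [Fintype G] {V W : Type*} [AddCommGroup V] [Module K V]
    [FiniteDimensional K V] [AddCommGroup W] [Module K W] [FiniteDimensional K W]
    (σ : Representation K G V) (ρ : Representation K G W) :
    classInner (fun g => algebraMap K ℂ (ρ.character g))
      (fun g => algebraMap K ℂ (σ.character g)) =
      (finrank K (Representation.IntertwiningMap σ ρ) : ℂ) := by
  have : Invertible (Nat.card G : K) := invertibleOfNonzero (Nat.cast_ne_zero.2 Nat.card_pos.ne')
  have h := congrArg (algebraMap K ℂ)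
    (Representation.card_inv_mul_sum_char_mul_char_eq_finrank σ ρ)
  rw [map_natCast, map_mul, map_inv₀, map_natCast, map_sum] at h
  rw [← h, classInner]
  refine congrArg _ (Finset.sum_congr rfl fun g _ => ?_)
  rw [map_mul, IsCharacter.apply_inv (IsKChar.isCharacter (isKChar_character σ)) g]

/-- Descent: a character which differs from a `K`-character by a `K`-character is a `K`-character. -/
theorem isKChar_of_add {χ : G → ℂ} (hχ : IsCharacter G χ) :
    ∀ {d : ℕ} (σ : Representation K G (Fin d → K)),
      IsKChar K G (fun g => χ g + algebraMap K ℂ (σ.character g)) → IsKChar K G χ := by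
  intro d
  induction d using Nat.strong_induction_on with
  | _ d ih =>
    intro σ h
    rcases Nat.eq_zero_or_pos d with rfl | hd
    · have hz : ∀ g, σ.character g = 0 := fun g => by
        rw [Representation.character, Subsingleton.elim (σ g) 0, map_zero]
      simpa [hz] using h
    have := Fintype.ofFinite G
    obtain ⟨e, ρ, hρ⟩ := h
    have hne : finrank K (Representation.IntertwiningMap σ ρ) ≠ 0 := by
      intro h0
      have e1 := classInner_kchar σ ρ
      rw [h0, show (fun g => algebraMap K ℂ (ρ.character g)) =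
        χ + (fun g => algebraMap K ℂ (σ.character g)) from funext fun g => (hρ g).symm,
        classInner_add_left, classInner_kchar σ σ] at e1
      obtain ⟨m, hm⟩ := IsCharacter.classInner_nat hχ (IsKChar.isCharacter (isKChar_character σ))
      rw [hm] at e1
      have e2 : m + finrank K (Representation.IntertwiningMap σ σ) = 0 := by exact_mod_cast e1
      have : Nonempty (Fin d) := ⟨⟨0, hd⟩⟩
      let idm : Representation.IntertwiningMap σ σ :=
        ⟨LinearMap.id, fun g => by rw [LinearMap.id_comp, LinearMap.comp_id]⟩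
      have hid : idm ≠ 0 := fun h => by
        obtain ⟨v, hv⟩ := exists_ne (0 : Fin d → K)
        exact hv (congrArg (fun f : Representation.IntertwiningMap σ σ => f.toLinearMap v) h)
      have : Nontrivial (Representation.IntertwiningMap σ σ) := ⟨⟨idm, 0, hid⟩⟩
      have := finrank_pos (R := K) (M := Representation.IntertwiningMap σ σ)
      omega
    obtain ⟨f, hf⟩ : ∃ f : Representation.IntertwiningMap σ ρ, f ≠ 0 := by
      by_contra hc
      push Not at hc
      have : Subsingleton (Representation.IntertwiningMap σ ρ) :=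
        ⟨fun a b => (hc a).trans (hc b).symm⟩
      exact hne finrank_zero_of_subsingleton
    obtain ⟨q, -, hρq⟩ := character_eq_add ρ f.range
    obtain ⟨k', hk', hσk⟩ := character_eq_add σ f.ker
    have hmap : ∀ v ∈ k'.toSubmodule, f.toLinearMap v ∈ f.range.toSubmodule :=
      fun v _ => ⟨v, rfl⟩
    let φ₀ : k'.toSubmodule →ₗ[K] f.range.toSubmodule := f.toLinearMap.restrict hmap
    have hφ : Function.Bijective φ₀ := by
      refine ⟨(injective_iff_map_eq_zero φ₀).2 fun v hv => ?_, fun w => ?_⟩
      · exact Subtype.ext (Submodule.disjoint_def.1 hk'.disjoint v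
          (LinearMap.mem_ker.2 (congrArg Subtype.val hv)) v.2)
      · obtain ⟨v, hv⟩ := w.2
        obtain ⟨a, ha, b, hb, rfl⟩ := Submodule.mem_sup.1
          (hk'.sup_eq_top ▸ Submodule.mem_top : v ∈ f.ker.toSubmodule ⊔ k'.toSubmodule)
        refine ⟨⟨b, hb⟩, Subtype.ext ?_⟩
        rw [← hv, map_add, LinearMap.mem_ker.1 ha, zero_add]
        rfl
    have hchar : k'.toRepresentation.character = f.range.toRepresentation.character :=
      Representation.char_iso (Representation.Equiv.mk (LinearEquiv.ofBijective φ₀ hφ) fun g =>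
        LinearMap.ext fun v => Subtype.ext (f.isIntertwining σ ρ g (v : Fin d → K)))
    obtain ⟨σ', hσ'⟩ := exists_fin_character f.ker.toRepresentation
    refine ih _ ?_ σ' ?_
    · refine lt_of_lt_of_eq (Submodule.finrank_lt fun htop => hf ?_) (Module.finrank_fin_fun K)
      refine DFunLike.ext f 0 fun v => ?_
      exact LinearMap.mem_ker.1 (htop ▸ Submodule.mem_top : v ∈ f.ker.toSubmodule)
    · obtain ⟨d', τ, hτ⟩ := isKChar_character q.toRepresentation
      refine ⟨d', τ, fun g => ?_⟩
      rw [← hτ g, hσ']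
      have h1 := hρ g
      simp only [hρq, hσk, hchar, Pi.add_apply, map_add] at h1
      linear_combination h1

/-- Brauer's splitting field theorem, for characters. -/
theorem isKChar_of_exponent_roots [Fintype G]
    (hK : ∀ z : ℂ, z ^ Monoid.exponent G = 1 → z ∈ Set.range (algebraMap K ℂ))
    {χ : G → ℂ} (hχ : IsCharacter G χ) : IsKChar K G χ := by
  suffices key : ∀ L : List ((E : Subgroup G) × ((E →* ℂˣ) × ℤ)), ∃ a b : G → ℂ,
      IsKChar K G a ∧ IsKChar K G b ∧
      (L.map fun t => (t.2.2 : ℂ) • Cfsg.indFun t.1 (fun e => (t.2.1 e : ℂ))).sum = a - b by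
    obtain ⟨L, -, hL⟩ := brauer_induction (isGeneralizedCharacter_of_isCharacter hχ)
    obtain ⟨a, b, ha, ⟨d, σ, hσ⟩, hab⟩ := key L
    refine isKChar_of_add hχ σ ?_
    rw [hL, hab]
    convert ha using 1
    funext g
    rw [Pi.sub_apply, ← hσ g, sub_add_cancel]
  intro L
  induction L with
  | nil => exact ⟨0, 0, isKChar_zero, isKChar_zero, by simp⟩
  | cons t L ih =>
    obtain ⟨a, b, ha, hb, hab⟩ := ih
    obtain ⟨E, l, z⟩ := t
    have hlK : IsKChar K G (Cfsg.indFun E (fun e => (l e : ℂ))) := by
      refine isKChar_indFun E ((Units.coeHom ℂ).comp l) fun e => hK _ ?_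
      have he : e ^ Monoid.exponent G = 1 :=
        Subtype.ext (by rw [Subgroup.coe_pow]; exact Monoid.pow_exponent_eq_one (e : G))
      rw [← map_pow, he, map_one]
    have hns : ∀ n : ℕ, IsKChar K G ((n : ℂ) • Cfsg.indFun E (fun e => (l e : ℂ))) := by
      intro n
      induction n with
      | zero => simpa using isKChar_zero
      | succ n ihn => simpa [add_smul] using IsKChar.add ihn hlK
    rw [List.map_cons, List.sum_cons, hab]
    obtain ⟨n, rfl | rfl⟩ := Int.eq_nat_or_neg z
    · exact ⟨_, b, IsKChar.add (hns n) ha, hb, by push_cast; abel⟩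
    · exact ⟨a, _, ha, IsKChar.add (hns n) hb, by push_cast; rw [neg_smul]; abel⟩

end descent

end Cfsg.Agent.Char
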