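/-
Character theory core, part 15: section indicators and separation modulo a prime.

* `classInner_section_integral`: `n` times the indicator of a π-section has integral coefficients
* `memI_of_conj_regular`, `isConj_regular_of_congr`
-/
import Cfsg.Agent.Lib.Char.PRegular
import Cfsg.Agent.Lib.CentralChar.Congr

set_option autoImplicit false

namespace Cfsg.Agent.Char

open Cfsg Cfsg.Agent.Blocks
open scoped ComplexConjugate

variable {G : Type*} [Group G]

open Classical in
/-- `n` times the indicator of `{x | x ^ k ~ g}` has algebraic-integer coefficients. -/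
theorem classInner_section_integral [Fintype G] {m n k : ℕ} (hmn : Nat.card G = m * n)
    (hcop : m.Coprime n) (hk1 : k ≡ 1 [MOD n]) (hk0 : m ∣ k) (g : G)
    {θ : G → ℂ} (hθ : IsGeneralizedCharacter G θ) :
    IsIntegral ℤ (classInner (fun x => if IsConj (x ^ k) g then (n : ℂ) else 0) θ) := by
  set ϑ : G → ℂ := fun x => if IsConj (x ^ k) g then (n : ℂ) else 0 with hϑ
  have hcl : IsClassFunction G ϑ := by
    intro x y
    have h : IsConj (x ^ k) ((y * x * y⁻¹) ^ k) := isConj_iff.2 ⟨y, by rw [conj_pow]⟩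
    have hiff : IsConj ((y * x * y⁻¹) ^ k) g ↔ IsConj (x ^ k) g :=
      ⟨fun hh => h.trans hh, fun hh => h.symm.trans hh⟩
    simp only [hϑ]
    exact if_congr hiff rfl rfl
  suffices key : ∀ f ∈ AddSubgroup.closure (brauerGens G),
      IsIntegral ℤ (classInner f ϑ) by
    have h := key θ (brauer_mem_closure hθ)
    have := h.map ((starRingEnd ℂ).toIntAlgHom)
    simpa [classInner_conj_symm] using this
  intro f hf
  induction hf using AddSubgroup.closure_induction with
  | zero => simpa using isIntegral_zero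
  | add a b _ _ ha hb => rw [classInner_add_left]; exact ha.add hb
  | neg a _ ha => rw [classInner_neg_left]; exact ha.neg
  | mem a ha =>
    obtain ⟨E, q, ψ, hq, hE, hψ, rfl⟩ := ha
    have := Fintype.ofFinite E
    rw [frobenius_reciprocity E ψ hcl]
    suffices key : ∀ lam : E → ℂ, IsCharacter E lam →
        IsIntegral ℤ (classInner lam (fun e : E => ϑ e)) by
      obtain ⟨a, b, ha, hb, rfl⟩ := hψ
      rw [classInner_sub_left]
      exact (key a ha).sub (key b hb)
    intro lam hlam
    have := isNilpotent_of_isElementary hq hE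
    set A := Nat.gcd (Nat.card E) m with hA
    set B := Nat.gcd (Nat.card E) n with hB
    have hEAB : Nat.card E = A * B := by
      rw [hA, hB, ← Nat.Coprime.gcd_mul _ hcop, ← hmn]
      exact (Nat.gcd_eq_left E.card_subgroup_dvd_card).symm
    obtain ⟨P, Q, e, he, hP, hQ, hcP, hcQ⟩ := exists_split
      ((hcop.coprime_dvd_left (Nat.gcd_dvd_right _ _)).coprime_dvd_right (Nat.gcd_dvd_right _ _))
      hEAB
    have := Fintype.ofFinite P
    have := Fintype.ofFinite Q
    have hpow : ∀ (u : P) (v : Q), ((e (u, v) : E) : G) ^ k = ((v : E) : G) := by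
      intro u v
      have hu : (u : E) ^ k = 1 := by
        obtain ⟨r, hr⟩ := (Nat.gcd_dvd_right (Nat.card E) m).trans hk0
        rw [hr, pow_mul, (hP u).1 u.2, one_pow]
      have hv : (v : E) ^ k = v := by
        have := (pow_eq_pow_iff_modEq (x := (v : E)) (n := k) (m := 1)).2
          ((hk1.of_dvd (Nat.gcd_dvd_right _ _)).of_dvd (orderOf_dvd_of_pow_eq_one ((hQ v).1 v.2)))
        simpa using this
      have : e (u, v) ^ k = (v : E) := by
        rw [← map_pow, Prod.pow_mk, he]
        simp [hu, hv]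
      rw [← Subgroup.coe_pow, this]
    have havg := IsCharacter.average_fst (IsCharacter.comp_equiv hlam e)
    obtain ⟨r, hr⟩ := Nat.gcd_dvd_right (Nat.card E) n
    have e2 : classInner lam (fun x : E => ϑ x) =
        (r : ℂ) * ∑ v : Q, (if IsConj ((v : E) : G) g then
          (Nat.card P : ℂ)⁻¹ * ∑ u : P, lam (e (u, v)) else 0) := by
      rw [classInner, ← Equiv.sum_comp e.toEquiv, Fintype.sum_prod_type, Finset.sum_comm,
        Finset.mul_sum, Finset.mul_sum]
      refine Finset.sum_congr rfl fun v _ => ?_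
      simp only [hϑ, MulEquiv.toEquiv_eq_coe, MulEquiv.coe_toEquiv, hpow]
      by_cases hv : IsConj ((v : E) : G) g
      · simp only [if_pos hv, map_natCast]
        rw [← Finset.sum_mul]
        have hn0 : (n : ℂ) = (B : ℂ) * (r : ℂ) := by rw [← Nat.cast_mul]; exact congrArg _ hr
        have hE0 : (Nat.card E : ℂ) = (Nat.card P : ℂ) * (B : ℂ) := by
          rw [hcP, ← Nat.cast_mul]; exact congrArg _ hEAB
        have hB0 : (B : ℂ) ≠ 0 := by
          rw [hB, ← hcQ]; exact Nat.cast_ne_zero.2 Nat.card_pos.ne'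
        rw [hn0, hE0]
        field_simp
      · simp only [if_neg hv, map_zero, mul_zero, Finset.sum_const_zero]
    rw [e2]
    refine (isIntegral_algebraMap (R := ℤ) (A := ℂ) (x := (r : ℤ))).mul (IsIntegral.sum _ fun v _ => ?_)
    split_ifs
    · exact IsCharacter.isIntegral havg v
    · exact isIntegral_zero

variable [Finite G] {p : ℕ} {M : Ideal AlgInt}

/-- Elements with the p-part removed: `x = a * y`. -/
theorem pPart_pow (hp : p.Prime) {x a : G} (h : IsPPart p x a) {m : ℕ}
    (hm0 : p ^ (Nat.card G).factorization p ∣ m)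
    (hm1 : m ≡ 1 [MOD Nat.card G / p ^ (Nat.card G).factorization p]) :
    x ^ m = a⁻¹ * x ∧ x ^ p ^ (Nat.card G).factorization p =
      (a⁻¹ * x) ^ p ^ (Nat.card G).factorization p := by
  obtain ⟨y, rfl, hc, ⟨j, hj⟩, hy⟩ := h
  have hja : orderOf a ∣ p ^ (Nat.card G).factorization p := by
    rw [hj]
    refine Nat.pow_dvd_pow p ((hp.pow_dvd_iff_le_factorization Nat.card_pos.ne').1 ?_)
    rw [← hj]; exact orderOf_dvd_natCard a
  have hyl : orderOf y ∣ Nat.card G / p ^ (Nat.card G).factorization p := by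
    have h1 : orderOf y ∣ p ^ (Nat.card G).factorization p *
        (Nat.card G / p ^ (Nat.card G).factorization p) := by
      rw [Nat.ordProj_mul_ordCompl_eq_self]; exact orderOf_dvd_natCard y
    exact Nat.Coprime.dvd_of_dvd_mul_left ((hp.coprime_iff_not_dvd.2 hy).pow_left _).symm h1
  rw [inv_mul_cancel_left]
  constructor
  · rw [hc.mul_pow]
    have h1 : a ^ m = 1 := orderOf_dvd_iff_pow_eq_one.1 (hja.trans hm0)
    have h2 := (pow_eq_pow_iff_modEq (x := y) (n := m) (m := 1)).2 (hm1.of_dvd hyl)
    rw [h1, h2, pow_one, one_mul]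
  · rw [hc.mul_pow, orderOf_dvd_iff_pow_eq_one.1 hja, one_mul]

theorem memI_of_conj_regular (hM : IsPModular p M) {x y a b : G} (ha : IsPPart p x a)
    (hb : IsPPart p y b) (h : IsConj (a⁻¹ * x) (b⁻¹ * y)) {χ : G → ℂ} (hχ : IsCharacter G χ) :
    MemLocalIdeal M (χ x - χ y) := by
  obtain ⟨m, hm0, hm1⟩ := exists_pParts_exponent p (Nat.card G) hM.1 Nat.card_pos.ne'
  have h1 := CentralChar.memI_sub_of_pow_eq hM hχ (pPart_pow hM.1 ha hm0 hm1).2
  have h2 := CentralChar.memI_sub_of_pow_eq hM hχ (pPart_pow hM.1 hb hm0 hm1).2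
  obtain ⟨c, hc⟩ := isConj_iff.1 h
  have e : χ (b⁻¹ * y) = χ (a⁻¹ * x) := by rw [← hc, IsCharacter.isClassFunction hχ]
  rw [e] at h2
  exact memI_sub_trans hM h1 (memI_sub_comm h2)

theorem isConj_regular_of_congr (hM : IsPModular p M) {x y a b : G} (ha : IsPPart p x a)
    (hb : IsPPart p y b)
    (h : ∀ χ : IrrCharacter G, MemLocalIdeal M ((χ : G → ℂ) x - (χ : G → ℂ) y)) :
    IsConj (a⁻¹ * x) (b⁻¹ * y) := by
  classical
  have := Fintype.ofFinite G
  have := Fintype.ofFinite (IrrCharacter G)
  by_contra hne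
  obtain ⟨f, hf, ⟨n, hn, hfx⟩, m, hm0, hm1, hsupp⟩ := exists_brauer_local_supp x p hM.1
  have hfy : f y = 0 := by
    by_contra hy
    have := hsupp y hy
    rw [(pPart_pow hM.1 ha hm0 hm1).1, (pPart_pow hM.1 hb hm0 hm1).1] at this
    exact hne this
  have hdiff : ∀ F ∈ Submodule.span (integralClosure ℤ ℂ) (brauerGens G),
      MemLocalIdeal M (F x - F y) := by
    intro F hF
    induction hF using Submodule.span_induction with
    | mem a ha =>
      obtain ⟨k, hk, -, -⟩ := IsGeneralizedCharacter.exists_coeffs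
        (brauerGens_isGeneralizedCharacter (AddSubgroup.subset_closure ha))
      rw [hk]
      simp only [Finset.sum_apply, Pi.smul_apply, smul_eq_mul, ← Finset.sum_sub_distrib, ← mul_sub]
      exact memI_sum hM _ fun χ _ => memI_mul_left hM (memR_intCast hM _) (h χ)
    | zero => simpa using memI_zero hM
    | add a b _ _ ha hb =>
      simpa [add_sub_add_comm] using memI_add hM ha hb
    | smul r a _ ha =>
      have e : ((r • a) x - (r • a) y) = (r : ℂ) * (a x - a y) := by
        show (r : ℂ) * a x - (r : ℂ) * a y = _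
        ring
      rw [e]
      exact memI_mul_left hM (memR_of_isIntegral hM r.2) ha
  have := hdiff f hf
  rw [hfx, hfy, sub_zero] at this
  exact not_memI_natCast hM hn this

end Cfsg.Agent.Char
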